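import Cfsg.Agent.S3331
import Cfsg.Agent.Lib.Transfer.SimpleCount
import Cfsg.Agent.Lib.Classical.PSLTwoPerm
import Mathlib

/-!
# A 3-group acting on a group with a self-centralising element of order three
-/

set_option autoImplicit false

namespace CfsgLib.Recog.SymNine

universe u v

variable {L : Type u} [Group L]

/-- a 3-group acting on a nonempty finite set of size prime to 3 fixes a point -/
theorem exists_fixed {A : Type v} [Group A] (hA : IsPGroup 3 A) {α : Type*} [MulAction A α]
    [Finite α] (h : ¬ 3 ∣ Nat.card α) : ∃ x : α, ∀ a : A, a • x = x := by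
  have : Fact (Nat.Prime 3) := ⟨Nat.prime_three⟩
  exact hA.nonempty_fixed_point_of_prime_not_dvd_card α h

/-- a 3-group of automorphisms fixes a Sylow subgroup when their number is prime to 3 -/
theorem exists_sylow_fixed [Finite L] {A : Type v} [Group A] (hA : IsPGroup 3 A)
    (ψ : A →* MulAut L) {p : ℕ} [Fact p.Prime] (h : ¬ 3 ∣ Nat.card (Sylow p L)) :
    ∃ R : Sylow p L, ∀ a, (R : Subgroup L).map (ψ a).toMonoidHom = R := by
  let _ : MulDistribMulAction A L := MulDistribMulAction.compHom L ψ
  obtain ⟨R, hR⟩ := exists_fixed hA (α := Sylow p L) h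
  refine ⟨R, fun a => ?_⟩
  have := congrArg (fun S : Sylow p L => (S : Subgroup L)) (hR a)
  conv_rhs => rw [← this]
  ext x
  rfl

/-- the four group of `A₅` fixing the last point -/
def altV : Finset (alternatingGroup (Fin 5)) :=
  Finset.univ.filter fun g => (g : Equiv.Perm (Fin 5)) 4 = 4 ∧ g * g = 1

theorem altV_card : altV.card = 4 := by decide +kernel

theorem altV_one : (1 : alternatingGroup (Fin 5)) ∈ altV := by decide +kernel

theorem altV_mul : ∀ a ∈ altV, ∀ b ∈ altV, a * b ∈ altV := by decide +kernel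

theorem altV_inv : ∀ a ∈ altV, a⁻¹ ∈ altV := by decide +kernel

theorem altV_stable : ∀ g : alternatingGroup (Fin 5), (g : Equiv.Perm (Fin 5)) 4 = 4 →
    ∀ h ∈ altV, g * h * g⁻¹ ∈ altV := by decide +kernel

theorem card_stab_alt : (Finset.univ.filter fun g : alternatingGroup (Fin 5) =>
    (g : Equiv.Perm (Fin 5)) 4 = 4).card = 12 := by decide +kernel

theorem card_alt_five : Nat.card (alternatingGroup (Fin 5)) = 60 := by
  rw [Nat.card_eq_fintype_card]; decide +kernel

theorem sylow_two_alt_five : ¬ 3 ∣ Nat.card (Sylow 2 (alternatingGroup (Fin 5))) := by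
  have h4 := altV_card
  have h1 := altV_one
  have hmul := altV_mul
  have hinv := altV_inv
  let VS : Subgroup (alternatingGroup (Fin 5)) :=
    { carrier := {g | g ∈ altV}
      one_mem' := h1
      mul_mem' := fun {a b} ha hb => hmul a ha b hb
      inv_mem' := fun {a} ha => hinv a ha }
  have hVSc : Nat.card VS = 2 ^ 2 :=
    (Nat.card_congr (Equiv.subtypeEquivRight fun _ => Iff.rfl)).trans
      ((Nat.card_eq_finsetCard altV).trans h4)
  have : Fact (Nat.Prime 2) := ⟨Nat.prime_two⟩
  have hfac : (Nat.card (alternatingGroup (Fin 5))).factorization 2 = 2 := by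
    rw [card_alt_five, show (60 : ℕ) = 2 ^ 2 * 15 by norm_num,
      Nat.factorization_mul (by norm_num) (by norm_num),
      Nat.Prime.factorization_pow Nat.prime_two]
    simp [Nat.factorization_eq_zero_of_not_dvd (show ¬ 2 ∣ 15 by norm_num)]
  let Q : Sylow 2 (alternatingGroup (Fin 5)) := Sylow.ofCard VS (by rw [hfac, hVSc])
  have hnc : ¬ IsMulCommutative (alternatingGroup (Fin 5)) := fun h =>
    absurd (fun a b => h.is_comm.comm a b)
      (by decide +kernel : ¬ ∀ a b : alternatingGroup (Fin 5), a * b = b * a)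
  obtain ⟨-, -, -, hf⟩ := CfsgLib.Transfer.sylow_count_of_simple (p := 2) hnc
    (by rw [card_alt_five]; norm_num)
  have hcard : Nat.card (Sylow 2 (alternatingGroup (Fin 5))) =
      (Subgroup.normalizer (VS : Set (alternatingGroup (Fin 5)))).index :=
    Q.card_eq_index_normalizer
  have hle : 12 ≤ Nat.card (Subgroup.normalizer (VS : Set (alternatingGroup (Fin 5)))) := by
    rw [← card_stab_alt, ← Nat.card_eq_finsetCard]
    refine Nat.card_le_card_of_injective (fun g => ⟨g.1, Subgroup.mem_normalizer_iff.2 fun h =>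
      ⟨altV_stable g.1 (Finset.mem_filter.1 g.2).2 h, fun hh => ?_⟩⟩) ?_
    · have hg : ((g.1⁻¹ : alternatingGroup (Fin 5)) : Equiv.Perm (Fin 5)) 4 = 4 := by
        show (g.1 : Equiv.Perm (Fin 5))⁻¹ 4 = 4
        exact Equiv.Perm.inv_eq_iff_eq.2 (Finset.mem_filter.1 g.2).2.symm
      have := altV_stable _ hg _ hh
      show h ∈ altV
      simpa [mul_assoc] using this
    · intro a b hab
      exact Subtype.ext (Subtype.mk.inj hab)
  have hmul' := Subgroup.card_mul_index (Subgroup.normalizer (VS : Set (alternatingGroup (Fin 5))))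
  rw [card_alt_five, ← hcard] at hmul'
  rw [card_alt_five] at hf
  intro h3
  obtain ⟨k, hk⟩ := h3
  have hn5 : Nat.card (Sylow 2 (alternatingGroup (Fin 5))) ≤ 5 := by
    have := Nat.mul_le_mul_right (Nat.card (Sylow 2 (alternatingGroup (Fin 5)))) hle
    omega
  rw [hk] at hf hn5
  have : k ≤ 1 := by omega
  interval_cases k <;> norm_num [Nat.factorial] at hf

theorem card_psl_seven :
    Nat.card (Matrix.ProjectiveSpecialLinearGroup (Fin 2) (ZMod 7)) = 168 := by
  have : Fact (Nat.Prime 7) := ⟨by norm_num⟩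
  exact CfsgLib.Classical.card_psl_two_eq (ZMod.card 7) 168 (by norm_num)

/-- the dichotomy: small, or an invariant nontrivial subgroup of prime power order prime to 3 -/
theorem card_dvd_six_or_exists_invariant [Finite L] {A : Type v} [Group A] (hA : IsPGroup 3 A)
    (ψ : A →* MulAut L) {X : Subgroup L} (hX : Nat.card X = 3)
    (hC : Subgroup.centralizer (X : Set L) = X) :
    Nat.card L ∣ 6 ∨ ∃ (p : ℕ) (R : Subgroup L), p.Prime ∧ p ≠ 3 ∧ IsPGroup p R ∧ R ≠ ⊥ ∧
      ∀ a, R.map (ψ a).toMonoidHom = R := by
  classical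
  rcases Cfsg.Agent.S3331.result X hX hC with ⟨W, hW, hnil, hcop, hq⟩ | ⟨W, hW, hWc, hW2, hq⟩ | hq
  · by_cases hWb : W = ⊥
    · left
      have h := W.card_eq_card_quotient_mul_card_subgroup
      rw [hWb, Subgroup.card_bot, mul_one] at h
      rw [h]
      subst hWb
      rcases hq with hq | ⟨⟨e⟩⟩
      · rw [hq]; norm_num
      · rw [Nat.card_congr e.toEquiv, Nat.card_perm, Nat.card_fin]; norm_num [Nat.factorial]
    right
    have hWc : 1 < Nat.card W := by
      rcases Nat.lt_or_ge 1 (Nat.card W) with h | h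
      · exact h
      · exact absurd (Subgroup.eq_bot_of_card_le W h) hWb
    obtain ⟨p, hp, hpW⟩ := Nat.exists_prime_and_dvd hWc.ne'
    have hp3 : p ≠ 3 := fun h => by
      subst h
      exact absurd (Nat.dvd_gcd hpW dvd_rfl) (by rw [hcop.gcd_eq_one]; norm_num)
    have hq6 : Nat.card (L ⧸ W) = 3 ∨ Nat.card (L ⧸ W) = 6 := by
      rcases hq with hq | ⟨⟨e⟩⟩
      · exact Or.inl hq
      · right
        rw [Nat.card_congr e.toEquiv, Nat.card_perm, Nat.card_fin]; rfl
    -- `W` is the largest normal subgroup of order prime to three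
    have hmax : ∀ K : Subgroup L, K.Normal → Nat.card K = Nat.card W → K = W := by
      intro K hK hKc
      refine Subgroup.eq_of_le_of_card_ge ?_ hKc.ge
      have hn : (K.map (QuotientGroup.mk' W)).Normal := hK.map _ (QuotientGroup.mk'_surjective W)
      have hd1 : Nat.card (K.map (QuotientGroup.mk' W)) ∣ Nat.card W :=
        hKc ▸ Subgroup.card_map_dvd K _
      have hd2 : Nat.card (K.map (QuotientGroup.mk' W)) ∣ Nat.card (L ⧸ W) :=
        Subgroup.card_subgroup_dvd_card _
      have hbot : K.map (QuotientGroup.mk' W) = ⊥ := by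
        rcases hq6 with h | h
        · rw [h] at hd2
          refine Subgroup.card_eq_one.1 (Nat.eq_one_of_dvd_coprimes hcop hd1 hd2)
        · rcases hq with hq | ⟨⟨e⟩⟩
          · omega
          rw [h] at hd2
          have h2 : Nat.card (K.map (QuotientGroup.mk' W)) ∣ 2 :=
            (Nat.Coprime.dvd_of_dvd_mul_right (Nat.Coprime.coprime_dvd_left hd1 hcop)
              (show Nat.card (K.map (QuotientGroup.mk' W)) ∣ 2 * 3 from hd2))
          rcases (Nat.dvd_prime Nat.prime_two).1 h2 with h1 | h1
          · exact Subgroup.card_eq_one.1 h1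
          exfalso
          set K' := (K.map (QuotientGroup.mk' W)).map e.toMonoidHom with hK'
          have hn' : K'.Normal := hn.map _ e.surjective
          obtain ⟨t, ht, ht1⟩ := (Nat.card_eq_two_iff' (1 : K')).1 (by
            rw [hK', Subgroup.card_map_of_injective e.injective]; exact h1)
          have hconj : ∀ g, g * (t : Equiv.Perm (Fin 3)) * g⁻¹ = t := fun g => by
            have hne : (⟨_, hn'.conj_mem _ t.2 g⟩ : K') ≠ 1 := fun hh => ht (Subtype.ext (by
              have := congrArg Subtype.val hh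
              simpa [conj_eq_one_iff] using this))
            exact congrArg Subtype.val (ht1 _ hne)
          exact ht (Subtype.ext ((by decide +kernel :
            ∀ t : Equiv.Perm (Fin 3), (∀ g, g * t * g⁻¹ = t) → t = 1) _ hconj))
      intro x hx
      have hxb : QuotientGroup.mk' W x ∈ K.map (QuotientGroup.mk' W) := ⟨x, hx, rfl⟩
      rw [hbot, Subgroup.mem_bot] at hxb
      exact (QuotientGroup.eq_one_iff x).1 hxb
    have : Fact p.Prime := ⟨hp⟩
    obtain ⟨P⟩ : Nonempty (Sylow p W) := inferInstance
    have hPn : (P : Subgroup W).Normal := Sylow.normal_of_normalizerCondition Group.normalizerCondition_of_isNilpotent P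
    refine ⟨p, (P : Subgroup W).map W.subtype, hp, hp3, P.2.map _, ?_, fun a => ?_⟩
    · intro hb
      rw [Subgroup.map_eq_bot_iff, W.ker_subtype, le_bot_iff] at hb
      exact P.ne_bot_of_dvd_card hpW hb
    have hWa : W.map (ψ a).toMonoidHom = W := hmax _ (hW.map _ (ψ a).surjective)
      (Subgroup.card_map_of_injective (ψ a).injective)
    set R := (P : Subgroup W).map W.subtype
    have hRW : R ≤ W := Subgroup.map_subtype_le _
    have hR'W : R.map (ψ a).toMonoidHom ≤ W := (Subgroup.map_mono hRW).trans hWa.le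
    have hP' : IsPGroup p ((R.map (ψ a).toMonoidHom).subgroupOf W) :=
      ((P.2.map W.subtype).map _).of_equiv (Subgroup.subgroupOfEquivOfLe hR'W).symm
    obtain ⟨Q, hQ⟩ := hP'.exists_le_sylow
    have : Subsingleton (Sylow p W) := (Sylow.unique_of_normal P hPn).instSubsingleton
    rw [Subsingleton.elim Q P] at hQ
    refine Subgroup.eq_of_le_of_card_ge (fun x hx => ?_) ?_
    · exact ⟨⟨x, hR'W hx⟩, hQ (Subgroup.mem_subgroupOf.2 hx), rfl⟩
    · exact (Subgroup.card_map_of_injective (ψ a).injective).ge
  · by_cases hWb : W = ⊥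
    · right
      obtain ⟨e⟩ := hq
      subst hWb
      let e' : L ≃* alternatingGroup (Fin 5) := (QuotientGroup.quotientBot (G := L)).symm.trans e
      have : Fact (Nat.Prime 2) := ⟨Nat.prime_two⟩
      obtain ⟨R, hR⟩ := exists_sylow_fixed hA
        ((MulAut.congr e').toMonoidHom.comp ψ) sylow_two_alt_five
      refine ⟨2, (R : Subgroup (alternatingGroup (Fin 5))).map e'.symm.toMonoidHom, Nat.prime_two,
        by norm_num, R.2.map _, ?_, fun a => ?_⟩
      · rw [Ne, Subgroup.map_eq_bot_iff_of_injective _ e'.symm.injective]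
        exact R.ne_bot_of_dvd_card (by rw [card_alt_five]; norm_num)
      · conv_rhs => rw [← hR a]
        rw [Subgroup.map_map, Subgroup.map_map]
        congr 1
        ext x
        show (ψ a) (e'.symm x) = e'.symm (e' ((ψ a) (e'.symm x)))
        rw [MulEquiv.symm_apply_apply]
    · right
      have hW2' : IsPGroup 2 W := fun w => ⟨1, Subtype.ext (by simpa using hW2 w w.2)⟩
      have hmax : ∀ K : Subgroup L, K.Normal → IsPGroup 2 K → K ≤ W := by
        intro K hK hK2
        obtain ⟨e⟩ := hq
        have hn : ((K.map (QuotientGroup.mk' W)).map e.toMonoidHom).Normal :=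
          (hK.map _ (QuotientGroup.mk'_surjective W)).map _ e.surjective
        rcases hn.eq_bot_or_eq_top with hb | ht
        · intro x hx
          have : e (QuotientGroup.mk' W x) = 1 := by
            have hmem : e (QuotientGroup.mk' W x) ∈ (K.map (QuotientGroup.mk' W)).map e.toMonoidHom :=
              ⟨_, ⟨x, hx, rfl⟩, rfl⟩
            rwa [hb, Subgroup.mem_bot] at hmem
          exact (QuotientGroup.eq_one_iff x).1 (e.injective (this.trans (map_one e).symm))
        · exfalso
          obtain ⟨n, hn⟩ := ((hK2.map (QuotientGroup.mk' W)).map e.toMonoidHom).exists_card_eq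
          rw [ht, Subgroup.card_top, Nat.card_eq_fintype_card,
            show Fintype.card (alternatingGroup (Fin 5)) = 60 by decide +kernel] at hn
          have h5 : 5 ∣ 2 ^ n := hn ▸ (by norm_num)
          exact absurd (Nat.le_of_dvd (by norm_num) ((by norm_num : Nat.Prime 5).dvd_of_dvd_pow h5))
            (by norm_num)
      refine ⟨2, W, Nat.prime_two, by norm_num, hW2', hWb, fun a => ?_⟩
      refine Subgroup.eq_of_le_of_card_ge
        (hmax _ (hW.map _ (ψ a).surjective) (hW2'.map _)) ?_
      rw [Subgroup.card_map_of_injective (ψ a).injective]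
  · right
    obtain ⟨e⟩ := hq
    have h168 : Nat.card L = 168 := (Nat.card_congr e.toEquiv).trans card_psl_seven
    have : Fact (Nat.Prime 7) := ⟨by norm_num⟩
    have hn : ¬ 3 ∣ Nat.card (Sylow 7 L) := by
      obtain ⟨Q⟩ : Nonempty (Sylow 7 L) := inferInstance
      have hd : Nat.card (Sylow 7 L) ∣ 168 := h168 ▸ Q.card_dvd_index.trans Q.index_dvd_card
      have hmod : Nat.card (Sylow 7 L) ≡ 1 [MOD 7] := card_sylow_modEq_one 7 L
      have key : ∀ d ∈ Nat.divisors 168, d % 7 = 1 → ¬ 3 ∣ d := by decide +kernel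
      exact key _ (Nat.mem_divisors.2 ⟨hd, by norm_num⟩) hmod
    obtain ⟨R, hR⟩ := exists_sylow_fixed hA ψ hn
    exact ⟨7, R, by norm_num, by norm_num, R.2, R.ne_bot_of_dvd_card (by rw [h168]; norm_num), hR⟩

end CfsgLib.Recog.SymNine
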