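import Mathlib

/-!
# Lifting a `p`-subgroup through a central subgroup
-/

set_option autoImplicit false

namespace CfsgLib.Recog.SymNine

universe u

/-- A nontrivial `p`-subgroup of `M ⧸ Z`, `Z` central, has a nontrivial `p`-subgroup over it fixed by
every automorphism fixing its preimage. -/
theorem exists_lift_invariant {M : Type u} [Group M] [Finite M] (Z : Subgroup M) [Z.Normal]
    (hZ : Z ≤ Subgroup.center M) {p : ℕ} [Fact p.Prime] (R : Subgroup (M ⧸ Z)) (hR : IsPGroup p R)
    (hne : R ≠ ⊥) :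
    ∃ K : Subgroup M, IsPGroup p K ∧ K ≠ ⊥ ∧ K ≤ R.comap (QuotientGroup.mk' Z) ∧
      ∀ φ : MulAut M, (R.comap (QuotientGroup.mk' Z)).map φ.toMonoidHom =
        R.comap (QuotientGroup.mk' Z) → K.map φ.toMonoidHom = K := by
  set T := R.comap (QuotientGroup.mk' Z) with hT
  let f : T →* R := ((QuotientGroup.mk' Z).comp T.subtype).codRestrict R fun t => t.2
  have hf : f.ker ≤ Subgroup.center T := fun t ht => by
    have h1 : QuotientGroup.mk' Z (t : M) = 1 := congrArg Subtype.val ht
    exact Subgroup.mem_center_iff.2 fun s => Subtype.ext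
      (Subgroup.mem_center_iff.1 (hZ ((QuotientGroup.eq_one_iff _).1 h1)) (s : M))
  have hRnil : Group.IsNilpotent R := hR.isNilpotent
  have hTnil : Group.IsNilpotent T := Subgroup.isNilpotent_of_ker_le_center f hf
  obtain ⟨P⟩ : Nonempty (Sylow p T) := inferInstance
  have hPn : (P : Subgroup T).Normal :=
    Sylow.normal_of_normalizerCondition Group.normalizerCondition_of_isNilpotent P
  have : Subsingleton (Sylow p T) := (Sylow.unique_of_normal P hPn).instSubsingleton
  have hfs : Function.Surjective f := fun r => by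
    obtain ⟨m, hm⟩ := QuotientGroup.mk'_surjective Z (r : M ⧸ Z)
    exact ⟨⟨m, show QuotientGroup.mk' Z m ∈ R from hm ▸ r.2⟩, Subtype.ext hm⟩
  have hdvd : p ∣ Nat.card T := by
    refine dvd_trans ?_ (Subgroup.card_dvd_of_surjective f hfs)
    obtain ⟨n, hn⟩ := hR.exists_card_eq
    rcases Nat.eq_zero_or_pos n with rfl | hn0
    · rw [pow_zero] at hn
      exact absurd (Subgroup.card_eq_one.1 hn) hne
    · rw [hn]; exact dvd_pow_self p hn0.ne'
  refine ⟨(P : Subgroup T).map T.subtype, P.2.map _, ?_, Subgroup.map_subtype_le _, fun φ hφ => ?_⟩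
  · intro hb
    rw [Subgroup.map_eq_bot_iff, T.ker_subtype, le_bot_iff] at hb
    exact P.ne_bot_of_dvd_card hdvd hb
  · set K := (P : Subgroup T).map T.subtype
    have hKT : K.map φ.toMonoidHom ≤ T :=
      (Subgroup.map_mono (Subgroup.map_subtype_le _)).trans hφ.le
    obtain ⟨Q, hQ⟩ := (((P.2.map T.subtype).map φ.toMonoidHom).of_equiv
      (Subgroup.subgroupOfEquivOfLe hKT).symm).exists_le_sylow
    rw [Subsingleton.elim Q P] at hQ
    exact Subgroup.eq_of_le_of_card_ge
      (fun x hx => ⟨⟨x, hKT hx⟩, hQ (Subgroup.mem_subgroupOf.2 hx), rfl⟩)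
      (Subgroup.card_map_of_injective φ.injective).ge

end CfsgLib.Recog.SymNine
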