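import Cfsg.Agent.Lib.Recog.SymNine.Basic

/-!
# First consequences of the hypotheses
-/

set_option autoImplicit false

namespace CfsgLib.Recog.SymNine

universe u

variable {G : Type u} [Group G]

/-- The value of a transfer at an element of order `p` whose conjugates in `H` all have the same
image `c`. -/
theorem transfer_eq_pow [Finite G] {A : Type*} [CommGroup A] {H : Subgroup G} (φ : H →* A) {p : ℕ}
    (hp : p.Prime) (hA : ∀ a : A, a ^ p = 1) {g : G} (hg : g ^ p = 1) {c : A}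
    (hc : ∀ (k : G) (hk : k⁻¹ * g * k ∈ H), φ ⟨k⁻¹ * g * k, hk⟩ = c) :
    φ.transfer g = c ^ H.index := by
  classical
  have : H.FiniteIndex := inferInstance
  let O := Quotient (MulAction.orbitRel (Subgroup.zpowers g) (G ⧸ H))
  let _ : Fintype O := Fintype.ofFinite _
  rw [MonoidHom.transfer_eq_prod_quotient_orbitRel_zpowers_quot]
  let m : O → ℕ := fun q => Function.minimalPeriod (g • ·) q.out
  have hper : ∀ q, m q = 1 ∨ m q = p := by
    intro q
    refine hp.eq_one_or_self_of_dvd _ (Function.IsPeriodicPt.minimalPeriod_dvd ?_)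
    change ((g • ·)^[p]) q.out = q.out
    simp only [smul_iterate, hg, one_smul]
  have hsum : ∑ q, m q = H.index := by
    have h := Nat.card_congr (MulAction.selfEquivSigmaOrbits (Subgroup.zpowers g) (G ⧸ H))
    rw [← Subgroup.index_eq_card, Nat.card_sigma] at h
    rw [h]
    refine Finset.sum_congr rfl fun q _ => ?_
    exact ((Nat.card_congr (MulAction.orbitZPowersEquiv g (Quotient.out q : G ⧸ H))).trans
      (Nat.card_zmod _)).symm
  rw [← hsum, ← Finset.prod_pow_eq_pow_sum]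
  refine Finset.prod_congr rfl fun q _ => ?_
  have hmem := QuotientGroup.out_conj_pow_minimalPeriod_mem H g q.out
  show φ ⟨q.out.out⁻¹ * g ^ m q * q.out.out, hmem⟩ = c ^ m q
  rcases hper q with h | h
  · simp only [h, pow_one]
    exact hc _ _
  · simp only [h, hg, mul_one, inv_mul_cancel]
    rw [hA]
    exact φ.map_one

/-- An element of prime order `p` fixing only the trivial coset makes the index prime to `p`. -/
theorem index_not_dvd [Finite G] {H : Subgroup G} {p : ℕ} [Fact p.Prime] {i : G} (hi : i ^ p = 1)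
    (hiH : i ∈ H) (hconj : ∀ k : G, k⁻¹ * i * k ∈ H → ∃ h ∈ H, h * i * h⁻¹ = k⁻¹ * i * k)
    (hC : ∀ k : G, Commute k i → k ∈ H) : ¬ p ∣ H.index := by
  have hP : IsPGroup p (Subgroup.zpowers i) := fun ⟨y, hy⟩ => ⟨1, Subtype.ext (by
    obtain ⟨k, rfl⟩ := hy
    show (i ^ k) ^ (p ^ 1) = 1
    rw [pow_one, ← zpow_natCast (i ^ k) p, ← zpow_mul, mul_comm, zpow_mul, zpow_natCast, hi, one_zpow])⟩
  have h := hP.card_modEq_card_fixedPoints (G ⧸ H)
  rw [← Subgroup.index_eq_card] at h
  have h1 : Nat.card (MulAction.fixedPoints (Subgroup.zpowers i) (G ⧸ H)) = 1 := by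
    rw [Nat.card_eq_one_iff_unique]
    refine ⟨⟨fun a b => Subtype.ext ?_⟩, ⟨⟨(1 : G), ?_⟩⟩⟩
    · have key : ∀ c : MulAction.fixedPoints (Subgroup.zpowers i) (G ⧸ H),
          (c : G ⧸ H) = ((1 : G) : G ⧸ H) := by
        rintro ⟨c, hc⟩
        induction c using QuotientGroup.induction_on with | _ k =>
        have hk := hc ⟨i, Subgroup.mem_zpowers i⟩
        change ((i * k : G) : G ⧸ H) = (k : G ⧸ H) at hk
        rw [eq_comm, QuotientGroup.eq] at hk
        obtain ⟨h, hh, hhk⟩ := hconj k (by simpa [mul_assoc] using hk)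
        refine QuotientGroup.eq.2 ?_
        have hcm : Commute (k * h) i := by
          show k * h * i = i * (k * h)
          calc k * h * i = k * (h * i * h⁻¹) * h := by group
            _ = i * (k * h) := by rw [hhk]; group
        have := H.mul_mem (hC _ hcm) (H.inv_mem hh)
        simpa [mul_assoc] using this
      rw [key a, key b]
    · rintro ⟨y, hy⟩
      change ((y * 1 : G) : G ⧸ H) = ((1 : G) : G ⧸ H)
      rw [mul_one, QuotientGroup.eq, mul_one]
      exact H.inv_mem (Subgroup.zpowers_le.2 hiH hy)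
  rw [h1] at h
  intro hd
  have h0 : H.index % p = 0 := Nat.mod_eq_zero_of_dvd hd
  rw [Nat.ModEq, h0, Nat.mod_eq_of_lt (Fact.out : p.Prime).one_lt] at h
  exact zero_ne_one h

variable {X : Mon → Bool} (C : Cube G X)

theorem Norms.mul {pt : V → G} {g h : G} (hg : Norms pt g) (hh : Norms pt h) :
    Norms pt (g * h) := fun v => by
  obtain ⟨w, hw⟩ := hh v
  obtain ⟨w', hw'⟩ := hg w
  exact ⟨w', by rw [← hw', ← hw]; group⟩

theorem Acts.norms {pt : V → G} {g : G} {m : Mon} (h : Acts pt g m) : Norms pt g :=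
  fun v => ⟨_, h v⟩

theorem Acts.mul {pt : V → G} {g h : G} {m n : Mon} (hg : Acts pt g m) (hh : Acts pt h n) :
    Acts pt (g * h) (comp m n) := fun v => by
  rw [act_comp, ← hg, ← hh]; group

theorem Acts.one {pt : V → G} : Acts pt 1 monOne := fun v => by
  rw [act_one]; group

theorem Cube.acts_unique {g : G} {m n : Mon} (hg : Acts C.pt g m) (hg' : Acts C.pt g n) : m = n :=
  act_injective fun v => C.pt_inj ((hg v).symm.trans (hg' v))

theorem Cube.acts_pt (v : V) : Acts C.pt (C.pt v) monOne := fun w => by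
  rw [act_one, (C.commute_pt v w).eq, mul_inv_cancel_right]

theorem Cube.eq_pt_of_acts_one {g : G} (h : Acts C.pt g monOne) : ∃ v, C.pt v = g := by
  refine C.cent g fun v => ?_
  have := h v
  rw [act_one] at this
  exact mul_inv_eq_iff_eq_mul.1 this

theorem Cube.acts_pt_mul {g : G} {m : Mon} (h : Acts C.pt g m) (v : V) :
    Acts C.pt (C.pt v * g) m := by
  have e : ∀ m : Mon, comp monOne m = m := by decide +kernel
  simpa [e] using (C.acts_pt v).mul h

theorem Cube.allowed_of_acts {g : G} {m : Mon} (h : Acts C.pt g m) : X m = true := by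
  obtain ⟨n, hn, hgn⟩ := C.exists_acts g h.norms
  rwa [C.acts_unique h hgn]

theorem Cube.allowed_comp (C : Cube G X) {m n : Mon} (hm : X m = true) (hn : X n = true) :
    X (comp m n) = true := by
  obtain ⟨g, hg⟩ := C.exists_lift m hm
  obtain ⟨h, hh⟩ := C.exists_lift n hn
  exact C.allowed_of_acts (hg.mul hh)

theorem Cube.allowed_one (C : Cube G X) : X monOne = true := C.allowed_of_acts Acts.one

theorem Cube.eq_pt_mul_of_acts {g h : G} {m : Mon} (hg : Acts C.pt g m) (hh : Acts C.pt h m) :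
    ∃ v, C.pt v * h = g := by
  obtain ⟨v, hv⟩ := C.eq_pt_of_acts_one (g := g * h⁻¹) fun v => by
    rw [act_one]
    obtain ⟨w, rfl⟩ : ∃ w, act m w = v := (Finite.injective_iff_surjective.1 fun a b hab =>
      C.pt_inj (by
        have ha := hh a
        rw [hab, ← hh b] at ha
        exact mul_left_cancel (mul_right_cancel ha))) v
    conv_lhs => rw [← hh w]
    rw [← hg w]
    group
  exact ⟨v, by rw [hv, inv_mul_cancel_right]⟩

theorem Cube.exists_invol {m : Mon} (hm : X m = true) (h2 : comp m m = monOne) :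
    ∃ i, i * i = 1 ∧ Acts C.pt i m := by
  obtain ⟨g, hg⟩ := C.exists_lift m hm
  have hgg := hg.mul hg
  rw [h2] at hgg
  obtain ⟨v, hv⟩ := C.eq_pt_of_acts_one hgg
  have e : ∀ m : Mon, comp monOne m = m := by decide +kernel
  refine ⟨g * g * g, ?_, by simpa [h2, e] using (hg.mul hg).mul hg⟩
  rw [← C.pt_cube v, hv, pow_succ, pow_two]
  group

theorem Cube.conj_invol {i h : G} {m : Mon} (hi : i * i = 1) (hh : h * h = 1)
    (him : Acts C.pt i m) (hhm : Acts C.pt h m) :
    ∃ v, C.pt v * h * (C.pt v)⁻¹ = i := by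
  obtain ⟨w, rfl⟩ := C.eq_pt_mul_of_acts hhm him
  have hw : act m w = -w := by
    refine C.pt_inj ?_
    rw [← him w, C.pt_neg]
    refine eq_inv_of_mul_eq_one_left ?_
    calc i * C.pt w * i⁻¹ * C.pt w = (C.pt w)⁻¹ * (C.pt w * i * (C.pt w * (i⁻¹))) * C.pt w := by group
      _ = 1 := by rw [show i⁻¹ = i from inv_eq_of_mul_eq_one_right hi, hh]; group
  refine ⟨w, ?_⟩
  have hneg : C.pt w * i = i * (C.pt w)⁻¹ := by
    rw [← C.pt_neg, ← hw, ← him w,
      show i⁻¹ = i from inv_eq_of_mul_eq_one_right hi]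
    simp only [← mul_assoc, hi, one_mul]
  calc C.pt w * (C.pt w * i) * (C.pt w)⁻¹ = C.pt w * (C.pt w * (i * (C.pt w)⁻¹)) := by group
    _ = C.pt w * (C.pt w * (C.pt w * i)) := by rw [hneg]
    _ = C.pt w ^ 3 * i := by simp only [pow_succ, pow_zero, one_mul, mul_assoc]
    _ = i := by rw [C.pt_cube, one_mul]

theorem Cube.exists_commute {i g : G} {m n : Mon} (hi : i * i = 1) (him : Acts C.pt i m)
    (hgn : Acts C.pt g n) (hmn : comp n m = comp m n) :
    ∃ v, Commute (C.pt v * g) i := by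
  have hh : Acts C.pt (g * i * g⁻¹) m := fun v => by
    obtain ⟨w, rfl⟩ : ∃ w, act n w = v := (Finite.injective_iff_surjective.1 fun a b hab =>
      C.pt_inj (by
        have ha := hgn a
        rw [hab, ← hgn b] at ha
        exact mul_left_cancel (mul_right_cancel ha))) v
    conv_lhs => rw [← hgn w]
    rw [← act_comp, ← hmn, act_comp, ← hgn, ← him]
    group
  obtain ⟨v, hv⟩ := C.conj_invol hi (by
    calc g * i * g⁻¹ * (g * i * g⁻¹) = g * (i * i) * g⁻¹ := by group
      _ = 1 := by rw [hi]; group) him hh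
  refine ⟨v, ?_⟩
  show C.pt v * g * i = i * (C.pt v * g)
  conv_rhs => rw [← hv]
  group

theorem Cube.mem_normalizer [Finite G] {g : G} :
    g ∈ Subgroup.normalizer (C.J : Set G) ↔ Norms C.pt g := by
  constructor
  · intro hg v
    obtain ⟨w, hw⟩ := (Subgroup.mem_normalizer_iff.1 hg (C.pt v)).1 ⟨v, rfl⟩
    exact ⟨w, hw.symm⟩
  · intro hg
    choose f hf using hg
    have hf' : Function.Surjective f := Finite.injective_iff_surjective.1 fun a b hab =>
      C.pt_inj (by
        have ha := hf a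
        rw [hab, ← hf b] at ha
        exact mul_left_cancel (mul_right_cancel ha))
    refine Subgroup.mem_normalizer_iff.2 fun h => ⟨?_, ?_⟩
    · rintro ⟨v, rfl⟩; exact ⟨f v, (hf v).symm⟩
    · rintro ⟨w, hw⟩
      obtain ⟨v, rfl⟩ := hf' w
      refine ⟨v, ?_⟩
      rw [← hf v] at hw
      exact mul_left_cancel (mul_right_cancel hw)

/-- the normaliser of the cube -/
abbrev Cube.N : Subgroup G := Subgroup.normalizer (C.J : Set G)

theorem Cube.norms_of_mem_pGroup {Q : Subgroup G} (hQ : IsPGroup 3 Q) (hJ : C.J ≤ Q) {g : G}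
    (hg : g ∈ Q) : Norms C.pt g :=
  C.unique Q hQ (fun v => hJ ⟨v, rfl⟩) g fun v =>
    Q.mul_mem (Q.mul_mem hg (hJ ⟨v, rfl⟩)) (Q.inv_mem hg)

theorem Cube.not_three_dvd_index [Finite G] : ¬ 3 ∣ C.N.index := by
  have : Fact (Nat.Prime 3) := ⟨Nat.prime_three⟩
  obtain ⟨P, hP⟩ := C.isPGroup_J.exists_le_sylow
  have hle : (P : Subgroup G) ≤ C.N := fun g hg =>
    C.mem_normalizer.2 (C.norms_of_mem_pGroup P.2 hP hg)
  exact fun h => P.not_dvd_index (h.trans (Subgroup.index_dvd_of_le hle))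

/-- fusion in the cube, with the correcting element -/
theorem Cube.fusion' [Finite G] {g : G} {v w : V} (h : g * C.pt v * g⁻¹ = C.pt w) :
    ∃ k, Commute k (C.pt w) ∧ Norms C.pt (k * g) := by
  have : Fact (Nat.Prime 3) := ⟨Nat.prime_three⟩
  set D := Subgroup.centralizer ({C.pt w} : Set G) with hD
  have hJD : C.J ≤ D := by
    rintro _ ⟨a, rfl⟩
    exact Subgroup.mem_centralizer_singleton_iff.2 (C.commute_pt a w).eq
  set J' := C.J.map (MulAut.conj g).toMonoidHom with hJ'
  have hJ'D : J' ≤ D := by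
    rintro _ ⟨_, ⟨a, rfl⟩, rfl⟩
    refine Subgroup.mem_centralizer_singleton_iff.2 ?_
    show g * C.pt a * g⁻¹ * C.pt w = C.pt w * (g * C.pt a * g⁻¹)
    rw [← h]
    calc g * C.pt a * g⁻¹ * (g * C.pt v * g⁻¹) = g * (C.pt a * C.pt v) * g⁻¹ := by group
      _ = g * (C.pt v * C.pt a) * g⁻¹ := by rw [(C.commute_pt a v).eq]
      _ = _ := by group
  obtain ⟨P, hP⟩ := (C.isPGroup_J.of_equiv
    (Subgroup.subgroupOfEquivOfLe hJD).symm).exists_le_sylow
  obtain ⟨P', hP'⟩ := ((C.isPGroup_J.map (MulAut.conj g).toMonoidHom).of_equiv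
    (Subgroup.subgroupOfEquivOfLe hJ'D).symm).exists_le_sylow
  obtain ⟨k, hk⟩ := MulAction.exists_smul_eq D P' P
  refine ⟨k, Subgroup.mem_centralizer_singleton_iff.1 k.2, ?_⟩
  refine C.unique ((P : Subgroup D).map D.subtype) (P.2.map _) (fun a => ?_) _ fun a => ?_
  · exact ⟨⟨C.pt a, hJD ⟨a, rfl⟩⟩, hP ⟨a, rfl⟩, rfl⟩
  · have hmem : g * C.pt a * g⁻¹ ∈ J' := ⟨_, ⟨a, rfl⟩, rfl⟩
    refine ⟨k * ⟨g * C.pt a * g⁻¹, hJ'D hmem⟩ * k⁻¹, ?_, ?_⟩
    · rw [← hk]
      exact ⟨_, hP' hmem, rfl⟩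
    · show (k : G) * (g * C.pt a * g⁻¹) * (k : G)⁻¹ = k * g * C.pt a * (k * g)⁻¹
      group

theorem Cube.fusion [Finite G] {g : G} {v w : V} (h : g * C.pt v * g⁻¹ = C.pt w) :
    ∃ m, X m = true ∧ act m v = w := by
  obtain ⟨k, hk, hkg⟩ := C.fusion' h
  obtain ⟨m, hm, hmk⟩ := C.exists_acts _ hkg
  refine ⟨m, hm, C.pt_inj ?_⟩
  rw [← hmk v]
  calc k * g * C.pt v * (k * g)⁻¹ = k * (g * C.pt v * g⁻¹) * k⁻¹ := by group
    _ = C.pt w := by rw [h, hk.eq, mul_inv_cancel_right]

/-- the action of the normaliser -/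
noncomputable def Cube.actOf [Finite G] (g : C.N) : Mon :=
  (C.exists_acts g (C.mem_normalizer.1 g.2)).choose

theorem Cube.actOf_spec [Finite G] (g : C.N) : Acts C.pt (g : G) (C.actOf g) :=
  (C.exists_acts g (C.mem_normalizer.1 g.2)).choose_spec.2

theorem Cube.actOf_eq [Finite G] {g : C.N} {m : Mon} (h : Acts C.pt (g : G) m) : C.actOf g = m :=
  C.acts_unique (C.actOf_spec g) h

theorem Cube.actOf_mul [Finite G] (g h : C.N) :
    C.actOf (g * h) = comp (C.actOf g) (C.actOf h) :=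
  C.actOf_eq ((C.actOf_spec g).mul (C.actOf_spec h))

theorem Cube.allowed_actOf [Finite G] (g : C.N) : X (C.actOf g) = true :=
  C.allowed_of_acts (C.actOf_spec g)

end CfsgLib.Recog.SymNine
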