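import Cfsg.Agent.Lib.Recog.SymNine.Model
import Cfsg.Agent.Lib.Recog.SymNine.Group

/-!
# The hypotheses give a cube with one of four automizers
-/

set_option autoImplicit false

namespace CfsgLib.Recog.SymNine

universe u

/-- scaling a vector -/
def scal (k : ZMod 3) (v : V) : V := (k * v.1, k * v.2.1, k * v.2.2)

theorem scal_perm : ∀ (k : ZMod 3) (q : Fin 6) (v : V),
    scal k (act (permMon q) v) = act (permMon q) (scal k v) := by decide +kernel

theorem scal_add : ∀ (k : ZMod 3) (v w : V), scal k (v + w) = scal k v + scal k w := by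
  intro k v w
  simp [scal, mul_add]

theorem scal_scal : ∀ k : ZMod 3, k ≠ 0 → ∀ v : V, scal k (scal k v) = v := by decide +kernel

theorem act_perm_eq_id : ∀ q : Fin 6, act (permMon q) e0 = e0 → act (permMon q) e1 = e1 → q = 0 := by
  decide +kernel

theorem fixed_one : ∀ v : V, act (permMon 1) v = v → ∃ k : ZMod 3, v = scal k x0 := by decide +kernel

theorem scal_zero_x0 : scal 0 x0 = 0 := by decide +kernel

theorem fixed_three : ∀ (q : Fin 6) (v : V), q.val < 3 → q ≠ 0 → act (permMon q) v = v →
    v.1 = 0 → v = 0 := by decide +kernel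

theorem fixed_line : ∀ (q : Fin 6) (v : V), q.val < 3 → q ≠ 0 → act (permMon q) v = v →
    v = 0 ∨ v = x0 ∨ v = -x0 := by decide +kernel

theorem perm_sq : ∀ q : Fin 6, ¬ q.val < 3 → comp (permMon q) (permMon q) = monOne := by
  decide +kernel

/-- the possible sign groups -/
theorem sign_cases : ∀ a b c d e f g : Bool,
    let S : Bool × Bool × Bool → Bool := fun t =>
      if t = (true, false, false) then a else if t = (false, true, false) then b
      else if t = (false, false, true) then c else if t = (true, true, false) then d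
      else if t = (true, false, true) then e else if t = (false, true, true) then f
      else if t = (true, true, true) then g else true
    (∀ s t : Bool × Bool × Bool, S s → S t → S (xor s.1 t.1, xor s.2.1 t.2.1, xor s.2.2 t.2.2)) →
    a = b → b = c → d = e → e = f →
    (∀ t, S t = decide (t = (false, false, false))) ∨
      (∀ t, S t = twelveX (0, t)) ∨ (∀ t, S t = evenX (0, t)) ∨ (∀ t, S t = true) := by
  decide +kernel

variable {G : Type u} [Group G]

/-- the four automizers -/
def IsStandard (X : Mon → Bool) : Prop := X = sixX ∨ X = twelveX ∨ X = evenX ∨ X = allX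

theorem isStandard_of_cube (X : Mon → Bool) (hperm : ∀ q, X (permMon q) = true)
    (hcomp : ∀ m n, X m = true → X n = true → X (comp m n) = true) : IsStandard X := by
  have hsplit : ∀ m : Mon, comp (0, m.2) (permMon m.1) = m ∧
      ∃ q, comp m (permMon q) = (0, m.2) := by decide +kernel
  have hX : ∀ m : Mon, X m = X (0, m.2) := by
    intro m
    obtain ⟨h1, q, hq⟩ := hsplit m
    refine Bool.eq_iff_iff.2 ⟨fun h => ?_, fun h => ?_⟩
    · rw [← hq]; exact hcomp _ _ h (hperm q)
    · rw [← h1]; exact hcomp _ _ h (hperm _)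
  have hconj : ∀ (t : Bool × Bool × Bool) (q : Fin 6), X (0, t) = true →
      X (0, (comp (permMon q) (0, t)).2) = true := fun t q h => by
    rw [← hX]; exact hcomp _ _ (hperm q) h
  have hc : ∀ (t u : Bool × Bool × Bool) (q r : Fin 6), (comp (permMon q) (0, t)).2 = u →
      (comp (permMon r) (0, u)).2 = t → X (0, t) = X (0, u) := fun t u q r h1 h2 =>
    Bool.eq_iff_iff.2 ⟨fun h => h1 ▸ hconj t q h, fun h => h2 ▸ hconj u r h⟩
  have hval : ∀ t : Bool × Bool × Bool, (if t = (true, false, false) then X (0, true, false, false)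
      else if t = (false, true, false) then X (0, false, true, false)
      else if t = (false, false, true) then X (0, false, false, true)
      else if t = (true, true, false) then X (0, true, true, false)
      else if t = (true, false, true) then X (0, true, false, true)
      else if t = (false, true, true) then X (0, false, true, true)
      else if t = (true, true, true) then X (0, true, true, true) else true) = X (0, t) := by
    rintro ⟨_ | _, _ | _, _ | _⟩ <;> simp
    exact hperm 0
  have h := sign_cases (X (0, true, false, false)) (X (0, false, true, false))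
    (X (0, false, false, true)) (X (0, true, true, false)) (X (0, true, false, true))
    (X (0, false, true, true)) (X (0, true, true, true))
  simp only [hval] at h
  have hone : ∀ s t : Bool × Bool × Bool, X (0, s) = true → X (0, t) = true →
      X (0, xor s.1 t.1, xor s.2.1 t.2.1, xor s.2.2 t.2.2) = true := fun s t hs ht => by
    have e : comp (0, s) (0, t) = (0, xor s.1 t.1, xor s.2.1 t.2.1, xor s.2.2 t.2.2) :=
      (by decide +kernel : ∀ s t : Bool × Bool × Bool,
        comp (0, s) (0, t) = (0, xor s.1 t.1, xor s.2.1 t.2.1, xor s.2.2 t.2.2)) s t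
    rw [← e]; exact hcomp _ _ hs ht
  rcases h hone (hc _ _ 3 3 (by decide +kernel) (by decide +kernel))
    (hc _ _ 4 4 (by decide +kernel) (by decide +kernel))
    (hc _ _ 4 4 (by decide +kernel) (by decide +kernel))
    (hc _ _ 3 3 (by decide +kernel) (by decide +kernel)) with h | h | h | h
  · refine Or.inl (funext fun m => ?_)
    rw [hX, h]
    exact (by decide +kernel : ∀ m : Mon, decide (m.2 = (false, false, false)) = sixX m) m
  · refine Or.inr (Or.inl (funext fun m => ?_))
    rw [hX, h]; rfl
  · refine Or.inr (Or.inr (Or.inl (funext fun m => ?_)))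
    rw [hX, h]; rfl
  · exact Or.inr (Or.inr (Or.inr (funext fun m => (hX m).trans (h m.2))))

/-- The hypotheses of the recognition theorem give a cube. -/
theorem exists_cube [Finite G] (x : G) (hx : orderOf x = 3)
    (eC : Subgroup.centralizer ({x} : Set G) ≃* C9)
    (J : Subgroup G) (hJC : J ≤ Subgroup.centralizer ({x} : Set G)) (hJcomm : IsMulCommutative J)
    (hJexp : ∀ j ∈ J, j ^ 3 = 1) (hJcard : Nat.card J = 27)
    (hJsig : ∀ K : Subgroup G, (Nat.card K).Coprime 3 →
      (∀ j ∈ J, K.map (MulAut.conj j).toMonoidHom = K) → K = ⊥) :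
    ∃ (X : Mon → Bool) (C : Cube G X), IsStandard X ∧ C.J = J ∧ C.pt x0 = x ∧
      Nat.card (Subgroup.centralizer ({C.pt x0} : Set G)) = 162 := by
  classical
  have : Fact (Nat.Prime 3) := ⟨Nat.prime_three⟩
  set D := Subgroup.centralizer ({x} : Set G) with hD
  set φ : C9 →* G := D.subtype.comp eC.symm.toMonoidHom with hφ
  have φinj : Function.Injective φ := D.subtype_injective.comp eC.symm.injective
  have φsurj : ∀ g, Commute g x → ∃ v q, φ (emb9 v q) = g := fun g hg => by
    obtain ⟨⟨v, q⟩, hvq⟩ :=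
      emb9_surjective (eC ⟨g, Subgroup.mem_centralizer_singleton_iff.2 hg.eq⟩)
    exact ⟨v, q, by simp only [hφ, MonoidHom.comp_apply] at hvq ⊢; rw [hvq]; simp⟩
  have φcomm : ∀ a, Commute (φ a) x := fun a =>
    Subgroup.mem_centralizer_singleton_iff.1 (eC.symm a).2
  have hsplit : ∀ v q, emb9 v q = emb9 v 0 * emb9 0 q := fun v q => Subtype.ext (emb_split v q)
  have hadd : ∀ v w, emb9 (v + w) 0 = emb9 v 0 * emb9 w 0 := fun v w => Subtype.ext (emb_add v w)
  have hone : emb9 0 0 = 1 := Subtype.ext emb_zero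
  have hconj : ∀ q w, emb9 0 q * emb9 w 0 = emb9 (act (permMon q) w) 0 * emb9 0 q :=
    fun q w => Subtype.ext (emb_conj q w)
  have embinj : ∀ {v w q r}, emb9 v q = emb9 w r → v = w ∧ q = r := fun {v w q r} h =>
    Prod.ext_iff.1 (emb9_injective (a₁ := (v, q)) (a₂ := (w, r)) h)
  -- the image of `x`
  obtain ⟨k, hk0, hkx⟩ : ∃ k : ZMod 3, k ≠ 0 ∧ φ (emb9 (scal k x0) 0) = x := by
    obtain ⟨v, q, hvq⟩ := φsurj x (Commute.refl x)
    have hcen : ∀ a, Commute (emb9 v q) a := fun a => φinj (by
      rw [map_mul, map_mul, hvq]; exact (φcomm a).symm.eq)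
    have hfix : ∀ w, act (permMon q) w = w := fun w => by
      have h := (hcen (emb9 w 0)).eq
      rw [hsplit v q, mul_assoc, hconj, ← mul_assoc, ← hadd, ← mul_assoc, ← hadd, ← hsplit,
        ← hsplit, add_comm w v] at h
      exact (add_left_cancel (embinj h).1)
    obtain rfl := act_perm_eq_id q (hfix e0) (hfix e1)
    have h := (hcen (emb9 0 1)).eq
    rw [← hsplit, hconj, ← hsplit] at h
    obtain ⟨k, rfl⟩ := fixed_one v (embinj h).1.symm
    refine ⟨k, fun h0 => ?_, hvq⟩
    subst h0
    rw [scal_zero_x0, hone, map_one] at hvq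
    rw [← hvq, orderOf_one] at hx
    omega
  set p : V → G := fun v => φ (emb9 (scal k v) 0) with hp
  set s : Fin 6 → G := fun q => φ (emb9 0 q) with hs
  have p_add : ∀ v w, p (v + w) = p v * p w := fun v w => by
    simp only [hp, scal_add, hadd, map_mul]
  have p_inj : Function.Injective p := fun v w h => by
    have := congrArg (scal k) (embinj (φinj h)).1
    rwa [scal_scal k hk0, scal_scal k hk0] at this
  have p_zero : p 0 = 1 := by
    have h := p_add 0 0
    rw [add_zero] at h
    exact left_eq_mul.1 h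
  have p_neg : ∀ v, p (-v) = (p v)⁻¹ := fun v =>
    eq_inv_of_mul_eq_one_left (by rw [← p_add, neg_add_cancel, p_zero])
  have s_act : ∀ q v, s q * p v * (s q)⁻¹ = p (act (permMon q) v) := fun q v => by
    rw [mul_inv_eq_iff_eq_mul]
    simp only [hp, hs, ← map_mul]
    rw [hconj, scal_perm]
  have Cx : ∀ g, Commute g x → ∃ v q, p v * s q = g := fun g hg => by
    obtain ⟨v, q, rfl⟩ := φsurj g hg
    exact ⟨scal k v, q, by simp only [hp, hs, ← map_mul, scal_scal k hk0, ← hsplit]⟩
  have conjeq : ∀ v q w, p v * s q * p w * (p v * s q)⁻¹ = p (act (permMon q) w) := fun v q w => by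
    calc p v * s q * p w * (p v * s q)⁻¹ = p v * (s q * p w * (s q)⁻¹) * (p v)⁻¹ := by group
      _ = p v * p (act (permMon q) w) * p (-v) := by rw [s_act, p_neg]
      _ = _ := by rw [← p_add, ← p_add, add_comm v, add_neg_cancel_right]
  have s_zero : s 0 = 1 := by simp only [hs, hone, map_one]
  have pv_comm : ∀ v w, Commute (p v) (p w) := fun v w => by
    rw [Commute, SemiconjBy, ← p_add, ← p_add, add_comm]
  -- the base is the only elementary abelian subgroup of order 27 of the centraliser
  have only : ∀ A : Subgroup G, A ≤ D → Nat.card A = 27 → (∀ a ∈ A, ∀ b ∈ A, Commute a b) →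
      (∀ a ∈ A, a ^ 3 = 1) → ∀ g : G, g ∈ A ↔ ∃ v, p v = g := by
    intro A hA hcard hcomm hexp
    have rep : ∀ a : A, ∃ vq : V × Fin 6, p vq.1 * s vq.2 = (a : G) ∧ (vq.2 : ℕ) < 3 := by
      intro a
      obtain ⟨v, q, h⟩ := Cx a (Subgroup.mem_centralizer_singleton_iff.1 (hA a.2))
      refine ⟨(v, q), h, emb_cube (scal k v) q ?_⟩
      have h3 := hexp a a.2
      rw [← h, show p v * s q = φ (emb9 (scal k v) q) by simp only [hp, hs, ← map_mul, ← hsplit],
        ← map_pow, ← map_one φ] at h3
      have := congrArg Subtype.val (φinj h3)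
      simpa [pow_succ, emb9] using this
    choose r hr hr3 using rep
    have hsub : ∀ a ∈ A, ∃ v, p v = a := by
      by_contra hc
      push Not at hc
      obtain ⟨f, hf, hfn⟩ := hc
      have hfq : (r ⟨f, hf⟩).2 ≠ 0 := fun h => hfn (r ⟨f, hf⟩).1 (by
        have := hr ⟨f, hf⟩
        rwa [h, s_zero, mul_one] at this)
      have hinj : Function.Injective fun a : A =>
          ((⟨(r a).2, hr3 a⟩ : Fin 3), (r a).1.1) := by
        intro a b hab
        simp only [Prod.mk.injEq, Fin.mk.injEq] at hab
        have hq : (r a).2 = (r b).2 := Fin.ext hab.1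
        have hdiff : (a : G) * (b : G)⁻¹ = p ((r a).1 + -(r b).1) := by
          rw [← hr a, ← hr b, hq, p_add, p_neg]; group
        have hc := conjeq (r ⟨f, hf⟩).1 (r ⟨f, hf⟩).2 ((r a).1 + -(r b).1)
        rw [hr ⟨f, hf⟩, ← hdiff, (hcomm f hf _ (A.mul_mem a.2 (A.inv_mem b.2))).eq,
          mul_inv_cancel_right, hdiff] at hc
        have h0 := fixed_three _ _ (hr3 ⟨f, hf⟩) hfq (p_inj hc).symm
          (by simp [hab.2])
        rw [h0, p_zero, mul_inv_eq_one] at hdiff
        exact Subtype.ext hdiff
      have := Nat.card_le_card_of_injective _ hinj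
      rw [hcard] at this
      simp at this
    intro g
    refine ⟨hsub g, ?_⟩
    rintro ⟨v, rfl⟩
    have hsurj : Function.Surjective fun a : A => (hsub a a.2).choose := by
      refine (Function.Injective.bijective_of_nat_card_le (fun a b h => ?_) ?_).2
      · have ha := (hsub a a.2).choose_spec
        rw [h, (hsub b b.2).choose_spec] at ha
        exact Subtype.ext ha.symm
      · rw [hcard, Nat.card_eq_fintype_card]; rfl
    obtain ⟨a, ha⟩ := hsurj v
    simp only at ha
    have := (hsub a a.2).choose_spec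
    rw [ha] at this
    rw [this]; exact a.2
  have hJ := only J hJC hJcard (fun a ha b hb => congrArg Subtype.val
    (hJcomm.is_comm.comm (⟨a, ha⟩ : J) ⟨b, hb⟩)) hJexp
  -- the classification
  let P : (V → V) → Prop := fun f => ∃ g, ∀ v, g * p v * g⁻¹ = p (f v)
  have hPperm : ∀ q, P (act (permMon q)) := fun q => ⟨s q, s_act q⟩
  have hPcomp : ∀ f f', P f → P f' → P (f ∘ f') := by
    rintro f f' ⟨g, hg⟩ ⟨g', hg'⟩
    exact ⟨g * g', fun v => by rw [Function.comp_apply, ← hg, ← hg']; group⟩
  have hPadd : ∀ f, P f → ∀ v w, f (v + w) = f v + f w := by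
    rintro f ⟨g, hg⟩ v w
    exact p_inj (by rw [p_add, ← hg, ← hg, ← hg, p_add]; group)
  have hPinj : ∀ f, P f → Function.Injective f := by
    rintro f ⟨g, hg⟩ v w h
    have := hg v
    rw [h, ← hg w] at this
    exact p_inj (mul_left_cancel (mul_right_cancel this))
  have hPstab : ∀ f, P f → f x0 = x0 → ∃ q, ∀ v, f v = act (permMon q) v := by
    rintro f ⟨g, hg⟩ hf
    obtain ⟨v, q, rfl⟩ := Cx g (by
      have := hg x0
      rw [hf, show p x0 = x from hkx] at this
      exact mul_inv_eq_iff_eq_mul.1 this)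
    exact ⟨q, fun w => p_inj (by rw [← hg w, conjeq])⟩
  obtain ⟨c, hc⟩ := exists_frame P hPperm hPcomp hPadd hPinj hPstab
  set pt : V → G := fun v => p (frame c v) with hpt
  have pt_acts : ∀ v q, Acts pt (p v * s q) (permMon q) := fun v q w => by
    simp only [hpt, frame_perm]; exact conjeq v q _
  have toP : ∀ {g}, Norms pt g → ∃ f : V → V, ∀ v, g * p v * g⁻¹ = p (f v) := fun {g} hg => by
    have hg' : ∀ v, ∃ w, g * pt v * g⁻¹ = pt w := hg
    choose f hf using hg'
    refine ⟨fun v => frame c (f (frame (-c) v)), fun v => ?_⟩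
    have := hf (frame (-c) v)
    simp only [hpt, frame_frame_neg] at this
    exact this
  set X : Mon → Bool := fun m => decide (∃ g, Acts pt g m) with hX
  have hacts : ∀ g, Norms pt g → ∃ m, X m = true ∧ Acts pt g m := fun g hg => by
    obtain ⟨f, hf⟩ := toP hg
    obtain ⟨m, hm⟩ := hc f ⟨g, hf⟩
    have hgm : Acts pt g m := fun v => by
      simp only [hpt]
      rw [hf, hm, framed, frame_neg_frame]
    exact ⟨m, decide_eq_true ⟨g, hgm⟩, hgm⟩
  have mem_range : ∀ g, (∃ v, p v = g) ↔ ∃ v, pt v = g := fun g =>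
    ⟨fun ⟨v, h⟩ => ⟨frame (-c) v, by simp only [hpt, frame_frame_neg]; exact h⟩,
      fun ⟨v, h⟩ => ⟨_, h⟩⟩
  have hJpt : ∀ g, g ∈ J ↔ ∃ v, pt v = g := fun g => (hJ g).trans (mem_range g)
  have hptx : pt x0 = x := by simp only [hpt, frame_x0]; exact hkx
  have hcardD : Nat.card D = 162 := by
    rw [Nat.card_congr eC.toEquiv,
      ← Nat.card_congr (Equiv.ofBijective _ ⟨emb9_injective, emb9_surjective⟩)]
    simp
  -- Sylow subgroups
  have hJp : IsPGroup 3 J := IsPGroup.of_card (n := 3) (by rw [hJcard]; norm_num)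
  obtain ⟨P₀, hP₀⟩ := (hJp.of_equiv (Subgroup.subgroupOfEquivOfLe hJC).symm).exists_le_sylow
  set P₁ : Subgroup G := (P₀ : Subgroup D).map D.subtype with hP₁
  have hP₁D : P₁ ≤ D := Subgroup.map_subtype_le _
  have hJP₁ : J ≤ P₁ := fun g hg => ⟨⟨g, hJC hg⟩, hP₀ hg, rfl⟩
  have hP₁card : Nat.card P₁ = 81 := by
    rw [hP₁, Subgroup.card_map_of_injective D.subtype_injective, P₀.card_eq_multiplicity, hcardD,
      show (162 : ℕ) = 2 * 3 ^ 4 by norm_num, Nat.factorization_mul (by norm_num) (by norm_num),
      Nat.Prime.factorization_pow Nat.prime_three]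
    have h2 : Nat.factorization 2 3 = 0 := Nat.factorization_eq_zero_of_not_dvd (by norm_num)
    simp [h2]
  have hP₁p : IsPGroup 3 P₁ := IsPGroup.of_card (n := 4) (by rw [hP₁card]; norm_num)
  have sylow : ∀ Q : Subgroup G, IsPGroup 3 Q → P₁ ≤ Q → Q = P₁ := by
    intro Q hQ hle
    by_contra hne
    have := hQ.isNilpotent
    obtain ⟨y, hy, hyn⟩ : ∃ y ∈ Q, y ∈ Subgroup.normalizer (P₁ : Set G) ∧ y ∉ P₁ := by
      have hlt : P₁.subgroupOf Q < ⊤ := lt_top_iff_ne_top.2 fun h =>
        hne (le_antisymm (Subgroup.subgroupOf_eq_top.1 h) hle)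
      obtain ⟨y, hy, hy'⟩ := SetLike.exists_of_lt
        (Group.normalizerCondition_of_isNilpotent _ hlt)
      refine ⟨y, y.2, ?_, fun h => hy' (Subgroup.mem_subgroupOf.2 h)⟩
      rw [← Subgroup.subgroupOf_normalizer_eq hle] at hy
      exact Subgroup.mem_subgroupOf.1 hy
    obtain ⟨hyN, hyP⟩ := hyn
    have notin : ∀ g : G, g ∈ Q → Commute g x → g ∉ P₁ → False := by
      intro g hgQ hgx hgP
      have hle' : P₁ ≤ Q ⊓ D := le_inf hle hP₁D
      have hd : Nat.card (Q ⊓ D : Subgroup G) ∣ 162 :=
        hcardD ▸ Subgroup.card_dvd_of_le inf_le_right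
      obtain ⟨n, hn⟩ := (hQ.to_le (inf_le_left (b := D))).exists_card_eq
      rw [hn] at hd
      have hn4 : n ≤ 4 := by
        by_contra h
        have := (Nat.pow_dvd_pow 3 (show 5 ≤ n by omega)).trans hd
        norm_num at this
      have := Subgroup.eq_of_le_of_card_ge hle' (by
        rw [hn, hP₁card]
        exact (Nat.pow_le_pow_right (by norm_num) hn4).trans (by norm_num))
      exact hgP (this ▸ ⟨hgQ, Subgroup.mem_centralizer_singleton_iff.2 hgx.eq⟩)
    have hxP : x ∈ P₁ := hJP₁ ((hJpt x).2 ⟨x0, hptx⟩)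
    set z := y * x * y⁻¹ with hz
    have hzP : z ∈ P₁ := (Subgroup.mem_normalizer_iff.1 hyN x).1 hxP
    have hzc : ∀ g ∈ P₁, Commute z g := fun g hg => by
      obtain ⟨g', hg', rfl⟩ : ∃ g' ∈ P₁, y * g' * y⁻¹ = g :=
        ⟨y⁻¹ * g * y, by
          have := (Subgroup.mem_normalizer_iff.1 (Subgroup.inv_mem _ hyN) g).1 hg
          rwa [inv_inv] at this, by group⟩
      exact (Commute.conj_iff y).2 ((Subgroup.mem_centralizer_singleton_iff.1 (hP₁D hg')).symm)
    obtain ⟨v, q, hvq⟩ := Cx z (Subgroup.mem_centralizer_singleton_iff.1 (hP₁D hzP))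
    have hq0 : q = 0 := act_perm_eq_id q
      (p_inj (by rw [← conjeq v q e0, hvq, (hzc _ (hJP₁ ((hJ _).2 ⟨_, rfl⟩))).eq,
        mul_inv_cancel_right]))
      (p_inj (by rw [← conjeq v q e1, hvq, (hzc _ (hJP₁ ((hJ _).2 ⟨_, rfl⟩))).eq,
        mul_inv_cancel_right]))
    subst hq0
    rw [s_zero, mul_one] at hvq
    obtain ⟨g, hg, hgJ⟩ : ∃ g ∈ P₁, g ∉ J := by
      by_contra hc
      push Not at hc
      have := Subgroup.card_le_of_le hc
      rw [hP₁card, hJcard] at this
      omega
    obtain ⟨w, r, hwr⟩ := Cx g (Subgroup.mem_centralizer_singleton_iff.1 (hP₁D hg))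
    have hr0 : r ≠ 0 := fun h => hgJ ((hJ g).2 ⟨w, by rw [← hwr, h, s_zero, mul_one]⟩)
    have hr3 : (r : ℕ) < 3 := by
      by_contra hr3
      obtain ⟨n, hn⟩ := hP₁p ⟨g, hg⟩
      have hn' : g ^ 3 ^ n = 1 := congrArg Subtype.val hn
      have hgg : g * g ∈ J := by
        have hgx : Commute g x := Subgroup.mem_centralizer_singleton_iff.1 (hP₁D hg)
        obtain ⟨a, b, hab⟩ := Cx (g * g) (hgx.mul_left hgx)
        have hb : b = 0 := by
          have hb' : ∀ u, act (permMon b) u = u := fun u => p_inj (by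
            rw [← conjeq a b u, hab, ← hwr]
            calc p w * s r * (p w * s r) * p u * (p w * s r * (p w * s r))⁻¹
                = p w * s r * (p w * s r * p u * (p w * s r)⁻¹) * (p w * s r)⁻¹ := by group
              _ = p u := by
                rw [conjeq, conjeq, ← act_comp, perm_sq r hr3, act_one])
          exact act_perm_eq_id b (hb' _) (hb' _)
        exact (hJ _).2 ⟨a, by rw [← hab, hb, s_zero, mul_one]⟩
      obtain ⟨m, hm⟩ : Odd (3 ^ n) := Odd.pow (by decide)
      rw [hm, pow_succ, pow_mul, pow_two] at hn'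
      exact hgJ (by
        rw [eq_inv_of_mul_eq_one_right hn']
        exact J.inv_mem (J.pow_mem hgg m))
    have hfix : act (permMon r) v = v := p_inj (by
      rw [← conjeq w r v, hwr, hvq, ← (hzc g hg).eq, mul_inv_cancel_right])
    rcases fixed_line r v hr3 hr0 hfix with rfl | rfl | rfl
    · rw [p_zero] at hvq
      rw [hz, eq_comm, conj_eq_one_iff] at hvq
      rw [hvq, orderOf_one] at hx
      omega
    · exact notin y hy (mul_inv_eq_iff_eq_mul.1 (hvq.symm.trans hkx)) hyP
    · have h1 : y * x * y⁻¹ = x⁻¹ := by rw [← hz, ← hvq, p_neg]; rw [show p x0 = x from hkx]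
      have h2 : Commute (y ^ 2) x := by
        show y ^ 2 * x = x * y ^ 2
        calc y ^ 2 * x = y * (y * x * y⁻¹) * y := by simp [pow_two, mul_assoc]
          _ = y * x⁻¹ * y := by rw [h1]
          _ = (y * x * y⁻¹)⁻¹ * y ^ 2 := by group
          _ = x * y ^ 2 := by rw [h1, inv_inv]
      obtain ⟨n, hn⟩ := hQ ⟨y, hy⟩
      have hn' : y ^ 3 ^ n = 1 := congrArg Subtype.val hn
      obtain ⟨m, hm⟩ : Odd (3 ^ n) := Odd.pow (by decide)
      rw [hm, pow_succ, pow_mul] at hn'
      refine notin y hy ?_ hyP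
      rw [eq_inv_of_mul_eq_one_right hn']
      exact (h2.pow_left m).inv_left
  have hunique : ∀ Q : Subgroup G, IsPGroup 3 Q → (∀ v, pt v ∈ Q) → ∀ g : G,
      (∀ v, g * pt v * g⁻¹ ∈ Q) → Norms pt g := by
    intro Q hQ hJQ g hg
    obtain ⟨Q', hQ'⟩ := hQ.exists_le_sylow
    obtain ⟨P', hP'⟩ := hP₁p.exists_le_sylow
    have hP'eq := sylow _ P'.2 hP'
    obtain ⟨h, hh⟩ := MulAction.exists_smul_eq G Q' P'
    have into : ∀ q ∈ Q, h * q * h⁻¹ ∈ P₁ := fun q hq => by
      rw [← hP'eq, ← hh]
      exact ⟨q, hQ' hq, rfl⟩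
    have image : ∀ k : G, (∀ v, k * pt v * k⁻¹ ∈ Q) → ∀ v, ∃ w, h * (k * pt v * k⁻¹) * h⁻¹ = pt w := by
      intro k hk v
      have hmap : J.map (MulAut.conj (h * k)).toMonoidHom ≤ D := by
        rintro _ ⟨j, hj, rfl⟩
        obtain ⟨w, rfl⟩ := (hJpt j).1 hj
        show h * k * pt w * (h * k)⁻¹ ∈ D
        rw [show h * k * pt w * (h * k)⁻¹ = h * (k * pt w * k⁻¹) * h⁻¹ by group]
        exact hP₁D (into _ (hk w))
      obtain ⟨w, hw⟩ := (mem_range _).1 ((only _ hmap
        (by rw [Subgroup.card_map_of_injective (MulAut.conj _).injective, hJcard])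
        (by
          rintro _ ⟨a, ha, rfl⟩ _ ⟨b, hb, rfl⟩
          exact (show Commute a b from congrArg Subtype.val
            (hJcomm.is_comm.comm (⟨a, ha⟩ : J) ⟨b, hb⟩)).map (MulAut.conj (h * k)).toMonoidHom)
        (by
          rintro _ ⟨a, ha, rfl⟩
          rw [← map_pow, hJexp a ha, map_one]) (h * k * pt v * (h * k)⁻¹)).1
        ⟨pt v, (hJpt _).2 ⟨v, rfl⟩, rfl⟩)
      exact ⟨w, by rw [hw]; group⟩
    choose f hf using image 1 (fun v => by simpa using hJQ v)
    have hfsurj : Function.Surjective f := Finite.injective_iff_surjective.1 fun a b hab => by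
      have ha := hf a
      rw [hab, ← hf b] at ha
      have hpt_inj : Function.Injective pt := fun a b h => by
        have := congrArg (frame (-c)) (p_inj h)
        rwa [frame_neg_frame, frame_neg_frame] at this
      exact hpt_inj (by simpa using ha)
    intro v
    obtain ⟨w, hw⟩ := image g hg v
    obtain ⟨w', rfl⟩ := hfsurj w
    refine ⟨w', ?_⟩
    rw [← hf w'] at hw
    simpa using mul_left_cancel (mul_right_cancel hw)
  let C : Cube G X :=
    { pt := pt
      pt_add := fun v w => by simp only [hpt, frame_add, p_add]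
      pt_inj := fun v w h => by
        have := congrArg (frame (-c)) (p_inj h)
        rwa [frame_neg_frame, frame_neg_frame] at this
      cent := fun g hg => by
        obtain ⟨v, q, rfl⟩ := Cx g (hptx ▸ hg x0)
        have hq : q = 0 := act_perm_eq_id q
          (p_inj (by rw [← conjeq v q e0]
                     have := hg (frame (-c) e0)
                     simp only [hpt, frame_frame_neg] at this
                     rw [this.eq, mul_inv_cancel_right]))
          (p_inj (by rw [← conjeq v q e1]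
                     have := hg (frame (-c) e1)
                     simp only [hpt, frame_frame_neg] at this
                     rw [this.eq, mul_inv_cancel_right]))
        refine (mem_range _).1 ⟨v, ?_⟩
        rw [hq, s_zero, mul_one]
      exists_acts := hacts
      exists_lift := fun m hm => of_decide_eq_true hm
      norms_of_commute_x := fun g hg => by
        obtain ⟨v, q, rfl⟩ := Cx g (hptx ▸ hg)
        exact (pt_acts v q).norms
      unique := hunique
      sig := fun K hK h => hJsig K hK fun j hj => by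
        obtain ⟨v, rfl⟩ := (hJpt j).1 hj
        exact h v }
  refine ⟨X, C, ?_, ?_, hptx, ?_⟩
  · refine isStandard_of_cube X (fun q => decide_eq_true ⟨p 0 * s q, pt_acts 0 q⟩) fun m n hm hn => ?_
    obtain ⟨g, hg⟩ := of_decide_eq_true hm
    obtain ⟨g', hg'⟩ := of_decide_eq_true hn
    exact decide_eq_true ⟨g * g', hg.mul hg'⟩
  · ext g
    exact (C.mem_J).trans (hJpt g).symm
  · show Nat.card (Subgroup.centralizer ({pt x0} : Set G)) = 162
    rw [hptx]; exact hcardD

end CfsgLib.Recog.SymNine
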