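import Mathlib

/-!
# Groups with an elementary abelian subgroup of order 27 and monomial automizer

The standing hypotheses for the recognition of `S₉` by the centraliser of an element of order three.
-/

set_option autoImplicit false

namespace CfsgLib.Recog.SymNine

universe u

/-- vectors -/
abbrev V := ZMod 3 × ZMod 3 × ZMod 3

/-- a coordinate -/
def get (v : V) : Fin 3 → ZMod 3 := ![v.1, v.2.1, v.2.2]

/-- monomial maps: a permutation index and three signs -/
abbrev Mon := Fin 6 × Bool × Bool × Bool

/-- the six permutations -/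
def src : Fin 6 → Fin 3 → Fin 3 :=
  ![![0, 1, 2], ![1, 2, 0], ![2, 0, 1], ![1, 0, 2], ![0, 2, 1], ![2, 1, 0]]

/-- is the sign in position `i` negative -/
def neg (m : Mon) : Fin 3 → Bool := ![m.2.1, m.2.2.1, m.2.2.2]

/-- the linear map of a monomial element -/
def act (m : Mon) (v : V) : V :=
  let f : Fin 3 → ZMod 3 := fun i => if neg m i then -get v (src m.1 i) else get v (src m.1 i)
  (f 0, f 1, f 2)

/-- the product of two permutation indices -/
def pcomp (a b : Fin 6) : Fin 6 :=
  ((List.finRange 6).find? fun k => (List.finRange 3).all fun i => src k i == src b (src a i)).getD 0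

/-- the product -/
def comp (m n : Mon) : Mon :=
  (pcomp m.1 n.1, xor (neg m 0) (neg n (src m.1 0)), xor (neg m 1) (neg n (src m.1 1)),
    xor (neg m 2) (neg n (src m.1 2)))

/-- the identity -/
abbrev monOne : Mon := (0, false, false, false)

/-- the sum of the three basis vectors -/
abbrev x0 : V := (1, 1, 1)
/-- the first basis vector -/
abbrev e0 : V := (1, 0, 0)
/-- the second basis vector -/
abbrev e1 : V := (0, 1, 0)
/-- the third basis vector -/
abbrev e2 : V := (0, 0, 1)

/-- permutations only -/
def sixX (m : Mon) : Bool := !m.2.1 && !m.2.2.1 && !m.2.2.2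
/-- permutations and the negation -/
def twelveX (m : Mon) : Bool := m.2.1 == m.2.2.1 && m.2.2.1 == m.2.2.2
/-- evenly many signs -/
def evenX (m : Mon) : Bool := !(xor m.2.1 (xor m.2.2.1 m.2.2.2))
/-- all monomial maps -/
def allX (_ : Mon) : Bool := true

theorem get_act (m : Mon) (v : V) (i : Fin 3) :
    get (act m v) i = if neg m i then -get v (src m.1 i) else get v (src m.1 i) := by
  fin_cases i <;> rfl

theorem ext_get {v w : V} (h : ∀ i, get v i = get w i) : v = w := by
  obtain ⟨v0, v1, v2⟩ := v
  obtain ⟨w0, w1, w2⟩ := w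
  exact Prod.ext (h 0) (Prod.ext (h 1) (h 2))

theorem src_pcomp : ∀ a b : Fin 6, ∀ i, src (pcomp a b) i = src b (src a i) := by decide +kernel

theorem neg_comp (m n : Mon) (i : Fin 3) :
    neg (comp m n) i = xor (neg m i) (neg n (src m.1 i)) := by
  fin_cases i <;> rfl

theorem act_comp (m n : Mon) (v : V) : act (comp m n) v = act m (act n v) := by
  refine ext_get fun i => ?_
  rw [get_act, get_act, get_act, neg_comp]
  show (if _ then -get v (src (pcomp m.1 n.1) i) else get v (src (pcomp m.1 n.1) i)) = _
  rw [src_pcomp]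
  cases neg m i <;> cases neg n (src m.1 i) <;> simp

theorem act_one : ∀ v : V, act monOne v = v := by decide +kernel

theorem act_add (m : Mon) (v w : V) : act m (v + w) = act m v + act m w := by
  have h : ∀ (v w : V) i, get (v + w) i = get v i + get w i := fun v w i => by
    fin_cases i <;> rfl
  refine ext_get fun i => ?_
  rw [get_act, h, h, get_act, get_act]
  cases neg m i <;> simp [add_comm]

/-- recover a monomial map from the images of the basis -/
def decode (a b c : V) : Mon :=
  let col : Fin 3 → Fin 3 := fun i => if get a i ≠ 0 then 0 else if get b i ≠ 0 then 1 else 2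
  let sg : Fin 3 → Bool := fun i => decide (get a i + get b i + get c i = 2)
  (((List.finRange 6).find? fun k => (List.finRange 3).all fun i => src k i == col i).getD 0,
    sg 0, sg 1, sg 2)

theorem decode_act : ∀ m : Mon, decode (act m e0) (act m e1) (act m e2) = m := by decide +kernel

theorem act_injective {m n : Mon} (h : ∀ v, act m v = act n v) : m = n := by
  rw [← decode_act m, h, h, h, decode_act n]

/-- an element permuting the values of `pt` -/
def Norms {G : Type u} [Group G] (pt : V → G) (g : G) : Prop := ∀ v, ∃ w, g * pt v * g⁻¹ = pt w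

/-- an element acting as `m` -/
def Acts {G : Type u} [Group G] (pt : V → G) (g : G) (m : Mon) : Prop :=
  ∀ v, g * pt v * g⁻¹ = pt (act m v)

/-- The standing hypotheses: `pt` parametrises a self-centralising elementary abelian subgroup of
order 27, with normaliser inducing the monomial maps in `X`, containing the centraliser of
`pt x0`, unique in every 3-subgroup containing it and normalising no 3'-subgroup. -/
structure Cube (G : Type u) [Group G] (X : Mon → Bool) where
  /-- the parametrisation -/
  pt : V → G
  pt_add : ∀ v w, pt (v + w) = pt v * pt w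
  pt_inj : Function.Injective pt
  cent : ∀ g, (∀ v, Commute g (pt v)) → g ∈ Set.range pt
  exists_acts : ∀ g, Norms pt g → ∃ m, X m = true ∧ Acts pt g m
  exists_lift : ∀ m, X m = true → ∃ g, Acts pt g m
  norms_of_commute_x : ∀ g, Commute g (pt x0) → Norms pt g
  unique : ∀ Q : Subgroup G, IsPGroup 3 Q → (∀ v, pt v ∈ Q) → ∀ g : G,
    (∀ v, g * pt v * g⁻¹ ∈ Q) → Norms pt g
  sig : ∀ K : Subgroup G, (Nat.card K).Coprime 3 →
    (∀ v, K.map (MulAut.conj (pt v)).toMonoidHom = K) → K = ⊥

variable {G : Type u} [Group G] {X : Mon → Bool} (C : Cube G X)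

/-- every centraliser of a nontrivial point normalises the cube -/
def Cube.Local : Prop := ∀ v : V, v ≠ 0 → ∀ g : G, Commute g (C.pt v) → Norms C.pt g

theorem Cube.pt_zero : C.pt 0 = 1 := by
  have h := C.pt_add 0 0
  rw [add_zero] at h
  exact left_eq_mul.1 h

theorem Cube.pt_neg (v : V) : C.pt (-v) = (C.pt v)⁻¹ := by
  refine eq_inv_of_mul_eq_one_left ?_
  rw [← C.pt_add, neg_add_cancel, C.pt_zero]

theorem Cube.pt_ne_one {v : V} (hv : v ≠ 0) : C.pt v ≠ 1 := fun h =>
  hv (C.pt_inj (h.trans C.pt_zero.symm))

theorem Cube.pt_cube (v : V) : C.pt v ^ 3 = 1 := by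
  have h : ∀ v : V, v + v + v = 0 := by decide +kernel
  rw [pow_succ, pow_two, ← C.pt_add, ← C.pt_add, h, C.pt_zero]

theorem Cube.commute_pt (v w : V) : Commute (C.pt v) (C.pt w) := by
  rw [Commute, SemiconjBy, ← C.pt_add, ← C.pt_add, add_comm]

/-- the cube as a subgroup -/
def Cube.J : Subgroup G where
  carrier := Set.range C.pt
  one_mem' := ⟨0, C.pt_zero⟩
  mul_mem' := by rintro _ _ ⟨v, rfl⟩ ⟨w, rfl⟩; exact ⟨v + w, C.pt_add v w⟩
  inv_mem' := by rintro _ ⟨v, rfl⟩; exact ⟨-v, C.pt_neg v⟩

theorem Cube.mem_J {g : G} : g ∈ C.J ↔ ∃ v, C.pt v = g := Iff.rfl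

theorem Cube.card_J : Nat.card C.J = 27 := by
  have e : C.J ≃ V := (Equiv.ofInjective C.pt C.pt_inj).symm
  rw [Nat.card_congr e, Nat.card_eq_fintype_card]
  rfl

theorem Cube.isPGroup_J : IsPGroup 3 C.J :=
  IsPGroup.of_card (n := 3) (by rw [C.card_J]; norm_num)

end CfsgLib.Recog.SymNine
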