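import Cfsg.Agent.Lib.Recog.SymNine.Interface
import Cfsg.Agent.Lib.Recog.SymNine.Group
import Cfsg.Agent.Lib.Recog.SymNine.Lift
import Cfsg.Agent.Lib.Recog.SymNine.Count

/-!
# The centraliser of a plane normalises the cube
-/

set_option autoImplicit false

namespace CfsgLib.Recog.SymNine

universe u

/-- all vectors -/
def allVec : List V := (List.range 27).map fun n => ((n / 9 : ℕ), (n / 3 % 3 : ℕ), (n % 3 : ℕ))

theorem mem_allVec : ∀ u : V, u ∈ allVec := by decide +kernel

theorem fixed_small : ∀ m : Mon, comp m (comp m m) = monOne → m ≠ monOne →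
    (allVec.filter fun v => decide (act m v = v)).length ≤ 3 := by decide +kernel

theorem eq_zero_of_eq_neg : ∀ v : V, v = -v → v = 0 := by decide +kernel

/-- linear combinations of two vectors -/
def comb (v w : V) (ij : ZMod 3 × ZMod 3) : V :=
  (ij.1 * v.1 + ij.2 * w.1, ij.1 * v.2.1 + ij.2 * w.2.1, ij.1 * v.2.2 + ij.2 * w.2.2)

theorem comb_add (v w : V) (a b : ZMod 3 × ZMod 3) :
    comb v w (a + b) = comb v w a + comb v w b := by
  simp only [comb, Prod.fst_add, Prod.snd_add, Prod.mk_add_mk, Prod.mk.injEq]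
  refine ⟨?_, ?_, ?_⟩ <;> ring

theorem comb_basis (v w : V) : comb v w (1, 0) = v ∧ comb v w (0, 1) = w ∧ comb v w 0 = 0 := by
  simp [comb]

set_option synthInstance.maxSize 2000 in
theorem comb_eq_zero : ∀ v w : V, v ≠ 0 → w ≠ 0 → w ≠ v → w ≠ -v →
    ∀ a : ZMod 3 × ZMod 3, comb v w a = 0 → a = 0 := by decide +kernel

variable {G : Type u} [Group G] {X : Mon → Bool}

/-- an element inducing the identity modulo a subgroup it centralises -/
theorem Cube.eq_one_of_cube_fixed [Finite G] (C : Cube G X) {g : G} {m : Mon}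
    (hgm : Acts C.pt g m) {v w : V} (hv : v ≠ 0) (hwv : w ≠ v) (hwv' : w ≠ -v) (hw : w ≠ 0)
    (hfv : act m v = v) (hfw : act m w = w) (h3 : ∀ u, Commute (g ^ 3) (C.pt u)) :
    m = monOne := by
  by_contra hm
  have hm3 : comp m (comp m m) = monOne := act_injective fun u => C.pt_inj (by
    rw [act_one, ← (hgm.mul (hgm.mul hgm)) u, show g * (g * g) = g ^ 3 by simp only [pow_succ, pow_zero, one_mul, mul_assoc], (h3 u).eq,
      mul_inv_cancel_right])
  have h := fixed_small m hm3 hm
  have hneg : act m (-v) = -v := C.pt_inj (by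
    rw [← hgm (-v), C.pt_neg, ← conj_inv, hgm v, hfv])
  have h0 : act m 0 = 0 := C.pt_inj (by rw [← hgm 0, C.pt_zero, mul_one, mul_inv_cancel])
  have key : ([0, v, -v, w] : List V).Nodup := by
    have hvn : v ≠ -v := fun e => hv (eq_zero_of_eq_neg v e)
    have h0n : (0 : V) ≠ -v := fun e => hv (neg_eq_zero.1 e.symm)
    simp only [List.nodup_cons, List.mem_cons, List.not_mem_nil, or_false, not_or, not_false_iff,
      List.nodup_nil, and_true]
    exact ⟨⟨hv.symm, h0n, hw.symm⟩, ⟨hvn, Ne.symm hwv⟩, Ne.symm hwv'⟩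
  have hsub : ([0, v, -v, w] : List V) ⊆ allVec.filter fun u => decide (act m u = u) := by
    intro u hu
    simp only [List.mem_cons, List.not_mem_nil, or_false] at hu
    refine List.mem_filter.2 ⟨mem_allVec u, decide_eq_true ?_⟩
    rcases hu with rfl | rfl | rfl | rfl <;> assumption
  have := (List.subperm_of_subset key hsub).length_le
  simp at this
  omega

/-- the centraliser of a plane of the cube normalises it -/
theorem Cube.planesLocal [Finite G] (C : Cube G X) : C.PlanesLocal := by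
  classical
  intro v w hv hw hwv hwv' g₀ hg₀v hg₀w
  have : Fact (Nat.Prime 3) := ⟨Nat.prime_three⟩
  set M := Subgroup.centralizer ({C.pt v, C.pt w} : Set G) with hM
  have memM : ∀ g, g ∈ M ↔ Commute g (C.pt v) ∧ Commute g (C.pt w) := fun g => by
    rw [hM, Subgroup.mem_centralizer_iff]
    exact ⟨fun h => ⟨(h _ (by simp)).symm, (h _ (by simp)).symm⟩, fun h y hy => by
      rcases hy with rfl | rfl
      · exact h.1.eq.symm
      · exact h.2.eq.symm⟩
  let A : Subgroup G :=
    { carrier := Set.range fun a => C.pt (comb v w a)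
      one_mem' := ⟨0, by simp only; rw [(comb_basis v w).2.2, C.pt_zero]⟩
      mul_mem' := by
        rintro _ _ ⟨a, rfl⟩ ⟨b, rfl⟩
        exact ⟨a + b, by simp only; rw [comb_add, C.pt_add]⟩
      inv_mem' := by
        rintro _ ⟨a, rfl⟩
        refine ⟨-a, eq_inv_of_mul_eq_one_left ?_⟩
        rw [← C.pt_add, ← comb_add, neg_add_cancel, (comb_basis v w).2.2, C.pt_zero] }
  have hAJ : A ≤ C.J := by
    rintro _ ⟨a, rfl⟩; exact ⟨_, rfl⟩
  have hJM : C.J ≤ M := by
    rintro _ ⟨u, rfl⟩
    exact (memM _).2 ⟨C.commute_pt u v, C.commute_pt u w⟩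
  have hcen : ∀ g ∈ M, ∀ a ∈ A, Commute g a := by
    intro g hg _ ⟨a, ha⟩
    subst ha
    have hpow : ∀ (u : V) (k : ℕ), C.pt u ^ k = C.pt (k • u) := fun u k => by
      induction k with
      | zero => rw [pow_zero, zero_smul, C.pt_zero]
      | succ k ih => rw [pow_succ, ih, ← C.pt_add, succ_nsmul]
    have e : comb v w a = a.1.val • v + a.2.val • w := by
      obtain ⟨i, j⟩ := a
      simp [comb, Prod.ext_iff, nsmul_eq_mul]
    show Commute g (C.pt (comb v w a))
    rw [e, C.pt_add, ← hpow, ← hpow]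
    exact (((memM g).1 hg).1.pow_right _).mul_right (((memM g).1 hg).2.pow_right _)
  set Z := A.subgroupOf M with hZ
  have hZc : Z ≤ Subgroup.center M := fun z hz => Subgroup.mem_center_iff.2 fun m =>
    Subtype.ext (hcen m m.2 z (Subgroup.mem_subgroupOf.1 hz)).eq
  have : Z.Normal := ⟨fun z hz m => by
    rw [Subgroup.mem_center_iff.1 (hZc hz) m, mul_inv_cancel_right]; exact hz⟩
  let q := QuotientGroup.mk' Z
  let ιJ : C.J →* M := Subgroup.inclusion hJM
  set X₁ : Subgroup (M ⧸ Z) := (q.comp ιJ).range with hX₁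
  -- the image of the cube is self-centralising of order three
  have hcube : ∀ j : C.J, (j : G) ^ 3 = 1 := by rintro ⟨_, u, rfl⟩; exact C.pt_cube u
  have selfc : ∀ g : M, (∀ u, (q g) * q (ιJ ⟨C.pt u, u, rfl⟩) = q (ιJ ⟨C.pt u, u, rfl⟩) * q g) →
      (g : G) ∈ C.J := by
    intro g hg
    have hα : ∀ u, ∃ a ∈ A, (g : G) * C.pt u * (g : G)⁻¹ = a * C.pt u := fun u => by
      have h := (QuotientGroup.eq_one_iff _).1 (show q (g * ιJ ⟨C.pt u, u, rfl⟩ * g⁻¹ *
        (ιJ ⟨C.pt u, u, rfl⟩)⁻¹) = 1 by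
          simp only [map_mul, map_inv, hg u, mul_inv_cancel_right, mul_inv_cancel])
      exact ⟨_, Subgroup.mem_subgroupOf.1 h, by simp [ιJ]⟩
    have hn : Norms C.pt (g : G) := fun u => by
      obtain ⟨a, ha, he⟩ := hα u
      obtain ⟨b, rfl⟩ := hAJ ha
      exact ⟨b + u, by rw [he, C.pt_add]⟩
    obtain ⟨m, -, hm⟩ := C.exists_acts _ hn
    have hone : m = monOne := by
      refine C.eq_one_of_cube_fixed hm hv hwv hwv' hw ?_ ?_ fun u => ?_
      · exact C.pt_inj (by rw [← hm v, ((memM _).1 g.2).1.eq, mul_inv_cancel_right])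
      · exact C.pt_inj (by rw [← hm w, ((memM _).1 g.2).2.eq, mul_inv_cancel_right])
      · obtain ⟨a, ha, he⟩ := hα u
        obtain ⟨b, rfl⟩ := hAJ ha
        have hgb : Commute (g : G) (C.pt b) := hcen g g.2 _ ha
        have e1 : (g : G) * C.pt u = C.pt b * C.pt u * g := by rw [← he]; group
        have hpw : ∀ n : ℕ, (g : G) ^ n * C.pt u = C.pt b ^ n * C.pt u * (g : G) ^ n := fun n => by
          induction n with
          | zero => simp
          | succ n ih =>
            rw [pow_succ' (g : G) n, mul_assoc, ih, ← mul_assoc, ← mul_assoc,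
              (hgb.pow_right n).eq, mul_assoc (C.pt b ^ n) (g : G) (C.pt u), e1,
              ← mul_assoc (C.pt b ^ n) _ (g : G), ← mul_assoc (C.pt b ^ n) (C.pt b) (C.pt u),
              ← pow_succ, mul_assoc]
        show (g : G) ^ 3 * C.pt u = C.pt u * (g : G) ^ 3
        rw [hpw 3, C.pt_cube, one_mul]
    subst hone
    exact C.eq_pt_of_acts_one hm
  have hcent : Subgroup.centralizer (X₁ : Set (M ⧸ Z)) = X₁ := by
    refine le_antisymm (fun y hy => ?_) ?_
    · obtain ⟨g, rfl⟩ := QuotientGroup.mk'_surjective Z y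
      exact ⟨⟨g, selfc g fun u =>
        (Subgroup.mem_centralizer_iff.1 hy _ ⟨_, rfl⟩).symm⟩, congrArg q (Subtype.ext rfl)⟩
    · rintro _ ⟨a, rfl⟩
      refine Subgroup.mem_centralizer_iff.2 ?_
      rintro _ ⟨b, rfl⟩
      obtain ⟨_, u, rfl⟩ := a
      obtain ⟨_, u', rfl⟩ := b
      show q (ιJ _) * q (ιJ _) = q (ιJ _) * q (ιJ _)
      rw [← map_mul, ← map_mul]
      exact congrArg q (Subtype.ext (C.commute_pt u' u).eq)
  have hX1card : Nat.card X₁ = 3 := by
    have hker : ∀ j : C.J, q (ιJ j) = 1 ↔ (j : G) ∈ A := fun j =>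
      (QuotientGroup.eq_one_iff _).trans Subgroup.mem_subgroupOf
    have h27 := Subgroup.card_mul_index (q.comp ιJ).ker
    rw [Subgroup.index_ker, C.card_J] at h27
    have hkerc : Nat.card (q.comp ιJ).ker = Nat.card A := by
      refine Nat.card_congr ⟨fun j => ⟨(j.1 : G), (hker j.1).1 j.2⟩,
        fun a => ⟨⟨a, hAJ a.2⟩, (hker ⟨a, hAJ a.2⟩).2 a.2⟩, fun j => rfl, fun a => rfl⟩
    -- `A` has order nine
    have hA9 : Nat.card A = 9 := by
      have hinj : Function.Injective fun a => C.pt (comb v w a) := fun a b h => by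
        refine sub_eq_zero.1 (comb_eq_zero v w hv hw hwv hwv' _ ?_)
        have := comb_add v w (a - b) b
        rw [sub_add_cancel, show comb v w a = comb v w b from C.pt_inj h] at this
        exact right_eq_add.1 this
      rw [show Nat.card A = Nat.card (Set.range fun a => C.pt (comb v w a)) from rfl,
        Nat.card_range_of_injective hinj]
      simp
    rw [hkerc, hA9] at h27
    show Nat.card (q.comp ιJ).range = 3
    omega
  let ψ : C.J →* MulAut (M ⧸ Z) := MulAut.conj.comp (q.comp ιJ)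
  rcases card_dvd_six_or_exists_invariant C.isPGroup_J ψ hX1card hcent with hd | hR
  · have hcardM : Nat.card M ∣ 54 := by
      rw [Z.card_eq_card_quotient_mul_card_subgroup]
      have h9 : Nat.card Z ∣ 27 := by
        rw [Nat.card_congr (Subgroup.subgroupOfEquivOfLe (hAJ.trans hJM)).toEquiv, ← C.card_J]
        exact Subgroup.card_dvd_of_le hAJ
      have hne : Nat.card Z ≠ 27 := by
        intro h
        have hAe : A = C.J := Subgroup.eq_of_le_of_card_ge hAJ (by
          rw [C.card_J, ← h, Nat.card_congr (Subgroup.subgroupOfEquivOfLe (hAJ.trans hJM)).toEquiv])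
        have h1 : X₁ = ⊥ := by
          rw [eq_bot_iff]
          rintro _ ⟨j, rfl⟩
          exact Subgroup.mem_bot.2 ((QuotientGroup.eq_one_iff _).2
            (Subgroup.mem_subgroupOf.2 (by show (j : G) ∈ A; rw [hAe]; exact j.2)))
        rw [h1, Subgroup.card_bot] at hX1card
        omega
      obtain ⟨k, hk, hZk⟩ := (Nat.dvd_prime_pow Nat.prime_three (m := 3)).1 (by simpa using h9)
      rw [hZk] at hne ⊢
      have hk2 : k ≤ 2 := by
        by_contra h
        exact hne (by rw [show k = 3 by omega]; norm_num)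
      exact (mul_dvd_mul hd (Nat.pow_dvd_pow 3 hk2)).trans (by norm_num)
    have hidx : (C.J.subgroupOf M).index ∣ 2 := by
      have h := Subgroup.card_mul_index (C.J.subgroupOf M)
      rw [Nat.card_congr (Subgroup.subgroupOfEquivOfLe hJM).toEquiv, C.card_J] at h
      rw [← h, show (54 : ℕ) = 27 * 2 from rfl] at hcardM
      exact Nat.dvd_of_mul_dvd_mul_left (by norm_num) hcardM
    have hnJ : (C.J.subgroupOf M).Normal := by
      rcases (Nat.dvd_prime Nat.prime_two).1 hidx with h | h
      · rw [Subgroup.index_eq_one] at h; rw [h]; infer_instance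
      · exact Subgroup.normal_of_index_eq_two h
    intro u
    have hg₀ : g₀ ∈ M := (memM _).2 ⟨hg₀v, hg₀w⟩
    have h := hnJ.conj_mem ⟨C.pt u, hJM ⟨u, rfl⟩⟩ (Subgroup.mem_subgroupOf.2 ⟨u, rfl⟩) ⟨g₀, hg₀⟩
    obtain ⟨w', hw'⟩ := Subgroup.mem_subgroupOf.1 h
    exact ⟨w', hw'.symm⟩
  · exfalso
    obtain ⟨p, R, hp, hp3, hRp, hRne, hRinv⟩ := hR
    have : Fact p.Prime := ⟨hp⟩
    obtain ⟨K, hKp, hKne, -, hKinv⟩ := exists_lift_invariant Z hZc R hRp hRne
    set K' := K.map M.subtype
    have hK' : K' = ⊥ := by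
      refine C.sig K' ?_ fun u => ?_
      · obtain ⟨n, hn⟩ := (hKp.map M.subtype).exists_card_eq
        rw [hn]
        exact ((Nat.coprime_primes hp Nat.prime_three).2 hp3).pow_left n
      · set j : C.J := ⟨C.pt u, u, rfl⟩
        have hT : (R.comap q).map (MulAut.conj (ιJ j)).toMonoidHom = R.comap q := by
          refine Subgroup.eq_of_le_of_card_ge ?_
            (Subgroup.card_map_of_injective (MulAut.conj (ιJ j)).injective).ge
          rintro _ ⟨x, hx, rfl⟩
          show q (ιJ j * x * (ιJ j)⁻¹) ∈ R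
          rw [← hRinv j]
          exact ⟨q x, hx, by simp [ψ]⟩
        have h := congrArg (Subgroup.map M.subtype) (hKinv _ hT)
        rw [Subgroup.map_map] at h
        rw [Subgroup.map_map]
        convert h using 2
        ext x
        rfl
    rw [Subgroup.map_eq_bot_iff, M.ker_subtype, le_bot_iff] at hK'
    exact hKne hK'

end CfsgLib.Recog.SymNine
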