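import Cfsg.Agent.Lib.Recog.SymNine.Basic
import Mathlib.GroupTheory.Perm.Fin

/-!
# The interface between the parts of the recognition of `S₉`
-/

set_option autoImplicit false

namespace CfsgLib.Recog.SymNine

universe u

variable {G : Type u} [Group G] {X : Mon → Bool}

/-- the support size of a vector -/
def weight (v : V) : ℕ := ((List.finRange 3).filter fun i => decide (get v i ≠ 0)).length

/-- the centraliser of any rank two subgroup normalises the cube -/
def Cube.PlanesLocal (C : Cube G X) : Prop :=
  ∀ v w : V, v ≠ 0 → w ≠ 0 → w ≠ v → w ≠ -v →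
    ∀ g : G, Commute g (C.pt v) → Commute g (C.pt w) → Norms C.pt g

/-- the configuration occurring in `S₉` -/
structure Cube.SixCase (C : Cube G allX) : Prop where
  planes : C.PlanesLocal
  middle : ∀ v : V, 2 ≤ weight v → ∀ g : G, Commute g (C.pt v) → Norms C.pt g
  six : ∀ i : Fin 3, ∃ π : Subgroup.centralizer ({C.pt (![e0, e1, e2] i)} : Set G) →* Equiv.Perm (Fin 6),
    Function.Surjective π ∧ ∀ g, π g = 1 ↔ (g : G) ∈ Subgroup.zpowers (C.pt (![e0, e1, e2] i))

end CfsgLib.Recog.SymNine
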