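import Cfsg.Agent.Lib.Recog.SymNine.Lines
import Cfsg.Agent.Lib.Recog.SymNine.Planes
import Cfsg.Agent.Lib.Recog.SymNine.Count
import Cfsg.Agent.Lib.Transfer.Focal
import Cfsg.Agent.Lib.Transfer.Frobenius
import Cfsg.Agent.Lib.TISylow.Dihedral

/-!
# Centralisers with trivial or reflection stabiliser
-/

set_option autoImplicit false

namespace CfsgLib.Recog.SymNine

universe u

open scoped commutatorElement

variable {G : Type u} [Group G] {X : Mon → Bool} (C : Cube G X)

/-- the centraliser of a point -/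
def Cube.D (v : V) : Subgroup G := Subgroup.centralizer ({C.pt v} : Set G)

theorem Cube.mem_D {v : V} {g : G} : g ∈ C.D v ↔ Commute g (C.pt v) :=
  Subgroup.mem_centralizer_singleton_iff

theorem Cube.pt_mem_D (u v : V) : C.pt u ∈ C.D v := C.mem_D.2 (C.commute_pt u v)

theorem Cube.J_le_D (v : V) : C.J ≤ C.D v := by
  rintro _ ⟨u, rfl⟩; exact C.pt_mem_D u v

theorem Cube.isPGroup_le_J [Finite G] {v : V} (hno : NoThree X v) {Q : Subgroup G}
    (hQ : IsPGroup 3 Q) (hJQ : C.J ≤ Q) (hQD : Q ≤ C.D v) : Q = C.J := by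
  refine le_antisymm (fun g hg => ?_) hJQ
  obtain ⟨m, hm, hgm⟩ := C.exists_stab (C.norms_of_mem_pGroup hQ hJQ hg) (C.mem_D.1 (hQD hg))
  have h2 := hgm.mul hgm
  have h4 := h2.mul h2
  have h12 := (h4.mul h4).mul h4
  rw [show comp (comp (comp (comp m m) (comp m m)) (comp (comp m m) (comp m m)))
    (comp (comp m m) (comp m m)) = monOne from mon_twelve m] at h12
  have hJ12 : g ^ 12 ∈ C.J := by
    obtain ⟨u, hu⟩ := C.eq_pt_of_acts_one h12
    refine ⟨u, hu.trans ?_⟩
    simp only [show (12 : ℕ) = 1+1+1+1+1+1+1+1+1+1+1+1 from rfl, pow_add, pow_one, mul_assoc]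
  obtain ⟨n, hn⟩ := hQ ⟨g, hg⟩
  have hn' : g ^ 3 ^ n = 1 := congrArg Subtype.val hn
  have h3n : (g ^ 3) ^ 3 ^ n = 1 := by rw [← pow_mul, mul_comm, pow_mul, hn', one_pow]
  have hcop : (4 : ℕ).Coprime (orderOf (g ^ 3)) :=
    Nat.Coprime.coprime_dvd_right (orderOf_dvd_of_pow_eq_one h3n)
      (Nat.Coprime.pow_right _ (by norm_num))
  obtain ⟨k, hk⟩ := exists_pow_eq_self_of_coprime hcop
  have hg3 : g ^ 3 ∈ C.J := by
    rw [← hk, ← pow_mul, ← pow_mul, ← mul_assoc, pow_mul]
    exact C.J.pow_mem hJ12 k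
  obtain ⟨w, hw⟩ := hg3
  have hm3 : comp m (comp m m) = monOne := C.acts_unique
    (by
      have := hgm.mul h2
      rwa [show g * (g * g) = g ^ 3 by simp only [pow_succ, pow_zero, one_mul, mul_assoc], ← hw]
        at this)
    (C.acts_pt w)
  rw [hno m hm hm3] at hgm
  exact C.eq_pt_of_acts_one hgm

/-- the cube is a Sylow subgroup of the centraliser -/
theorem Cube.exists_sylow [Finite G] {v : V} (hno : NoThree X v) :
    ∃ P : Sylow 3 (C.D v), (P : Subgroup (C.D v)) = C.J.subgroupOf (C.D v) := by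
  obtain ⟨P, hP⟩ := (C.isPGroup_J.of_equiv
    (Subgroup.subgroupOfEquivOfLe (C.J_le_D v)).symm).exists_le_sylow
  have h := C.isPGroup_le_J hno (P.2.map (C.D v).subtype)
    (fun x hx => ⟨⟨x, C.J_le_D v hx⟩, hP hx, rfl⟩) (Subgroup.map_subtype_le _)
  refine ⟨P, ?_⟩
  rw [← h]
  exact (Subgroup.comap_map_eq_self_of_injective (C.D v).subtype_injective _).symm

theorem Cube.norms_of_sylow_normalizer [Finite G] {v : V} {P : Sylow 3 (C.D v)}
    (hP : (P : Subgroup (C.D v)) = C.J.subgroupOf (C.D v)) {n : C.D v}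
    (hn : n ∈ Subgroup.normalizer ((P : Subgroup (C.D v)) : Set (C.D v))) : Norms C.pt (n : G) :=
  fun u => by
    have h := (Subgroup.mem_normalizer_iff.1 hn ⟨C.pt u, C.pt_mem_D u v⟩).1 (by
      rw [hP]; exact ⟨u, rfl⟩)
    rw [hP] at h
    obtain ⟨w, hw⟩ := Subgroup.mem_subgroupOf.1 h
    exact ⟨w, hw.symm⟩

theorem Cube.sylow_comm {v : V} {P : Sylow 3 (C.D v)}
    (hP : (P : Subgroup (C.D v)) = C.J.subgroupOf (C.D v)) :
    IsMulCommutative (P : Subgroup (C.D v)) := by
  refine ⟨⟨fun a b => Subtype.ext (Subtype.ext ?_)⟩⟩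
  obtain ⟨x, hx⟩ := Subgroup.mem_subgroupOf.1 (hP.le a.2)
  obtain ⟨y, hy⟩ := Subgroup.mem_subgroupOf.1 (hP.le b.2)
  show (((a : C.D v)) : G) * ((b : C.D v) : G) = ((b : C.D v) : G) * ((a : C.D v) : G)
  rw [← hx, ← hy]
  exact (C.commute_pt x y).eq

theorem Cube.localAt_of_triv [Finite G] {v : V} (hno : NoThree X v) (h : TypeTriv X v) :
    C.LocalAt v := by
  have : Fact (Nat.Prime 3) := ⟨Nat.prime_three⟩
  obtain ⟨P, hP⟩ := C.exists_sylow hno
  have hle : Subgroup.normalizer ((P : Subgroup (C.D v)) : Set (C.D v)) ≤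
      Subgroup.centralizer ((P : Subgroup (C.D v)) : Set (C.D v)) := by
    intro n hn
    obtain ⟨m, hm, hnm⟩ := C.exists_stab (C.norms_of_sylow_normalizer hP hn) (C.mem_D.1 n.2)
    rw [h, Finset.mem_singleton] at hm
    subst hm
    refine Subgroup.mem_centralizer_iff.2 fun y hy => ?_
    obtain ⟨u, hu⟩ := Subgroup.mem_subgroupOf.1 (hP.le hy)
    refine Subtype.ext ?_
    show (y : G) * (n : G) = (n : G) * (y : G)
    have := hnm u
    rw [act_one] at this
    rw [← hu]
    exact (mul_inv_eq_iff_eq_mul.1 this).symm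
  obtain ⟨P', K, hKn, hK⟩ := CfsgLib.Transfer.hasNormalPComplement_of_normalizer_le_centralizer P hle
  have hKc : (Nat.card K).Coprime 3 := by
    have h1 := hK.card_mul_card
    have h2 := Subgroup.card_mul_index (P' : Subgroup (C.D v))
    rw [← h1, mul_comm (Nat.card K)] at h2
    rw [← Nat.eq_of_mul_eq_mul_left Nat.card_pos h2]
    exact ((Nat.prime_three.coprime_iff_not_dvd).2 P'.not_dvd_index).symm
  have hKb : K.map (C.D v).subtype = ⊥ := by
    refine C.sig _ (by rwa [Subgroup.card_map_of_injective (C.D v).subtype_injective]) fun u => ?_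
    refine Subgroup.eq_of_le_of_card_ge ?_
      (Subgroup.card_map_of_injective (MulAut.conj (C.pt u)).injective).ge
    rintro _ ⟨_, ⟨x, hx, rfl⟩, rfl⟩
    exact ⟨_, hKn.conj_mem x hx ⟨C.pt u, C.pt_mem_D u v⟩, rfl⟩
  rw [Subgroup.map_eq_bot_iff_of_injective _ (C.D v).subtype_injective] at hKb
  subst hKb
  rw [Subgroup.isComplement'_bot_left] at hK
  intro g hg
  have hgP : (⟨g, C.mem_D.2 hg⟩ : C.D v) ∈ (P' : Subgroup (C.D v)) := by rw [hK]; trivial
  refine C.norms_of_mem_pGroup (P'.2.map (C.D v).subtype) ?_ ⟨_, hgP, rfl⟩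
  rw [hK]
  intro x hx
  exact ⟨⟨x, C.J_le_D v hx⟩, trivial, rfl⟩

theorem Cube.localAt_of_refl [Finite G] {v : V} (hv : v ≠ 0) (hno : NoThree X v)
    (h : TypeRefl X v) : C.LocalAt v := by
  classical
  have : Fact (Nat.Prime 3) := ⟨Nat.prime_three⟩
  obtain ⟨hc2, m, hm, b, hb, hbv, hbv', hmb, h0, h1, h2⟩ := h
  have hmne : m ≠ monOne := by
    intro e
    subst e
    rw [act_one] at hmb
    exact hb (eq_zero_of_eq_neg b hmb)
  obtain ⟨hX, hmv⟩ := mem_stab.1 hm
  obtain ⟨k, hk⟩ := C.exists_lift m hX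
  have hkD : k ∈ C.D v := C.mem_D.2 (C.commute_of_fix hk hmv)
  obtain ⟨P, hP⟩ := C.exists_sylow hno
  have := C.sylow_comm hP
  set M := commutator (C.D v) with hM
  set Bs := Subgroup.zpowers (C.pt b) with hBs
  -- the intersection with the Sylow subgroup
  have hfoc : ∀ d : (C.D v), d ∈ M → d ∈ (P : Subgroup (C.D v)) → (d : G) ∈ Bs := by
    intro d h1' h2'
    have hle : ⁅(P : Subgroup (C.D v)), Subgroup.normalizer ((P : Subgroup (C.D v)) : Set (C.D v))⁆ ≤
        Bs.subgroupOf (C.D v) := by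
      rw [Subgroup.commutator_le]
      intro x hx n hn
      obtain ⟨u, hu⟩ := Subgroup.mem_subgroupOf.1 (hP.le hx)
      obtain ⟨m', hm', hnm⟩ := C.exists_stab (C.norms_of_sylow_normalizer hP hn) (C.mem_D.1 n.2)
      rw [Subgroup.mem_subgroupOf]
      have hcalc : ((⁅x, n⁆ : (C.D v)) : G) = C.pt (u + act m' (-u)) := by
        rw [commutatorElement_def, C.pt_add, ← hnm, C.pt_neg, hu]
        push_cast
        group
      rw [hcalc]
      refine (C.mem_zpowers_pt hb).2 ⟨_, ?_, rfl⟩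
      have hone : monOne ∈ stab X v := mem_stab.2 ⟨C.allowed_one, act_one v⟩
      rcases exists_eq_one hone hc2 hm hmne hm' with rfl | rfl
      · simp [act_one, inLine]
      · have := inLine_sub h0 h1 h2 (-u)
        rwa [sub_neg_eq_add, add_comm] at this
    have := hle ((CfsgLib.Transfer.commutator_inf_abelian_sylow P).le ⟨h1', h2'⟩)
    exact Subgroup.mem_subgroupOf.1 this
  have hbM : (⟨C.pt b, C.pt_mem_D b v⟩ : (C.D v)) ∈ M := by
    have h' : ⁅(⟨k, hkD⟩ : C.D v), (⟨C.pt b, C.pt_mem_D b v⟩ : C.D v)⁆ ∈ M :=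
      Subgroup.commutator_mem_commutator (Subgroup.mem_top _) (Subgroup.mem_top _)
    have e : ⁅(⟨k, hkD⟩ : C.D v), (⟨C.pt b, C.pt_mem_D b v⟩ : C.D v)⁆ =
        ⟨C.pt b, C.pt_mem_D b v⟩ := by
      refine Subtype.ext ?_
      show k * C.pt b * k⁻¹ * (C.pt b)⁻¹ = C.pt b
      rw [hk, hmb, ← C.pt_neg, ← C.pt_add, add_self_eq_neg, neg_neg]
    rwa [e] at h'
  set bD : (C.D v) := ⟨C.pt b, C.pt_mem_D b v⟩
  set Y : Subgroup M := Subgroup.zpowers ⟨bD, hbM⟩ with hY
  have hYc : Nat.card Y = 3 := by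
    rw [hY, Nat.card_zpowers, orderOf_eq_prime_iff]
    refine ⟨Subtype.ext (Subtype.ext (C.pt_cube b)), fun e => C.pt_ne_one hb ?_⟩
    exact congrArg (fun z : M => ((z : (C.D v)) : G)) e
  have hYmem : ∀ z : M, ((z : (C.D v)) : G) ∈ Bs → z ∈ Y := by
    intro z hz
    obtain ⟨i, hi⟩ := Subgroup.mem_zpowers_iff.1 hz
    refine Subgroup.mem_zpowers_iff.2 ⟨i, Subtype.ext (Subtype.ext ?_)⟩
    simpa [bD] using hi
  have hcent : Subgroup.centralizer (Y : Set M) = Y := by
    refine le_antisymm (fun g hg => hYmem g ?_) (Subgroup.le_centralizer Y)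
    have hgb : Commute ((g : (C.D v)) : G) (C.pt b) :=
      (congrArg (fun z : M => ((z : (C.D v)) : G))
        (Subgroup.mem_centralizer_iff.1 hg _ (Subgroup.mem_zpowers _))).symm
    have hgv : Commute ((g : (C.D v)) : G) (C.pt v) := C.mem_D.1 (g : (C.D v)).2
    obtain ⟨m', hm', hgm⟩ := C.exists_stab (C.planesLocal v b hv hb hbv hbv' _ hgv hgb) hgv
    have hone : monOne ∈ stab X v := mem_stab.2 ⟨C.allowed_one, act_one v⟩
    rcases exists_eq_one hone hc2 hm hmne hm' with rfl | rfl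
    · exact hfoc g g.2 (by rw [hP]; exact C.eq_pt_of_acts_one hgm)
    · exact absurd (eq_zero_of_eq_neg b ((C.acts_fix hgm hgb).symm.trans hmb)) hb
  let ψ : C.J →* MulAut M :=
    MulAut.conjNormal.comp (Subgroup.inclusion (C.J_le_D v))
  rcases card_dvd_six_or_exists_invariant C.isPGroup_J ψ hYc hcent with hd | hR
  · -- every element of order three of `M` lies in `Y`
    have hthree : ∀ z : M, z ^ 3 = 1 → z ∈ Y := by
      intro z hz
      have h6 := Y.card_mul_index
      rw [hYc] at h6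
      rw [← h6] at hd
      have hidx : Y.index ∣ 2 := Nat.dvd_of_mul_dvd_mul_left (by norm_num) (hd.trans (by norm_num))
      rcases (Nat.dvd_prime Nat.prime_two).1 hidx with e | e
      · rw [Subgroup.index_eq_one.1 e]; trivial
      · exact CfsgLib.TISylow.index_two_cube_mem e hz
    intro g hg
    have hgD : g ∈ (C.D v) := C.mem_D.2 hg
    have hzM := (inferInstance : M.Normal).conj_mem bD hbM ⟨g, hgD⟩
    have hzY := hthree ⟨_, hzM⟩ (Subtype.ext (Subtype.ext (by
      show (g * C.pt b * g⁻¹) ^ 3 = 1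
      rw [conj_pow, C.pt_cube, mul_one, mul_inv_cancel])))
    obtain ⟨u, hu, hgu⟩ : ∃ u, inLine b u = true ∧ g * C.pt b * g⁻¹ = C.pt u := by
      refine (C.mem_zpowers_pt hb).1 ?_
      obtain ⟨i, hi⟩ := Subgroup.mem_zpowers_iff.1 hzY
      refine Subgroup.mem_zpowers_iff.2 ⟨i, ?_⟩
      simpa [bD] using congrArg (fun z : M => ((z : (C.D v)) : G)) hi
    rcases inLine_iff.1 hu with rfl | rfl | rfl
    · rw [C.pt_zero] at hgu
      exact absurd (conj_eq_one_iff.1 hgu) (C.pt_ne_one hb)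
    · exact C.planesLocal v u hv hb hbv hbv' g hg (mul_inv_eq_iff_eq_mul.1 hgu)
    · have hkg : Norms C.pt (k * g) := by
        refine C.planesLocal v b hv hb hbv hbv' _ ((C.mem_D.1 hkD).mul_left hg) ?_
        refine mul_inv_eq_iff_eq_mul.1 ?_
        calc k * g * C.pt b * (k * g)⁻¹ = k * (g * C.pt b * g⁻¹) * k⁻¹ := by group
          _ = C.pt b := by rw [hgu, hk, act_neg, hmb, neg_neg]
      rw [← C.mem_normalizer] at hkg ⊢
      have := C.N.mul_mem (C.N.inv_mem (C.mem_normalizer.2 hk.norms)) hkg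
      simpa using this
  · exfalso
    obtain ⟨p, R, hp, hp3, hRp, hRne, hRinv⟩ := hR
    have hb' : (R.map M.subtype).map (C.D v).subtype = ⊥ := by
      refine C.sig _ ?_ fun u => ?_
      · have : Fact p.Prime := ⟨hp⟩
        obtain ⟨n, hn⟩ := ((hRp.map M.subtype).map (C.D v).subtype).exists_card_eq
        rw [hn]
        exact ((Nat.coprime_primes hp Nat.prime_three).2 hp3).pow_left n
      · have hh := congrArg (fun S : Subgroup M => (S.map M.subtype).map (C.D v).subtype)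
          (hRinv ⟨C.pt u, u, rfl⟩)
        simp only [Subgroup.map_map] at hh ⊢
        convert hh using 2
        ext z
        simp [ψ]
    rw [Subgroup.map_eq_bot_iff_of_injective _ (C.D v).subtype_injective,
      Subgroup.map_eq_bot_iff_of_injective _ M.subtype_injective] at hb'
    exact hRne hb'

end CfsgLib.Recog.SymNine
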