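import Cfsg.Agent.Lib.Recog.SymNine.CentLocal
import Cfsg.Agent.Lib.TISylow.Structure
import Cfsg.Agent.Lib.TISylow.Dihedral

/-!
# Centralisers with a trivial-intersection Sylow subgroup modulo the point
-/

set_option autoImplicit false

namespace CfsgLib.Recog.SymNine

universe u

variable {G : Type u} [Group G] {X : Mon → Bool} (C : Cube G X)

/-- the point as a subgroup of its centraliser -/
def Cube.Z (v : V) : Subgroup (C.D v) := (Subgroup.zpowers (C.pt v)).subgroupOf (C.D v)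

theorem Cube.Z_le_center (v : V) : C.Z v ≤ Subgroup.center (C.D v) := fun z hz => by
  obtain ⟨i, hi⟩ := Subgroup.mem_zpowers_iff.1 (Subgroup.mem_subgroupOf.1 hz)
  refine Subgroup.mem_center_iff.2 fun d => Subtype.ext ?_
  show (d : G) * z = z * d
  rw [← hi]
  exact ((C.mem_D.1 d.2).zpow_right i).eq

instance Cube.Z_normal (v : V) : (C.Z v).Normal :=
  ⟨fun z hz m => by
    rw [Subgroup.mem_center_iff.1 (C.Z_le_center v hz) m, mul_inv_cancel_right]; exact hz⟩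

/-- the quotient map -/
def Cube.q (v : V) : C.D v →* C.D v ⧸ C.Z v := QuotientGroup.mk' (C.Z v)

/-- the point in the quotient -/
def Cube.qpt (v u : V) : C.D v ⧸ C.Z v := C.q v ⟨C.pt u, C.pt_mem_D u v⟩

theorem Cube.q_eq_one {v : V} {d : C.D v} : C.q v d = 1 ↔ (d : G) ∈ Subgroup.zpowers (C.pt v) :=
  (QuotientGroup.eq_one_iff d).trans Subgroup.mem_subgroupOf

theorem Cube.q_surjective (v : V) : Function.Surjective (C.q v) :=
  QuotientGroup.mk'_surjective _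

theorem Cube.qpt_add (v a b : V) : C.qpt v (a + b) = C.qpt v a * C.qpt v b := by
  rw [Cube.qpt, Cube.qpt, Cube.qpt, ← map_mul]
  exact congrArg _ (Subtype.ext (C.pt_add a b))

theorem Cube.qpt_inLine {v u : V} (hv : v ≠ 0) (h : inLine v u = true) : C.qpt v u = 1 :=
  C.q_eq_one.2 ((C.mem_zpowers_pt hv).2 ⟨u, h, rfl⟩)

theorem Cube.q_mem_iff {v : V} (hv : v ≠ 0) {d : C.D v}
    {P : Sylow 3 (C.D v ⧸ C.Z v)}
    (hP : (P : Subgroup (C.D v ⧸ C.Z v)) = (C.J.subgroupOf (C.D v)).map (C.q v)) :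
    C.q v d ∈ (P : Subgroup (C.D v ⧸ C.Z v)) ↔ (d : G) ∈ C.J := by
  rw [hP]
  constructor
  · rintro ⟨j, hj, hjd⟩
    have : C.q v (j⁻¹ * d) = 1 := by rw [map_mul, map_inv, hjd, inv_mul_cancel]
    obtain ⟨u, -, hu⟩ := (C.mem_zpowers_pt hv).1 (C.q_eq_one.1 this)
    have h2 := C.J.mul_mem (Subgroup.mem_subgroupOf.1 hj) (show C.pt u ∈ C.J from ⟨u, rfl⟩)
    rw [← hu] at h2
    simpa using h2
  · exact fun h => ⟨d, Subgroup.mem_subgroupOf.2 h, rfl⟩

theorem Cube.q_conj {v : V} {d : C.D v} {m : Mon} (hd : Acts C.pt (d : G) m) (u : V) :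
    C.q v d * C.qpt v u * (C.q v d)⁻¹ = C.qpt v (act m u) := by
  rw [Cube.qpt, Cube.qpt, ← map_inv, ← map_mul, ← map_mul]
  exact congrArg _ (Subtype.ext (hd u))

/-- The quotient of a centraliser by the point satisfies the trivial-intersection hypotheses. -/
theorem Cube.exists_setup [Finite G] {v : V} (hv : v ≠ 0) (hno : NoThree X v) :
    ∃ P : Sylow 3 (C.D v ⧸ C.Z v),
      ((P : Subgroup (C.D v ⧸ C.Z v)) = (C.J.subgroupOf (C.D v)).map (C.q v)) ∧
      CfsgLib.TISylow.Setup P := by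
  classical
  have : Fact (Nat.Prime 3) := ⟨Nat.prime_three⟩
  obtain ⟨P₀, hP₀⟩ := C.exists_sylow hno
  obtain ⟨P, hP⟩ : ∃ P : Sylow 3 (C.D v ⧸ C.Z v),
      (P : Subgroup (C.D v ⧸ C.Z v)) = (C.J.subgroupOf (C.D v)).map (C.q v) :=
    ⟨P₀.mapSurjective (C.q_surjective v), by rw [Sylow.coe_mapSurjective, hP₀]⟩
  have hPmem : ∀ t, t ∈ (P : Subgroup (C.D v ⧸ C.Z v)) ↔ ∃ u, C.qpt v u = t := fun t => by
    rw [hP]
    constructor
    · rintro ⟨d, hd, rfl⟩
      obtain ⟨u, hu⟩ := Subgroup.mem_subgroupOf.1 hd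
      exact ⟨u, congrArg _ (Subtype.ext hu)⟩
    · rintro ⟨u, rfl⟩
      exact ⟨_, Subgroup.mem_subgroupOf.2 ⟨u, rfl⟩, rfl⟩
  refine ⟨P, hP, ⟨?_, ?_, ?_, ?_⟩⟩
  · -- order nine
    let f : C.J →* C.D v ⧸ C.Z v := (C.q v).comp (Subgroup.inclusion (C.J_le_D v))
    have hr : f.range = (P : Subgroup (C.D v ⧸ C.Z v)) := by
      ext t
      rw [hPmem]
      constructor
      · rintro ⟨⟨_, u, rfl⟩, rfl⟩; exact ⟨u, rfl⟩
      · rintro ⟨u, rfl⟩; exact ⟨⟨C.pt u, u, rfl⟩, rfl⟩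
    have hk : Nat.card f.ker = 3 := by
      have e : f.ker ≃ Subgroup.zpowers (C.pt v) :=
        ⟨fun j => ⟨((j : C.J) : G), C.q_eq_one.1 (MonoidHom.mem_ker.1 j.2)⟩,
          fun z => ⟨⟨z, Subgroup.zpowers_le.2 (show C.pt v ∈ C.J from ⟨v, rfl⟩) z.2⟩,
            MonoidHom.mem_ker.2 (C.q_eq_one.2 z.2)⟩,
          fun j => rfl, fun z => rfl⟩
      rw [Nat.card_congr e, Nat.card_zpowers, orderOf_eq_prime (C.pt_cube v) (C.pt_ne_one hv)]
    have h := f.ker.card_mul_index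
    rw [Subgroup.index_ker, hr, hk, C.card_J] at h
    omega
  · intro t ht
    obtain ⟨u, rfl⟩ := (hPmem t).1 ht
    rw [Cube.qpt, ← map_pow, ← map_one (C.q v)]
    exact congrArg _ (Subtype.ext (C.pt_cube u))
  · -- self-centralising
    intro x hx
    obtain ⟨d, rfl⟩ := C.q_surjective v x
    rw [C.q_mem_iff hv hP]
    have hd : ∀ u, ∃ w, inLine v w = true ∧ (d : G) * C.pt u * (d : G)⁻¹ = C.pt (w + u) := by
      intro u
      have h := Subgroup.mem_centralizer_iff.1 hx _ ((hPmem _).2 ⟨u, rfl⟩)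
      have h1 : C.q v (d * ⟨C.pt u, C.pt_mem_D u v⟩ * d⁻¹ * (⟨C.pt u, C.pt_mem_D u v⟩ : C.D v)⁻¹) = 1 := by
        simp only [map_mul, map_inv]
        rw [show C.q v ⟨C.pt u, C.pt_mem_D u v⟩ = C.qpt v u from rfl, ← h, mul_inv_cancel_right,
          mul_inv_cancel]
      obtain ⟨w, hw, hw'⟩ := (C.mem_zpowers_pt hv).1 (C.q_eq_one.1 h1)
      refine ⟨w, hw, ?_⟩
      rw [C.pt_add, ← hw']
      simp
    obtain ⟨m, hm, hdm⟩ := C.exists_stab (g := (d : G)) (fun u => by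
      obtain ⟨w, -, hw⟩ := hd u; exact ⟨_, hw⟩) (C.mem_D.1 d.2)
    have hline : ∀ u, inLine v (act m u - u) = true := fun u => by
      obtain ⟨w, hw, hw'⟩ := hd u
      rw [C.pt_inj ((hdm u).symm.trans hw'), add_sub_cancel_right]
      exact hw
    rw [quot_faithful m v hv (mem_stab.1 hm).2 (hline _) (hline _) (hline _)] at hdm
    exact C.eq_pt_of_acts_one hdm
  · -- local
    intro t ht ht1 x hx
    obtain ⟨u, rfl⟩ := (hPmem t).1 ht
    obtain ⟨d, rfl⟩ := C.q_surjective v x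
    have hu0 : inLine v u ≠ true := fun h => ht1 (C.qpt_inLine hv h)
    rw [Ne, inLine_iff, not_or, not_or] at hu0
    -- the conjugate of the point lies in the plane
    have h1 : C.q v (d * ⟨C.pt u, C.pt_mem_D u v⟩ * d⁻¹ * (⟨C.pt u, C.pt_mem_D u v⟩ : C.D v)⁻¹) = 1 := by
      have h := (Subgroup.mem_centralizer_singleton_iff.1 hx)
      simp only [Cube.qpt] at h
      simp only [map_mul, map_inv, h, mul_inv_cancel_right, mul_inv_cancel]
    obtain ⟨w, hw, hw'⟩ := (C.mem_zpowers_pt hv).1 (C.q_eq_one.1 h1)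
    have hdu : (d : G) * C.pt u * (d : G)⁻¹ = C.pt w * C.pt u := by rw [← hw']; simp
    set Jd := C.J.map (MulAut.conj (d : G)).toMonoidHom with hJd
    have hJdN : Jd ≤ C.N := by
      rintro _ ⟨_, ⟨a, rfl⟩, rfl⟩
      show (d : G) * C.pt a * (d : G)⁻¹ ∈ C.N
      have cv : Commute ((d : G) * C.pt a * (d : G)⁻¹) (C.pt v) := by
        have := (Commute.conj_iff (d : G)).2 (C.commute_pt a v)
        rwa [(C.mem_D.1 d.2).eq, mul_inv_cancel_right] at this
      have cw : Commute ((d : G) * C.pt a * (d : G)⁻¹) (C.pt w) := by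
        rcases inLine_iff.1 hw with rfl | rfl | rfl
        · rw [C.pt_zero]; exact Commute.one_right _
        · exact cv
        · rw [C.pt_neg]; exact cv.inv_right
      have cu : Commute ((d : G) * C.pt a * (d : G)⁻¹) (C.pt u) := by
        have h2 := (Commute.conj_iff (d : G)).2 (C.commute_pt a u)
        rw [hdu] at h2
        simpa using cw.inv_right.mul_right h2
      exact C.mem_normalizer.2 (C.planesLocal v u hv hu0.1 hu0.2.1 hu0.2.2 _ cv cu)
    have hQ : IsPGroup 3 (C.J ⊔ Jd : Subgroup G) :=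
      C.isPGroup_J.to_sup_of_normal_left' (C.isPGroup_J.map _) hJdN
    have hdN : Norms C.pt (d : G) := C.unique _ hQ (fun a => Subgroup.mem_sup_left ⟨a, rfl⟩) _
      (fun a => Subgroup.mem_sup_right ⟨_, ⟨a, rfl⟩, rfl⟩)
    have hdJ : d ∈ Subgroup.normalizer ((C.J.subgroupOf (C.D v) : Subgroup (C.D v)) : Set (C.D v)) := by
      rw [← Subgroup.subgroupOf_normalizer_eq (C.J_le_D v)]
      exact Subgroup.mem_subgroupOf.2 (C.mem_normalizer.2 hdN)
    rw [hP]
    exact Subgroup.le_normalizer_map (C.q v) ⟨d, hdJ, rfl⟩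

variable {v : V} {P : Sylow 3 (C.D v ⧸ C.Z v)}

theorem Cube.exists_acts_of_normalizer [Finite G] (hv : v ≠ 0)
    (hP : (P : Subgroup (C.D v ⧸ C.Z v)) = (C.J.subgroupOf (C.D v)).map (C.q v))
    {n : C.D v ⧸ C.Z v} (hn : n ∈ Subgroup.normalizer ((P : Subgroup (C.D v ⧸ C.Z v)) : Set (C.D v ⧸ C.Z v))) :
    ∃ d : C.D v, ∃ m ∈ stab X v, C.q v d = n ∧ Acts C.pt (d : G) m := by
  obtain ⟨d, rfl⟩ := C.q_surjective v n
  have hd : Norms C.pt (d : G) := fun u => by
    have h := (Subgroup.mem_normalizer_iff.1 hn _).1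
      ((C.q_mem_iff hv hP (d := ⟨C.pt u, C.pt_mem_D u v⟩)).2 ⟨u, rfl⟩)
    rw [← map_inv, ← map_mul, ← map_mul, C.q_mem_iff hv hP] at h
    obtain ⟨w, hw⟩ := h
    exact ⟨w, hw.symm⟩
  obtain ⟨m, hm, hdm⟩ := C.exists_stab hd (C.mem_D.1 d.2)
  exact ⟨d, m, hm, rfl, hdm⟩

theorem Cube.card_normalizer [Finite G] (hv : v ≠ 0)
    (hP : (P : Subgroup (C.D v ⧸ C.Z v)) = (C.J.subgroupOf (C.D v)).map (C.q v))
    (hP9 : Nat.card (P : Subgroup (C.D v ⧸ C.Z v)) = 9) :
    Nat.card (Subgroup.normalizer ((P : Subgroup (C.D v ⧸ C.Z v)) : Set (C.D v ⧸ C.Z v))) =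
      9 * (stab X v).card := by
  classical
  set K := C.D v ⧸ C.Z v
  set T := (P : Subgroup K)
  have hl : ∀ m : stab X v, ∃ d : C.D v, Acts C.pt (d : G) m := fun m => by
    obtain ⟨hX, hmv⟩ := mem_stab.1 m.2
    obtain ⟨k, hk⟩ := C.exists_lift m hX
    exact ⟨⟨k, C.mem_D.2 (C.commute_of_fix hk hmv)⟩, hk⟩
  choose l hl' using hl
  have hlN : ∀ m, C.q v (l m) ∈ Subgroup.normalizer (T : Set K) := fun m => by
    rw [hP]
    refine Subgroup.le_normalizer_map (C.q v) ⟨l m, ?_, rfl⟩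
    rw [← Subgroup.subgroupOf_normalizer_eq (C.J_le_D v)]
    exact Subgroup.mem_subgroupOf.2 (C.mem_normalizer.2 (hl' m).norms)
  let φ : T × stab X v → Subgroup.normalizer (T : Set K) :=
    fun x => ⟨C.q v (l x.2) * x.1, mul_mem (hlN _) (Subgroup.le_normalizer x.1.2)⟩
  have hb : Function.Bijective φ := by
    constructor
    · rintro ⟨t, m⟩ ⟨t', m'⟩ h
      have h' : C.q v (l m) * t = C.q v (l m') * t' := congrArg Subtype.val h
      have hmm : C.q v ((l m')⁻¹ * l m) ∈ T := by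
        have e : C.q v (l m) = C.q v (l m') * t' * (t : K)⁻¹ := by rw [← h']; group
        rw [map_mul, map_inv, e, mul_assoc, inv_mul_cancel_left]
        exact T.mul_mem t'.2 (T.inv_mem t.2)
      obtain ⟨u, hu⟩ := (C.q_mem_iff hv hP).1 hmm
      have : m = m' := by
        refine Subtype.ext ?_
        have h2 := (hl' m').mul (C.acts_pt u)
        have e : ∀ n : Mon, comp n monOne = n := by decide +kernel
        rw [e, hu] at h2
        simp only [Subgroup.coe_mul, Subgroup.coe_inv, mul_inv_cancel_left] at h2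
        exact C.acts_unique (hl' m) h2
      subst this
      simp only [mul_left_cancel_iff, SetLike.coe_eq_coe] at h'
      rw [h']
    · rintro ⟨n, hn⟩
      obtain ⟨d, m, hm, rfl, hdm⟩ := C.exists_acts_of_normalizer hv hP hn
      have hj := C.inv_mul_mem_J hdm (hl' ⟨m, hm⟩)
      exact ⟨(⟨C.q v ((l ⟨m, hm⟩)⁻¹ * d), (C.q_mem_iff hv hP).2 hj⟩, ⟨m, hm⟩),
        Subtype.ext (by simp [φ])⟩
  rw [← Nat.card_congr (Equiv.ofBijective φ hb), Nat.card_prod, hP9,
    Nat.card_eq_fintype_card, Fintype.card_coe]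

theorem Cube.localAt_of_top [Finite G] (hv : v ≠ 0)
    (hP : (P : Subgroup (C.D v ⧸ C.Z v)) = (C.J.subgroupOf (C.D v)).map (C.q v))
    (hN : Subgroup.normalizer ((P : Subgroup (C.D v ⧸ C.Z v)) : Set (C.D v ⧸ C.Z v)) = ⊤) :
    C.LocalAt v := by
  intro g hg
  obtain ⟨d, m, -, hd, hdm⟩ := C.exists_acts_of_normalizer hv hP
    (n := C.q v ⟨g, C.mem_D.2 hg⟩) (by rw [hN]; trivial)
  have hj : C.q v (d⁻¹ * ⟨g, C.mem_D.2 hg⟩) = 1 := by
    rw [map_mul, map_inv, hd, inv_mul_cancel]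
  obtain ⟨u, -, hu⟩ := (C.mem_zpowers_pt hv).1 (C.q_eq_one.1 hj)
  have := hdm.norms.mul (C.acts_pt u).norms
  rw [← hu] at this
  simpa using this

theorem Cube.localAt_of_scal_or_klein [Finite G] (hv : v ≠ 0) (hno : NoThree X v)
    (h : TypeScal X v ∨ TypeKlein X v) : C.LocalAt v := by
  classical
  obtain ⟨P, hP, S⟩ := C.exists_setup hv hno
  have hc := C.card_normalizer hv hP S.card_eq
  rcases h with ⟨h2, hinv⟩ | ⟨h4, hsq⟩
  · refine C.localAt_of_top hv hP (S.eq_top_two (by rw [hc, h2]) fun n hn => ?_)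
    obtain ⟨d, m, hm, rfl, hdm⟩ := C.exists_acts_of_normalizer hv hP hn
    by_cases hm1 : m = monOne
    · subst hm1
      exact Or.inl ((C.q_mem_iff hv hP).2 (C.eq_pt_of_acts_one hdm))
    obtain ⟨i0, i1, i2⟩ := hinv m hm hm1
    refine Or.inr fun t ht => ?_
    rw [hP] at ht
    obtain ⟨j, hj, rfl⟩ := ht
    obtain ⟨u, hu⟩ := Subgroup.mem_subgroupOf.1 hj
    have e : C.q v j = C.qpt v u := congrArg _ (Subtype.ext hu.symm)
    rw [e, C.q_conj hdm]
    refine eq_inv_of_mul_eq_one_left ?_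
    rw [← C.qpt_add, C.qpt_inLine hv (inLine_sum i0 i1 i2 u)]
  · refine C.localAt_of_top hv hP (S.eq_top_klein (by rw [hc, h4]) fun n hn => ?_)
    obtain ⟨d, m, hm, rfl, hdm⟩ := C.exists_acts_of_normalizer hv hP hn
    rw [← map_mul, C.q_mem_iff hv hP]
    have := hdm.mul hdm
    rw [hsq m hm] at this
    exact C.eq_pt_of_acts_one this

theorem Cube.localAt_or_six [Finite G] (C : Cube G allX) {v : V} (hv : v ≠ 0)
    (hno : NoThree allX v) (hw : weight v = 1) (h8 : (stab allX v).card = 8) :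
    C.LocalAt v ∨ ∃ π : Subgroup.centralizer ({C.pt v} : Set G) →* Equiv.Perm (Fin 6),
      Function.Surjective π ∧ ∀ g, π g = 1 ↔ (g : G) ∈ Subgroup.zpowers (C.pt v) := by
  classical
  obtain ⟨P, hP, S⟩ := C.exists_setup hv hno
  have hc := C.card_normalizer hv hP S.card_eq
  obtain ⟨f₀, hf₀, s₀, hs₀, hff, hf4, hs1, hss, hsf, hgen⟩ := dihedral_gens v hv hw
  obtain ⟨kf, hkf⟩ := C.exists_lift f₀ (mem_stab.1 hf₀).1
  obtain ⟨ks, hks2, hks⟩ := C.exists_invol (mem_stab.1 hs₀).1 hss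
  set df : C.D v := ⟨kf, C.mem_D.2 (C.commute_of_fix hkf (mem_stab.1 hf₀).2)⟩ with hdf
  set ds : C.D v := ⟨ks, C.mem_D.2 (C.commute_of_fix hks (mem_stab.1 hs₀).2)⟩ with hds
  have hsinv : ks⁻¹ = ks := inv_eq_of_mul_eq_one_right hks2
  have hJ1 : ∀ {g : G} {m : Mon}, Acts C.pt g m → g ∈ C.J → m = monOne := fun {g m} hg hj => by
    obtain ⟨u, rfl⟩ := hj
    exact C.acts_unique hg (C.acts_pt u)
  have hnorm : ∀ (d : C.D v) (m : Mon), Acts C.pt (d : G) m →
      C.q v d ∈ Subgroup.normalizer ((P : Subgroup (C.D v ⧸ C.Z v)) : Set (C.D v ⧸ C.Z v)) := by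
    intro d m hd
    rw [hP]
    refine Subgroup.le_normalizer_map (C.q v) ⟨d, ?_, rfl⟩
    rw [← Subgroup.subgroupOf_normalizer_eq (C.J_le_D v)]
    exact Subgroup.mem_subgroupOf.2 (C.mem_normalizer.2 hd.norms)
  have dih : CfsgLib.TISylow.Dih P (C.q v df) (C.q v ds) := by
    refine ⟨hnorm df _ hkf, hnorm ds _ hks, fun h => ?_, ?_, fun h => ?_, ?_, ?_, fun n hn => ?_, ?_⟩
    · rw [← map_mul, C.q_mem_iff hv hP] at h
      exact hff (hJ1 (hkf.mul hkf) h)
    · rw [← map_mul, ← map_mul, C.q_mem_iff hv hP]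
      have := (hkf.mul hkf).mul (hkf.mul hkf)
      rw [hf4] at this
      exact C.eq_pt_of_acts_one this
    · rw [C.q_mem_iff hv hP] at h
      exact hs1 (hJ1 hks h)
    · rw [← map_mul, C.q_mem_iff hv hP]
      have := hks.mul hks
      rw [hss] at this
      exact C.eq_pt_of_acts_one this
    · rw [← map_inv, ← map_mul, ← map_mul, ← map_mul, C.q_mem_iff hv hP]
      show ks * kf * ks⁻¹ * kf ∈ C.J
      rw [hsinv]
      have := ((hks.mul hkf).mul hks).mul hkf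
      rw [hsf] at this
      exact C.eq_pt_of_acts_one this
    · obtain ⟨d, m, hm, rfl, hdm⟩ := C.exists_acts_of_normalizer hv hP hn
      have step : ∀ (h : C.D v), Acts C.pt (h : G) m →
          ∃ t ∈ (P : Subgroup (C.D v ⧸ C.Z v)), C.q v d = C.q v h * t := fun h hh =>
        ⟨C.q v (h⁻¹ * d), (C.q_mem_iff hv hP).2 (C.inv_mul_mem_J hdm hh),
          by rw [← map_mul, mul_inv_cancel_left]⟩
      rcases hgen m hm with rfl | rfl | rfl | rfl | rfl | rfl | rfl | rfl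
      · obtain ⟨t, ht, e⟩ := step 1 Acts.one
        exact ⟨0, t, ht, Or.inl (by simpa using e)⟩
      · obtain ⟨t, ht, e⟩ := step df hkf
        exact ⟨1, t, ht, Or.inl (by rwa [pow_one])⟩
      · obtain ⟨t, ht, e⟩ := step (df * df) (hkf.mul hkf)
        exact ⟨2, t, ht, Or.inl (by rwa [pow_two, ← map_mul])⟩
      · obtain ⟨t, ht, e⟩ := step (df * (df * df)) (hkf.mul (hkf.mul hkf))
        exact ⟨3, t, ht, Or.inl (by rwa [pow_succ', pow_two, ← map_mul, ← map_mul])⟩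
      · obtain ⟨t, ht, e⟩ := step ds hks
        exact ⟨0, t, ht, Or.inr (by rwa [pow_zero, one_mul])⟩
      · obtain ⟨t, ht, e⟩ := step (df * ds) (hkf.mul hks)
        exact ⟨1, t, ht, Or.inr (by rwa [pow_one, ← map_mul])⟩
      · obtain ⟨t, ht, e⟩ := step (df * df * ds) ((hkf.mul hkf).mul hks)
        exact ⟨2, t, ht, Or.inr (by rwa [pow_two, ← map_mul, ← map_mul])⟩
      · obtain ⟨t, ht, e⟩ := step (df * (df * df) * ds) ((hkf.mul (hkf.mul hkf)).mul hks)
        exact ⟨3, t, ht, Or.inr (by rwa [pow_succ', pow_two, ← map_mul, ← map_mul, ← map_mul])⟩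
    · rw [hc, h8]
  by_cases hN : Subgroup.normalizer ((P : Subgroup (C.D v ⧸ C.Z v)) : Set (C.D v ⧸ C.Z v)) = ⊤
  · exact Or.inl (C.localAt_of_top hv hP hN)
  obtain ⟨H, hH, hsimple, h360, r, a, hr, haH, ha3, ha1, hra⟩ := S.dihedral dih hN
  have := Subgroup.normal_of_index_eq_two hH
  obtain ⟨e⟩ := CfsgLib.TISylow.nonempty_equiv_perm_six H hH h360
    (S.centralizer_eq_bot H (fun x hx => CfsgLib.TISylow.index_two_cube_mem hH (S.cube x hx)) h360)
    hr haH ha3 ha1 hra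
  refine Or.inr ⟨e.toMonoidHom.comp (C.q v), e.surjective.comp (C.q_surjective v), fun g => ?_⟩
  show e (C.q v g) = 1 ↔ _
  rw [EmbeddingLike.map_eq_one_iff]
  exact C.q_eq_one

end CfsgLib.Recog.SymNine
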