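import Cfsg.Agent.Lib.Recog.SymNine.Certs

/-!
# Checking the certificates
-/

set_option autoImplicit false

namespace CfsgLib.Recog.SymNine

theorem certs_length : ∀ i : Fin 9,
    (certs.getD i []).length = (leaves (reps.getD i 0)).length := by decide +kernel

theorem certs_check : ∀ i : Fin 9,
    ((leaves (reps.getD i 0)).zip (certs.getD i [])).all (fun p => p.2.check p.1) = true := by
  decide +kernel

end CfsgLib.Recog.SymNine
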