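import Cfsg.Agent.Lib.Recog.SymNine.Frame

/-!
Certificates for the sorted column triples of an invertible map.
-/

set_option autoImplicit false

namespace CfsgLib.Recog.SymNine

/-- certificates, part 0 -/
def certs0 : List Cert :=
  [.ker (1, 0, 0), .ker (1, 0, 0), .ker (1, 0, 0), .ker (1, 0, 0),
   .ker (1, 0, 0), .ker (1, 0, 0), .ker (1, 0, 0), .ker (1, 0, 0),
   .ker (1, 0, 0), .ker (1, 0, 0), .ker (1, 0, 0), .ker (1, 0, 0),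
   .ker (0, 1, 1), .ker (0, 1, 1), .ker (0, 1, 1), .ker (0, 1, 1),
   .ker (0, 1, 1), .ker (0, 1, 1), .ker (0, 1, 1), .ker (0, 1, 1),
   .ker (0, 1, 1), .ker (0, 1, 1), .ker (0, 1, 1), .ker (0, 1, 1),
   .ker (1, 2, 2), .ker (1, 2, 2), .ker (1, 2, 2), .ker (1, 2, 2),
   .ker (1, 2, 2), .ker (1, 2, 2), .ker (1, 2, 2), .ker (1, 2, 2),
   .ker (1, 2, 2), .ker (1, 2, 2), .ker (1, 2, 2), .ker (1, 2, 2),
   .word [6, 6, 1, 6, 1, 6], .word [6, 2, 6, 1, 6], .word [6, 3, 6, 6, 6], .word [6, 2, 6, 6],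
   .word [6, 4, 6], .word [6, 1, 6, 6, 6], .word [6, 3, 6, 6], .word [6, 4, 6, 2, 6, 1, 6],
   .word [6, 4, 6, 6, 6, 6], .word [6, 1, 6, 2, 6], .word [6, 2, 6, 1, 6, 1, 6], .word [6, 6, 6],
   .word [6, 6, 6, 1, 6], .word [6, 1, 6], .word [6, 6, 1, 6, 6, 6], .word [6, 4, 6, 1, 6],
   .word [6, 5, 6, 6, 6], .word [6, 4, 6, 6], .word [6, 3, 6, 6, 6], .word [6, 6, 6],
   .word [6, 2, 6, 1, 6, 6], .word [6, 5, 6, 6, 6, 6, 6], .word [6, 1, 6], .word [6, 6, 6, 2, 6],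
   .word [6, 3, 6, 1, 6], .word [6, 5, 6, 6], .word [6, 6, 4, 6, 6], .word [6, 6, 4, 6, 6],
   .word [6, 6, 3, 6], .word [6, 6, 1, 6], .word [6, 2, 6, 6, 6], .mon 2 (4, false, false, true),
   .word [6, 5, 6, 6], .word [6, 3, 6, 6], .word [6, 6, 2, 6, 2, 6], .word [6, 3, 6, 6, 6],
   .word [6, 1, 6, 6], .word [6, 6, 2, 6], .word [6, 2, 6, 1, 6], .word [6, 6, 3, 6, 6, 6],
   .word [6, 1, 6], .word [6, 6, 6, 1, 6], .word [6, 3, 6, 6, 6, 6, 6], .word [6, 3, 6, 6, 6],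
   .word [6, 3, 6, 6], .word [6, 2, 6, 6, 6, 6], .word [6, 6, 3, 6, 6], .word [6, 2, 6, 6],
   .word [6, 1, 6, 6, 6], .word [6, 1, 6], .word [6, 3, 6, 2, 6], .word [6, 3, 6, 6, 6],
   .word [6, 3, 6, 6], .word [6, 3, 6, 6, 6, 6, 6], .word [6, 5, 6, 6], .word [6, 1, 6],
   .word [6, 5, 6, 6, 6], .word [6, 2, 6, 6, 1, 6], .word [6, 1, 6], .word [6, 6, 6, 2, 6, 6, 6],
   .word [6, 2, 6, 1, 6, 6, 6], .word [6, 4, 6], .word [6, 2, 6, 2, 6, 6], .word [6, 6, 6],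
   .word [6, 6, 1, 6, 2, 6], .word [6, 3, 6, 6, 6], .word [6, 3, 6, 6, 6, 6, 6], .word [6, 3, 6, 6, 6],
   .word [6, 6, 6], .word [6, 3, 6, 6, 6], .word [6, 6, 6], .word [6, 3, 6, 6, 6, 6, 6]]

/-- certificates, part 1 -/
def certs1 : List Cert :=
  [.ker (1, 0, 0), .ker (1, 0, 0), .ker (1, 0, 0), .ker (1, 0, 0),
   .ker (1, 0, 0), .ker (1, 0, 0), .ker (1, 0, 0), .ker (1, 0, 0),
   .ker (1, 0, 0), .ker (1, 0, 0), .ker (1, 0, 0), .ker (1, 0, 0),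
   .ker (1, 2, 2), .ker (1, 2, 2), .ker (1, 2, 2), .ker (1, 2, 2),
   .ker (1, 2, 2), .ker (1, 2, 2), .ker (1, 2, 2), .ker (1, 2, 2),
   .ker (1, 2, 2), .ker (1, 2, 2), .ker (1, 2, 2), .ker (1, 2, 2),
   .ker (0, 1, 1), .ker (0, 1, 1), .ker (0, 1, 1), .ker (0, 1, 1),
   .ker (0, 1, 1), .ker (0, 1, 1), .ker (0, 1, 1), .ker (0, 1, 1),
   .ker (0, 1, 1), .ker (0, 1, 1), .ker (0, 1, 1), .ker (0, 1, 1),
   .mon 2 (0, true, true, false), .word [6, 1, 6, 2, 6, 6, 6], .word [6, 6, 1, 6, 2, 6, 6], .word [6, 4, 6, 1, 6],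
   .word [6, 2, 6, 6, 6, 6], .word [6, 6, 6, 1, 6], .word [6, 1, 6, 4, 6], .word [6, 2, 6, 6],
   .word [6, 6, 6, 2, 6, 6], .word [6, 2, 6, 1, 6, 6, 6], .word [6, 6, 2, 6, 1, 6], .word [6, 6],
   .word [6, 4, 6, 1, 6], .word [6, 2, 6, 3, 6, 6], .word [6, 5, 6, 6], .word [6, 1, 6, 6],
   .word [6, 2, 6, 6, 6, 6], .word [6, 6, 6, 3, 6], .word [6, 6, 2, 6, 1, 6, 6], .word [6, 6],
   .word [6, 2, 6, 1, 6, 6], .word [6, 5, 6, 6, 6], .word [6, 1, 6, 6, 1, 6], .word [6, 1, 6, 6, 6, 6, 6],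
   .word [6, 6, 1, 6], .word [6, 6, 2, 6], .word [6, 6, 3, 6], .word [6, 6, 5, 6, 6],
   .word [6, 5, 6, 6, 6, 6], .word [6, 5, 6, 6], .word [6, 1, 6, 1, 6], .word [6, 6, 2, 6],
   .word [6, 1, 6, 2, 6, 6], .word [6, 6], .word [6, 6, 2, 6, 1, 6], .word [6, 1, 6, 6, 2, 6],
   .word [6, 4, 6, 2, 6], .word [6, 4, 6, 6], .word [6, 4, 6, 1, 6], .word [6, 6, 6, 1, 6],
   .word [6, 2, 6, 6], .word [6, 6, 6, 6, 2, 6], .word [6, 6, 1, 6, 1, 6, 6], .word [6, 2, 6, 1, 6],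
   .word [6, 3, 6], .word [6, 3, 6, 6], .word [6, 6, 3, 6, 6], .word [6, 3, 6, 6, 6],
   .word [6, 2, 6, 6, 6], .word [6, 6, 3, 6, 6], .word [6, 5, 6, 6, 6], .word [6, 2, 6, 1, 6, 6],
   .word [6, 6], .word [6, 1, 6, 2, 6], .word [6, 1, 6, 1, 6], .word [6, 1, 6, 6, 1, 6],
   .word [6, 2, 6, 6, 1, 6], .word [6, 6, 2, 6], .word [6, 5, 6, 6, 6], .word [6, 2, 6, 6],
   .word [6, 1, 6, 1, 6], .word [6, 1, 6, 6, 1, 6], .word [6, 5, 6, 6, 6, 6, 6], .word [6, 3, 6],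
   .word [6, 2, 6, 6, 1, 6], .word [6, 6, 6, 1, 6, 2, 6], .word [6, 6, 2, 6, 1, 6, 6], .word [6, 5, 6, 1, 6],
   .word [6, 6], .word [6, 1, 6, 1, 6, 6], .word [6, 6], .word [6, 4, 6, 2, 6]]

/-- certificates, part 2 -/
def certs2 : List Cert :=
  [.ker (1, 0, 0), .ker (1, 0, 0), .ker (1, 0, 0), .ker (1, 0, 0),
   .ker (1, 0, 0), .ker (1, 0, 0), .ker (1, 0, 0), .ker (1, 0, 0),
   .ker (1, 0, 0), .ker (1, 0, 0), .ker (1, 0, 0), .ker (1, 0, 0),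
   .ker (1, 1, 0), .ker (1, 1, 2), .word [6, 3, 6, 2, 6], .word [6, 2, 6, 3, 6],
   .word [6, 4, 6, 2, 6], .word [6, 1, 6], .word [6, 5, 6, 6], .word [6, 4, 6, 2, 6, 6],
   .word [6, 4, 6, 6, 6], .word [6, 6, 6, 2, 6, 6, 6], .word [6, 2, 6, 6, 2, 6], .ker (1, 1, 2),
   .word [6, 2, 6, 2, 6], .word [6, 6, 6, 2, 6, 6], .word [6, 4, 6, 6], .word [6, 5, 6, 6],
   .word [6, 1, 6, 6, 2, 6], .word [6, 1, 6], .word [6, 2, 6, 6, 1, 6], .word [6, 3, 6, 6],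
   .word [6, 5, 6, 6, 6], .ker (1, 0, 1), .ker (1, 1, 2), .word [6, 2, 6, 2, 6],
   .word [6, 5, 6], .word [6, 6, 4, 6, 6], .word [6, 5, 6, 1, 6], .word [6, 1, 6, 6],
   .word [6, 6, 1, 6, 2, 6], .word [6, 6, 2, 6], .word [6, 6, 3, 6, 6], .word [6, 6, 5, 6, 1, 6],
   .ker (0, 1, 1), .ker (0, 1, 1), .ker (0, 1, 1), .ker (0, 1, 1),
   .ker (0, 1, 1), .ker (0, 1, 1), .ker (0, 1, 1), .ker (0, 1, 1),
   .ker (0, 1, 1), .ker (0, 1, 1), .word [6, 4, 6, 1, 6], .word [6, 6, 3, 6, 6],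
   .word [6, 1, 6], .word [6, 3, 6, 6], .word [6, 2, 6, 6, 6, 6, 6], .word [6, 6, 2, 6, 6],
   .word [6, 6, 1, 6, 6], .word [6, 1, 6, 6, 6], .word [6, 1, 6, 6, 6, 6], .word [6, 5, 6, 6, 6],
   .word [6, 1, 6, 6], .word [6, 6, 6, 1, 6], .word [6, 6, 6, 2, 6], .word [6, 6, 6, 2, 6],
   .word [6, 2, 6, 6], .word [6, 6, 4, 6], .word [6, 5, 6], .word [6, 1, 6, 4, 6, 6],
   .word [6, 6, 1, 6], .word [6, 2, 6, 6], .word [6, 4, 6, 6, 6], .word [6, 5, 6, 2, 6],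
   .word [6, 5, 6, 6, 6, 6, 6], .word [6, 3, 6, 6, 6], .word [6, 1, 6], .word [6, 3, 6, 6, 6, 6],
   .word [6, 2, 6, 6, 2, 6], .ker (1, 2, 2), .ker (1, 2, 2), .ker (1, 2, 2),
   .ker (1, 2, 2), .ker (1, 2, 2), .ker (1, 2, 2), .ker (1, 2, 2),
   .ker (1, 2, 2), .ker (1, 2, 2), .word [6, 1, 6, 1, 6, 6], .word [6, 4, 6, 6],
   .word [6, 6, 6], .word [6, 3, 6, 6, 6], .word [6, 6, 2, 6], .word [6, 2, 6, 6, 6],
   .word [6, 5, 6, 6, 6], .word [6, 4, 6, 2, 6], .word [6, 6, 2, 6, 1, 6], .mon 1 (0, false, true, true),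
   .word [6, 6], .word [6, 6], .word [6, 6, 6, 2, 6, 6, 6], .word [6, 6, 2, 6, 2, 6],
   .word [6, 1, 6, 6, 6], .word [6, 6, 6, 1, 6, 6, 6], .word [6, 6, 2, 6, 6, 6], .word [6, 2, 6, 1, 6, 6]]

/-- certificates, part 3 -/
def certs3 : List Cert :=
  [.ker (1, 0, 0), .ker (1, 0, 0), .ker (1, 0, 0), .ker (1, 0, 0),
   .ker (1, 0, 0), .ker (1, 0, 0), .ker (1, 0, 0), .ker (1, 0, 0),
   .ker (1, 0, 0), .ker (1, 0, 0), .ker (1, 0, 0), .ker (1, 0, 0),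
   .ker (1, 1, 0), .ker (1, 1, 2), .word [6, 6, 1, 6, 6], .word [6, 3, 6, 6],
   .word [6, 3, 6, 2, 6], .word [6, 6, 2, 6, 3, 6], .word [6, 5, 6, 6, 6], .word [6, 4, 6, 2, 6],
   .word [6, 5, 6, 6], .word [6, 3, 6], .word [6, 1, 6, 6], .ker (1, 2, 1),
   .word [6, 1, 6, 3, 6], .word [6, 4, 6], .word [6, 6, 3, 6], .word [6, 6, 6],
   .word [6, 2, 6, 3, 6], .word [6, 6, 5, 6], .word [6, 6, 6, 3, 6], .word [6, 2, 6, 1, 6, 6],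
   .word [6, 3, 6], .ker (1, 1, 2), .ker (1, 0, 1), .word [6, 5, 6, 6],
   .word [6, 6, 6, 5, 6], .word [6, 2, 6, 1, 6], .word [6, 5, 6, 1, 6], .word [6, 1, 6, 2, 6, 6],
   .word [6, 4, 6], .word [6, 6, 2, 6], .word [6, 5, 6], .word [6, 2, 6, 6],
   .ker (1, 0, 1), .word [6, 6, 3, 6], .word [6, 3, 6], .word [6, 6, 5, 6],
   .word [6, 4, 6], .word [6, 6, 2, 6, 6], .word [6, 3, 6, 2, 6, 6], .word [6, 2, 6, 6, 2, 6],
   .word [6, 6, 6, 3, 6], .word [6, 6, 6], .ker (0, 1, 1), .ker (0, 1, 1),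
   .ker (0, 1, 1), .ker (0, 1, 1), .ker (0, 1, 1), .ker (0, 1, 1),
   .ker (0, 1, 1), .ker (0, 1, 1), .ker (0, 1, 1), .word [6, 3, 6, 6, 6],
   .word [6, 6, 6], .word [6, 6, 4, 6], .word [6, 5, 6, 6], .word [6, 5, 6, 6, 6],
   .word [6, 1, 6, 5, 6], .word [6, 6, 6, 2, 6, 6], .word [6, 6, 4, 6], .word [6, 6, 1, 6, 6],
   .ker (1, 2, 2), .ker (1, 2, 2), .ker (1, 2, 2), .ker (1, 2, 2),
   .ker (1, 2, 2), .ker (1, 2, 2), .ker (1, 2, 2), .ker (1, 2, 2),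
   .ker (1, 2, 2), .word [6, 5, 6], .word [6, 6, 1, 6, 6], .word [6, 2, 6, 6],
   .word [6, 6, 2, 6], .word [6, 5, 6, 1, 6, 6], .word [6, 3, 6], .word [6, 1, 6, 6],
   .word [6, 4, 6], .word [6, 6, 6, 1, 6, 6], .word [6, 6, 5, 6], .word [6, 5, 6, 6, 6],
   .word [6, 3, 6, 2, 6], .word [6, 2, 6, 6, 2, 6], .word [6, 6, 2, 6, 6], .word [6, 4, 6, 6, 6],
   .word [6, 6, 4, 6], .word [6, 1, 6, 6], .word [6, 1, 6, 4, 6], .word [6, 3, 6, 2, 6],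
   .word [6, 3, 6, 6, 6], .word [6, 6, 4, 6], .word [6, 6, 2, 6], .word [6, 6, 1, 6],
   .word [6, 3, 6, 6], .word [6, 4, 6, 6, 6], .word [6, 1, 6, 6, 2, 6], .word [6, 2, 6, 6]]

/-- certificates, part 4 -/
def certs4 : List Cert :=
  [.ker (1, 0, 0), .ker (1, 0, 0), .ker (1, 0, 0), .ker (1, 0, 0),
   .ker (1, 0, 0), .ker (1, 0, 0), .ker (1, 0, 0), .ker (1, 0, 0),
   .ker (1, 0, 0), .ker (1, 0, 0), .ker (1, 0, 0), .ker (1, 0, 0),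
   .ker (1, 1, 0), .ker (1, 1, 2), .word [6, 3, 6], .word [6, 3, 6, 6],
   .word [6, 6, 6, 1, 6], .word [6, 2, 6, 4, 6, 6], .word [6, 6, 6, 2, 6], .word [6, 5, 6, 6],
   .word [6, 4, 6, 6], .word [6, 3, 6, 6, 6], .word [6, 6, 6, 1, 6], .ker (1, 2, 1),
   .word [6, 3, 6], .word [6, 6, 1, 6, 6], .word [6, 6, 5, 6, 6], .word [6, 6, 4, 6, 6],
   .word [6, 5, 6, 6], .word [6, 1, 6, 6, 1, 6], .word [6, 2, 6, 6, 6, 6], .word [6, 2, 6, 1, 6],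
   .word [6, 6, 6, 1, 6, 6, 6], .ker (1, 1, 0), .word [6, 2, 6], .word [6, 3, 6, 6, 6],
   .word [6, 6, 4, 6], .word [6, 2, 6, 6], .word [6, 1, 6, 6, 2, 6], .word [6, 2, 6, 4, 6, 6],
   .word [6, 5, 6, 1, 6], .word [6, 1, 6, 6], .word [6, 1, 6, 1, 6, 6], .ker (1, 2, 2),
   .ker (1, 2, 2), .ker (1, 2, 2), .ker (1, 2, 2), .ker (1, 2, 2),
   .ker (1, 2, 2), .ker (1, 2, 2), .ker (1, 2, 2), .ker (1, 2, 2),
   .ker (1, 2, 2), .ker (1, 1, 0), .word [6, 2, 6], .word [6, 6, 1, 6, 6],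
   .word [6, 6, 2, 6], .word [6, 6, 3, 6, 1, 6, 6], .word [6, 5, 6, 6, 6, 6, 6], .word [6, 6, 2, 6, 6],
   .word [6, 6, 5, 6, 6], .word [6, 2, 6, 6], .word [6, 2, 6, 6, 6], .word [6, 2, 6],
   .word [6, 4, 6, 6, 6], .word [6, 1, 6, 6, 2, 6], .word [6, 1, 6, 1, 6], .word [6, 1, 6, 6],
   .word [6, 3, 6, 1, 6], .word [6, 6, 2, 6, 6, 6], .word [6, 6, 2, 6, 6, 6], .word [6, 6, 2, 6, 6, 6],
   .word [6, 2, 6], .word [6, 6, 6, 3, 6, 6, 6], .word [6, 6, 1, 6], .word [6, 2, 6, 6, 6, 6],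
   .word [6, 6, 6, 1, 6, 6, 6], .word [6, 3, 6, 6], .word [6, 4, 6, 2, 6], .word [6, 6, 2, 6],
   .word [6, 5, 6, 6, 6], .ker (0, 1, 1), .ker (0, 1, 1), .ker (0, 1, 1),
   .ker (0, 1, 1), .ker (0, 1, 1), .ker (0, 1, 1), .ker (0, 1, 1),
   .ker (0, 1, 1), .ker (0, 1, 1), .word [6, 6], .mon 1 (0, true, false, false),
   .word [6, 6], .word [6, 3, 6, 6], .word [6, 1, 6, 6, 6], .word [6, 6, 4, 6, 6, 6],
   .word [6, 2, 6, 6], .word [6, 2, 6, 1, 6, 1, 6], .word [6, 6, 6, 1, 6], .word [6, 1, 6, 2, 6],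
   .word [6, 1, 6, 1, 6, 6], .word [6, 5, 6, 2, 6], .word [6, 1, 6, 1, 6], .word [6, 2, 6, 6, 6],
   .word [6, 2, 6, 6, 2, 6], .word [6, 5, 6, 1, 6], .word [6, 4, 6, 6, 6], .word [6, 1, 6, 6, 6]]

/-- certificates, part 5 -/
def certs5 : List Cert :=
  [.ker (1, 0, 0), .ker (1, 0, 0), .ker (1, 0, 0), .ker (1, 0, 0),
   .ker (1, 0, 0), .ker (1, 0, 0), .ker (1, 0, 0), .ker (1, 0, 0),
   .ker (1, 0, 0), .ker (1, 0, 0), .ker (1, 0, 0), .ker (1, 0, 0),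
   .ker (1, 1, 0), .mon 0 (5, false, false, false), .word [6], .word [6],
   .word [6], .word [6], .word [6], .word [6],
   .word [6], .word [6], .ker (1, 1, 2), .word [6],
   .word [6], .word [6], .word [6], .word [6],
   .word [6], .word [6], .word [6], .word [6],
   .ker (1, 1, 2), .word [6], .word [6], .ker (1, 1, 0),
   .word [6], .word [6], .word [6], .word [6],
   .word [6], .ker (1, 1, 2), .word [6], .word [6],
   .word [6], .ker (1, 1, 0), .word [6], .word [6],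
   .ker (1, 1, 2), .word [6], .word [6], .ker (1, 1, 0),
   .word [6], .word [6], .ker (1, 1, 2), .word [6],
   .word [6], .word [6], .word [6], .word [6],
   .word [6], .ker (1, 1, 2), .word [6], .word [6],
   .word [6], .ker (1, 1, 2), .word [6], .word [6],
   .ker (1, 1, 2), .word [6], .word [6], .word [6],
   .word [6], .word [6], .word [6], .ker (1, 0, 1),
   .word [6], .word [6], .word [6], .ker (1, 1, 2),
   .word [6], .word [6], .ker (1, 0, 1), .word [6],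
   .word [6], .ker (1, 1, 2), .word [6], .word [6],
   .ker (1, 0, 1), .word [6], .ker (1, 1, 2), .word [6],
   .word [6], .ker (1, 0, 1), .ker (1, 1, 2), .word [6],
   .word [6], .word [6], .ker (0, 1, 1), .ker (0, 1, 1),
   .ker (0, 1, 1), .ker (0, 1, 1), .word [6], .word [6],
   .word [6], .word [6], .word [6], .word [6]]

/-- certificates, part 6 -/
def certs6 : List Cert :=
  [.ker (1, 0, 0), .ker (1, 0, 0), .ker (1, 0, 0), .ker (1, 0, 0),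
   .ker (1, 0, 0), .ker (1, 0, 0), .ker (1, 0, 0), .ker (1, 0, 0),
   .ker (1, 0, 0), .ker (1, 0, 0), .ker (1, 0, 0), .ker (1, 0, 0),
   .ker (1, 1, 0), .word [6, 6, 6, 2, 6], .word [6, 2, 6, 2, 6], .word [6, 2, 6, 6, 6],
   .word [6, 5, 6, 2, 6], .word [6, 6, 2, 6, 6], .word [6, 3, 6, 1, 6], .word [6, 2, 6, 2, 6],
   .word [6, 2, 6, 2, 6], .word [6, 6, 1, 6], .ker (1, 1, 2), .mon 0 (5, false, false, true),
   .word [6, 2, 6], .word [6, 2, 6], .word [6, 2, 6], .word [6, 2, 6],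
   .word [6, 2, 6], .word [6, 5, 6], .word [6, 2, 6], .word [6, 2, 6],
   .ker (1, 2, 1), .word [6, 1, 6, 4, 6], .word [6, 6, 2, 6, 6, 6], .ker (1, 1, 0),
   .word [6, 5, 6, 1, 6], .word [6, 3, 6, 6, 6], .word [6, 6, 4, 6, 6], .word [6, 6, 1, 6, 2, 6],
   .ker (1, 1, 2), .word [6, 2, 6, 1, 6, 1, 6], .word [6, 6, 3, 6], .word [6, 2, 6, 1, 6, 6, 6],
   .word [6, 3, 6, 6, 6], .ker (1, 1, 0), .word [6, 6, 2, 6], .ker (1, 1, 2),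
   .word [6, 1, 6, 2, 6, 6], .word [6, 3, 6, 6, 6, 6, 6], .word [6, 3, 6, 6, 6], .ker (1, 1, 0),
   .word [6, 6, 2, 6, 1, 6], .word [6, 1, 6, 6, 6, 6], .word [6, 5, 6, 1, 6], .word [6, 2, 6, 1, 6],
   .ker (1, 1, 2), .word [6, 4, 6, 6], .word [6, 1, 6, 2, 6], .word [6, 1, 6, 1, 6, 6],
   .ker (1, 1, 2), .word [6, 2, 6, 6, 2, 6, 6], .word [6, 2, 6, 6], .word [6, 3, 6, 6, 6, 6],
   .ker (1, 1, 2), .word [6, 6, 2, 6, 1, 6], .word [6, 3, 6, 6, 6, 6, 6], .word [6, 6, 6, 3, 6],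
   .word [6, 1, 6, 6, 1, 6, 6], .word [6, 3, 6, 6, 6, 6, 6], .ker (1, 1, 2), .word [6, 5, 6, 6],
   .word [6, 4, 6, 1, 6], .word [6, 6, 4, 6, 6], .word [6, 6, 2, 6], .word [6, 5, 6, 6],
   .ker (1, 0, 1), .word [6, 6, 2, 6, 2, 6], .ker (1, 1, 2), .word [6, 2, 6, 1, 6, 1, 6],
   .word [6, 3, 6, 6], .word [6, 1, 6, 6, 1, 6], .word [6, 6, 6, 2, 6], .ker (1, 0, 1),
   .ker (1, 1, 2), .word [6, 2, 6, 2, 6, 6], .word [6, 3, 6, 6, 6, 6, 6], .word [6, 1, 6, 6, 1, 6],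
   .word [6, 5, 6, 6, 6], .ker (1, 0, 1), .word [6, 2, 6, 1, 6], .word [6, 5, 6, 1, 6],
   .ker (1, 1, 2), .ker (1, 1, 2), .ker (1, 0, 1), .word [6, 4, 6, 6, 6],
   .word [6, 1, 6, 6, 6], .word [6, 6, 1, 6, 6, 6], .ker (1, 0, 1), .word [6, 6, 4, 6, 6, 6],
   .word [6, 6, 6, 1, 6, 6, 6], .word [6, 6, 6, 2, 6], .ker (0, 1, 1), .ker (0, 1, 1),
   .ker (0, 1, 1), .word [6, 1, 6, 1, 6, 6], .word [6, 4, 6, 6], .word [6, 6, 1, 6]]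

/-- certificates, part 7 -/
def certs7 : List Cert :=
  [.ker (1, 0, 0), .ker (1, 0, 0), .ker (1, 0, 0), .ker (1, 0, 0),
   .ker (1, 0, 0), .ker (1, 0, 0), .ker (1, 0, 0), .ker (1, 0, 0),
   .ker (1, 0, 0), .ker (1, 0, 0), .ker (1, 0, 0), .ker (1, 0, 0),
   .ker (1, 1, 0), .word [6, 6, 6, 1, 6], .word [6, 6, 1, 6], .word [6, 4, 6, 6],
   .word [6, 2, 6, 6], .word [6, 1, 6], .word [6, 4, 6, 1, 6], .word [6, 5, 6, 6, 6],
   .word [6, 1, 6, 6], .word [6, 2, 6, 2, 6, 6], .ker (1, 1, 2), .word [6, 6, 2, 6],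
   .word [6, 6, 1, 6, 1, 6], .word [6, 5, 6, 1, 6], .mon 0 (5, false, true, true), .word [6, 6, 6, 6, 2, 6],
   .word [6, 2, 6, 6, 6, 6], .word [6, 6, 1, 6, 6, 6], .word [6, 6, 1, 6, 6, 6], .word [6, 3, 6, 6, 6],
   .ker (1, 2, 1), .word [6, 4, 6, 1, 6], .word [6, 5, 6], .ker (1, 1, 0),
   .word [6, 6, 4, 6], .word [6, 6, 1, 6], .word [6, 5, 6, 6, 6], .ker (1, 1, 2),
   .word [6, 2, 6, 6], .word [6, 6, 6, 2, 6], .word [6, 3, 6, 1, 6, 1, 6], .word [6, 6, 1, 6, 2, 6, 6],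
   .word [6, 2, 6, 6, 1, 6], .ker (1, 1, 0), .ker (1, 1, 2), .word [6, 6, 2, 6, 1, 6],
   .word [6, 1, 6, 2, 6, 6], .word [6, 2, 6, 2, 6, 6], .word [6, 6, 5, 6, 6], .ker (1, 1, 0),
   .word [6, 2, 6, 6, 2, 6], .word [6, 5, 6, 6], .word [6, 6, 4, 6, 6], .ker (1, 1, 2),
   .word [6, 4, 6, 2, 6], .word [6, 1, 6, 6, 6], .word [6, 2, 6, 6, 2, 6], .word [6, 6, 6, 6, 1, 6],
   .word [6, 6, 6, 2, 6, 6, 6], .ker (1, 2, 1), .word [6, 5, 6, 6, 6], .word [6, 6, 5, 6, 1, 6],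
   .word [6, 1, 6, 6], .word [6, 4, 6, 6, 6], .ker (1, 2, 1), .word [6, 6, 2, 6],
   .word [6, 4, 6, 6, 6], .word [6, 4, 6, 6, 6], .ker (1, 2, 1), .word [6, 2, 6, 2, 6, 1, 6],
   .word [6, 6], .word [6, 6], .word [6, 6], .ker (1, 1, 2),
   .word [6, 6], .word [6, 4, 6], .word [6, 6], .ker (1, 0, 1),
   .word [6, 1, 6, 6, 6], .ker (1, 1, 2), .word [6, 4, 6, 1, 6], .word [6, 4, 6, 6, 6],
   .word [6, 6, 2, 6, 6], .word [6, 3, 6, 6, 6, 6, 6], .ker (1, 0, 1), .word [6, 1, 6, 6, 6, 6],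
   .word [6, 1, 6, 6, 6], .ker (1, 1, 2), .word [6, 1, 6, 6, 6], .word [6, 6, 3, 6, 6],
   .ker (1, 0, 1), .word [6, 6, 1, 6], .word [6, 1, 6, 6, 6, 6, 6], .word [6, 3, 6, 6, 6],
   .word [6, 6, 2, 6, 6], .ker (1, 0, 1), .word [6, 6, 6], .word [6, 6, 6],
   .word [6, 4, 6, 6], .ker (1, 0, 1), .word [6, 5, 6, 6], .word [6, 6, 1, 6, 6, 6],
   .ker (1, 0, 1), .ker (1, 1, 2), .ker (1, 0, 1), .ker (1, 0, 1)]

/-- certificates, part 8 -/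
def certs8 : List Cert :=
  [.ker (1, 0, 0), .ker (1, 0, 0), .ker (1, 0, 0), .ker (1, 0, 0),
   .ker (1, 0, 0), .ker (1, 0, 0), .ker (1, 0, 0), .ker (1, 0, 0),
   .ker (1, 0, 0), .ker (1, 0, 0), .ker (1, 0, 0), .ker (1, 0, 0),
   .ker (1, 1, 0), .word [6, 6], .word [6, 6], .word [6, 6],
   .word [6, 6], .word [6, 6], .word [6, 6], .word [6, 6],
   .word [6, 6], .word [6, 6], .ker (1, 1, 2), .word [6, 6],
   .word [6, 6], .word [6, 6], .mon 0 (5, true, true, true), .word [6, 6],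
   .word [6, 6], .word [6, 6], .word [6, 6], .word [6, 6],
   .ker (1, 2, 1), .word [6, 6], .word [6, 6], .ker (1, 1, 0),
   .word [6, 6], .word [6, 6], .word [6, 1, 6], .ker (1, 1, 2),
   .word [6, 6], .word [6, 6], .word [6, 6], .word [6, 6],
   .word [6, 6], .ker (1, 1, 0), .ker (1, 1, 2), .word [6, 6],
   .word [6, 6], .word [6, 6], .word [6, 1, 6], .ker (1, 1, 0),
   .word [6, 6], .word [6, 6], .word [6, 6], .ker (1, 1, 2),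
   .word [6, 6], .word [6, 6], .word [6, 6], .word [6, 6],
   .word [6, 6], .ker (1, 2, 1), .word [6, 6], .word [6, 6],
   .word [6, 6], .word [6, 6], .ker (1, 2, 1), .word [6, 6],
   .word [6, 6], .word [6, 6], .ker (1, 2, 1), .word [6, 1, 6],
   .ker (1, 1, 0), .word [6, 6], .word [6, 1, 6], .word [6, 6],
   .word [6, 6], .word [6, 6], .ker (1, 1, 0), .word [6, 6],
   .word [6, 6], .ker (1, 1, 0), .word [6, 6], .word [6, 6],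
   .word [6, 6], .word [6, 6], .word [6, 6], .ker (1, 1, 0),
   .ker (1, 2, 2), .ker (1, 2, 2), .ker (1, 2, 2), .ker (1, 2, 2),
   .word [6, 6], .word [6, 6], .word [6, 1, 6], .ker (1, 1, 0),
   .word [6, 6], .ker (1, 1, 0), .word [6, 6], .word [6, 6],
   .word [6, 6], .word [6, 6], .word [6, 1, 6], .ker (1, 1, 0),
   .word [6, 6], .word [6, 6], .ker (1, 1, 0), .word [6, 6]]

/-- the certificates -/
def certs : List (List Cert) := [certs0, certs1, certs2, certs3, certs4, certs5, certs6, certs7, certs8]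

end CfsgLib.Recog.SymNine
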