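import Cfsg.Agent.Lib.Recog.SymNine.CertCheck

/-!
# A group of linear maps with stabiliser `S₃` at `x0` is monomial in one of three frames
-/

set_option autoImplicit false

namespace CfsgLib.Recog.SymNine

/-- permutations as monomial maps -/
abbrev permMon (q : Fin 6) : Mon := (q, false, false, false)

theorem vec_decomp : ∀ v : V, v = v.1.val • e0 + v.2.1.val • e1 + v.2.2.val • e2 := by
  decide +kernel

theorem additive_ext {f g : V → V} (hf : ∀ v w, f (v + w) = f v + f w)
    (hg : ∀ v w, g (v + w) = g v + g w) (h0 : f e0 = g e0) (h1 : f e1 = g e1)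
    (h2 : f e2 = g e2) (v : V) : f v = g v := by
  have zero : ∀ {φ : V → V}, (∀ v w, φ (v + w) = φ v + φ w) → φ 0 = 0 := fun {φ} hφ => by
    have h := hφ 0 0
    rw [add_zero] at h
    exact left_eq_add.1 h
  have nsm : ∀ {φ : V → V}, (∀ v w, φ (v + w) = φ v + φ w) → ∀ (k : ℕ) (v : V),
      φ (k • v) = k • φ v := fun {φ} hφ k v => by
    induction k with
    | zero => rw [zero_smul, zero_smul, zero hφ]
    | succ k ih => rw [succ_nsmul, succ_nsmul, hφ, ih]
  rw [vec_decomp v, hf, hf, nsm hf, nsm hf, nsm hf, hg, hg, nsm hg, nsm hg, nsm hg, h0, h1, h2]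

theorem lin_add (M : Mat) (v w : V) : lin M (v + w) = lin M v + lin M w := by
  simp only [lin, Prod.fst_add, Prod.snd_add, Prod.mk_add_mk, Prod.mk.injEq]
  refine ⟨?_, ?_, ?_⟩ <;> ring

theorem frame_add (c : ZMod 3) (v w : V) : frame c (v + w) = frame c v + frame c w := by
  simp only [frame, Prod.fst_add, Prod.snd_add, Prod.mk_add_mk, Prod.mk.injEq]
  refine ⟨?_, ?_, ?_⟩ <;> ring

theorem frame_neg_frame : ∀ (c : ZMod 3) (v : V), frame (-c) (frame c v) = v := by decide +kernel

theorem frame_frame_neg : ∀ (c : ZMod 3) (v : V), frame c (frame (-c) v) = v := by decide +kernel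

theorem frame_x0 : ∀ c : ZMod 3, frame c x0 = x0 := by decide +kernel

theorem frame_perm : ∀ (c : ZMod 3) (q : Fin 6) (v : V),
    frame c (act (permMon q) v) = act (permMon q) (frame c v) := by decide +kernel

theorem framed_add (c : ZMod 3) (m : Mon) (v w : V) :
    framed c m (v + w) = framed c m v + framed c m w := by
  simp only [framed, frame_add, act_add]

theorem framed_comp (c : ZMod 3) (m n : Mon) (v : V) :
    framed c (comp m n) v = framed c m (framed c n v) := by
  simp only [framed, act_comp, frame_neg_frame]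

theorem framed_perm (c : ZMod 3) (q : Fin 6) (v : V) :
    framed c (permMon q) v = act (permMon q) v := by
  rw [framed, frame_perm, frame_frame_neg]

theorem framed_scalar : ∀ (c d : ZMod 3) (b : Bool) (v : V),
    framed c (0, b, b, b) v = framed d (0, b, b, b) v := by decide +kernel

theorem exists_rep : ∀ y : V, y ≠ 0 →
    ∃ q : Fin 6, act (permMon q) y ∈ reps := by decide +kernel

/-- the inverse permutation -/
def pinv (q : Fin 6) : Fin 6 := ![0, 2, 1, 3, 4, 5] q

theorem act_pinv : ∀ (q : Fin 6) (v : V),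
    act (permMon (pinv q)) (act (permMon q) v) = v ∧ act (permMon q) (act (permMon (pinv q)) v) = v :=
  by decide +kernel

/-- the image of a basis index under a permutation -/
def img (q : Fin 6) : Fin 3 → Fin 3 := src (pinv q)

theorem act_basis : ∀ (q : Fin 6) (i : Fin 3),
    act (permMon q) (![e0, e1, e2] i) = ![e0, e1, e2] (img q i) := by decide +kernel

theorem exists_sort (a : Fin 3 → ℕ) (h01 : a 0 ≠ a 1) (h02 : a 0 ≠ a 2) (h12 : a 1 ≠ a 2) :
    ∃ q : Fin 6, a (img q 0) < a (img q 1) ∧ a (img q 1) < a (img q 2) := by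
  have key : ∀ q : Fin 6, img q 0 = src (pinv q) 0 := fun q => rfl
  rcases lt_or_gt_of_ne h01 with p | p <;> rcases lt_or_gt_of_ne h02 with q | q <;>
    rcases lt_or_gt_of_ne h12 with r | r <;>
    first
      | omega
      | exact ⟨0, by simp [img, pinv, src]; omega⟩
      | exact ⟨1, by simp [img, pinv, src]; omega⟩
      | exact ⟨2, by simp [img, pinv, src]; omega⟩
      | exact ⟨3, by simp [img, pinv, src]; omega⟩
      | exact ⟨4, by simp [img, pinv, src]; omega⟩
      | exact ⟨5, by simp [img, pinv, src]; omega⟩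

theorem mem_allV : ∀ v : V, v ∈ allV := by decide +kernel

theorem code_injective : ∀ v w : V, code v = code w → v = w := by decide +kernel

theorem exists_diag : ∀ m : Mon, ∃ q : Fin 6,
    (comp m (permMon q)).1 = 0 ∧ ∀ q', comp (comp m (permMon q)) (permMon q') =
      (q', (comp m (permMon q)).2) := by decide +kernel

/-- the non-constant sign patterns -/
def signs : List (Bool × Bool × Bool) :=
  [(false, false, true), (false, true, false), (false, true, true), (true, false, false),
    (true, false, true), (true, true, false)]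

/-- words separating two frames -/
def pairWords : List (List (Fin 8)) :=
  [[6, 1, 7, 2, 6], [6, 2, 7, 1, 6], [6, 7, 3, 7, 6], [6, 7, 4, 7, 6], [6, 7, 5, 7, 6], [6, 7, 6],
    [7, 2, 6, 1, 7], [7, 6, 3, 6, 7], [7, 6, 4, 6, 7], [7, 6, 5, 6, 7], [7, 6, 7]]

/-- the columns of a framed map -/
def framedMat (c : ZMod 3) (m : Mon) : Mat := (framed c m e0, framed c m e1, framed c m e2)

theorem pairs_check : ∀ c d : ZMod 3, c ≠ d → ∀ s ∈ signs, ∀ t ∈ signs,
    pairWords.any (fun w => badWord (framedMat c (0, s)) (framedMat d (0, t)) w) = true := by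
  decide +kernel

theorem mem_signs : ∀ s : Bool × Bool × Bool, ¬ (s.1 = s.2.1 ∧ s.2.1 = s.2.2) → s ∈ signs := by
  decide +kernel

theorem lin_e : ∀ a b c : V, lin (a, b, c) e0 = a ∧ lin (a, b, c) e1 = b ∧ lin (a, b, c) e2 = c := by
  intro a b c
  simp [lin]

section Main

variable (P : (V → V) → Prop)
  (hperm : ∀ q, P (act (permMon q)))
  (hcomp : ∀ f g, P f → P g → P (f ∘ g))
  (hadd : ∀ f, P f → ∀ v w, f (v + w) = f v + f w)
  (hinj : ∀ f, P f → Function.Injective f)
  (hstab : ∀ f, P f → f x0 = x0 → ∃ q, ∀ v, f v = act (permMon q) v)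

include hperm hcomp hstab in
theorem not_badWord {f g : V → V} (hf : P f) (hg : P g) {M N : Mat} (hM : ∀ v, lin M v = f v)
    (hN : ∀ v, lin N v = g v) (w : List (Fin 8)) : badWord M N w = false := by
  have hw : ∀ w : List (Fin 8), P (word M N w) := by
    intro w
    induction w with
    | nil =>
      have : word M N [] = act (permMon 0) := funext fun v => (act_one v).symm
      rw [this]; exact hperm 0
    | cons t w ih =>
      have hl : P (letter M N t) := by
        by_cases ht : (t : ℕ) < 6
        · have : letter M N t = act (permMon ⟨t, ht⟩) := funext fun v => by simp [letter, ht]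
          rw [this]; exact hperm _
        by_cases ht6 : (t : ℕ) = 6
        · have : letter M N t = f := funext fun v => by simp [letter, ht6, hM]
          rw [this]; exact hf
        · have : letter M N t = g := funext fun v => by simp [letter, ht, ht6, hN]
          rw [this]; exact hg
      have : word M N (t :: w) = letter M N t ∘ word M N w := rfl
      rw [this]; exact hcomp _ _ hl ih
  rw [Bool.eq_false_iff]
  intro hb
  simp only [badWord, Bool.and_eq_true, beq_iff_eq, List.all_eq_true] at hb
  obtain ⟨q, hq⟩ := hstab _ (hw w) hb.1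
  have h := hb.2 q (List.mem_finRange q)
  simp [hq] at h

include hperm hcomp hadd hinj hstab in
theorem exists_framed {f : V → V} (hf : P f) :
    ∃ c m, ∀ v, f v = framed c m v := by
  have hf0 : f x0 ≠ 0 := fun h => by
    have h0 : f 0 = 0 := by
      have := hadd f hf 0 0
      rw [add_zero] at this
      exact left_eq_add.1 this
    exact absurd (hinj f hf (h.trans h0.symm)) (by decide)
  obtain ⟨q, hq⟩ := exists_rep _ hf0
  have hne : ∀ i j : Fin 3, i ≠ j → f (![e0, e1, e2] i) ≠ f (![e0, e1, e2] j) := fun i j hij h =>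
    hij ((by decide +kernel : ∀ i j : Fin 3, ![e0, e1, e2] i = ![e0, e1, e2] j → i = j) i j
      (hinj f hf h))
  let col : Fin 3 → V := fun i => act (permMon q) (f (![e0, e1, e2] i))
  have hne' : ∀ i j : Fin 3, i ≠ j → code (col i) ≠ code (col j) := fun i j hij h => by
    have := congrArg (act (permMon (pinv q))) (code_injective _ _ h)
    simp only [col, (act_pinv q _).1] at this
    exact hne i j hij this
  obtain ⟨r, hr1, hr2⟩ := exists_sort (fun i => code (col i)) (hne' 0 1 (by decide))
    (hne' 0 2 (by decide)) (hne' 1 2 (by decide))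
  let F : V → V := act (permMon q) ∘ f ∘ act (permMon r)
  have hF : P F := hcomp _ _ (hperm q) (hcomp _ _ hf (hperm r))
  have hFe : ∀ i, F (![e0, e1, e2] i) = col (img r i) := fun i => by
    simp only [F, col, Function.comp_apply, act_basis]
  have hFx : F x0 ∈ reps := by
    have : act (permMon r) x0 = x0 :=
      (by decide +kernel : ∀ r : Fin 6, act (permMon r) x0 = x0) r
    simp only [F, Function.comp_apply, this]
    exact hq
  let M : Mat := (F e0, F e1, F e2)
  have hM : ∀ v, lin M v = F v := fun v =>
    additive_ext (lin_add M) (hadd F hF) (lin_e _ _ _).1 (lin_e _ _ _).2.1 (lin_e _ _ _).2.2 v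
  have hlt : code M.1 < code M.2.1 ∧ code M.2.1 < code M.2.2 := by
    simp only [M]
    rw [show F e0 = col (img r 0) from hFe 0, show F e1 = col (img r 1) from hFe 1,
      show F e2 = col (img r 2) from hFe 2]
    exact ⟨hr1, hr2⟩
  obtain ⟨k, hk, hky⟩ := List.getElem_of_mem hFx
  have hk9 : k < 9 := hk
  have hsum : M.2.2 = F x0 - M.1 - M.2.1 := by
    rw [show (x0 : V) = e0 + e1 + e2 by decide, hadd F hF, hadd F hF]
    simp only [M]; abel
  have hmem : M ∈ leaves (reps.getD (⟨k, hk9⟩ : Fin 9) 0) := by
    simp only [leaves, List.mem_filter, List.mem_flatMap, List.mem_map, Bool.and_eq_true,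
      decide_eq_true_eq]
    refine ⟨⟨M.1, mem_allV _, M.2.1, mem_allV _, ?_⟩, hlt⟩
    rw [List.getD_eq_getElem _ _ hk, hky, ← hsum]
  obtain ⟨n, hn, hnM⟩ := List.getElem_of_mem hmem
  have hn' : n < (certs.getD (⟨k, hk9⟩ : Fin 9) []).length := by rw [certs_length]; exact hn
  have hchk := List.all_eq_true.1 (certs_check ⟨k, hk9⟩) _ (List.getElem_mem
    (show n < ((leaves (reps.getD (⟨k, hk9⟩ : Fin 9) 0)).zip
      (certs.getD (⟨k, hk9⟩ : Fin 9) [])).length by rw [List.length_zip]; omega))
  rw [List.getElem_zip] at hchk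
  simp only [hnM] at hchk
  generalize (certs.getD (⟨k, hk9⟩ : Fin 9) [])[n] = z at hchk
  cases z with
  | ker v =>
    simp only [Cert.check, Bool.and_eq_true, Bool.not_eq_true', beq_eq_false_iff_ne, beq_iff_eq,
      hM] at hchk
    have h0 : F 0 = 0 := by
      have := hadd F hF 0 0
      rw [add_zero] at this
      exact left_eq_add.1 this
    exact absurd (hinj F hF (hchk.2.trans h0.symm)) hchk.1
  | word w =>
    simp only [Cert.check] at hchk
    rw [not_badWord P hperm hcomp hstab hF hF hM hM w] at hchk
    exact absurd hchk (by simp)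
  | mon c m =>
    simp only [Cert.check, Bool.and_eq_true, beq_iff_eq, hM] at hchk
    refine ⟨c, comp (permMon (pinv q)) (comp m (permMon (pinv r))), fun v => ?_⟩
    have hFm := additive_ext (hadd F hF) (framed_add c m) hchk.1.1 hchk.1.2 hchk.2
    rw [framed_comp, framed_comp, framed_perm, framed_perm, ← hFm]
    simp only [F, Function.comp_apply]
    rw [(act_pinv r v).2, (act_pinv q _).1]

include hperm hcomp hadd hinj hstab in
/-- all maps are monomial in one common frame -/
theorem exists_frame : ∃ c, ∀ f, P f → ∃ m, ∀ v, f v = framed c m v := by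
  have diag : ∀ f, P f → ∀ c m, (∀ v, f v = framed c m v) →
      ∃ q s, P (framed c (0, s)) ∧ ∀ q', comp (comp m (permMon q)) (permMon q') = (q', s) := by
    intro f hf c m hfm
    obtain ⟨q, hq, hq'⟩ := exists_diag m
    refine ⟨q, (comp m (permMon q)).2, ?_, hq'⟩
    have : framed c (0, (comp m (permMon q)).2) = f ∘ act (permMon q) := funext fun v => by
      rw [Function.comp_apply, hfm, ← framed_perm c, ← framed_comp, ← hq]
    rw [this]
    exact hcomp _ _ hf (hperm q)
  by_cases hex : ∃ c s, P (framed c (0, s)) ∧ s ∈ signs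
  · obtain ⟨c, s, hs, hsig⟩ := hex
    refine ⟨c, fun f hf => ?_⟩
    obtain ⟨d, m, hfm⟩ := exists_framed P hperm hcomp hadd hinj hstab hf
    obtain ⟨q, t, ht, hq⟩ := diag f hf d m hfm
    by_cases hcd : d = c
    · exact ⟨m, hcd ▸ hfm⟩
    by_cases htc : t.1 = t.2.1 ∧ t.2.1 = t.2.2
    · refine ⟨comp (0, t) (permMon (pinv q)), fun v => ?_⟩
      have h1 : f v = framed d (0, t) (act (permMon (pinv q)) v) := by
        have e := hq 0
        conv_lhs => rw [← (act_pinv q v).2, hfm, ← framed_perm d, ← framed_comp]
        rw [show comp m (permMon q) = (0, t) from by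
          rw [← e]; exact (by decide +kernel : ∀ n : Mon, n = comp n (permMon 0)) _]
      obtain ⟨t0, t1, t2⟩ := t
      obtain ⟨e1, e2⟩ : t0 = t1 ∧ t1 = t2 := htc
      subst e1 e2
      rw [h1, framed_scalar d c, framed_comp, framed_perm]
    · exfalso
      have h := pairs_check c d (Ne.symm hcd) s hsig t (mem_signs t htc)
      obtain ⟨w, -, hw⟩ := List.any_eq_true.1 h
      have hlin : ∀ (c : ZMod 3) (n : Mon) (v : V), lin (framedMat c n) v = framed c n v :=
        fun c n v => additive_ext (lin_add _) (framed_add c n) (lin_e _ _ _).1 (lin_e _ _ _).2.1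
          (lin_e _ _ _).2.2 v
      rw [not_badWord P hperm hcomp hstab hs ht (hlin _ _) (hlin _ _) w] at hw
      exact absurd hw (by simp)
  · refine ⟨0, fun f hf => ?_⟩
    obtain ⟨d, m, hfm⟩ := exists_framed P hperm hcomp hadd hinj hstab hf
    obtain ⟨q, t, ht, hq⟩ := diag f hf d m hfm
    have htc : t.1 = t.2.1 ∧ t.2.1 = t.2.2 := by
      by_contra htc
      exact hex ⟨d, t, ht, mem_signs t htc⟩
    refine ⟨comp (0, t) (permMon (pinv q)), fun v => ?_⟩
    have h1 : f v = framed d (0, t) (act (permMon (pinv q)) v) := by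
      have e := hq 0
      conv_lhs => rw [← (act_pinv q v).2, hfm, ← framed_perm d, ← framed_comp]
      rw [show comp m (permMon q) = (0, t) from by
        rw [← e]; exact (by decide +kernel : ∀ n : Mon, n = comp n (permMon 0)) _]
    obtain ⟨t0, t1, t2⟩ := t
    obtain ⟨e1, e2⟩ : t0 = t1 ∧ t1 = t2 := htc
    subst e1 e2
    rw [h1, framed_scalar d 0, framed_comp, framed_perm]

end Main

end CfsgLib.Recog.SymNine
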