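import Cfsg.Agent.Lib.Recog.SymNine.CentQuot
import Cfsg.Agent.Lib.Recog.SymNine.Setup

/-!
# Either all centralisers are local or the configuration of `S₉` occurs
-/

set_option autoImplicit false

namespace CfsgLib.Recog.SymNine

universe u

variable {G : Type u} [Group G] {X : Mon → Bool} (C : Cube G X)

theorem Cube.localAt_of_types [Finite G] {v : V} (hv : v ≠ 0)
    (h : TypeX X v ∨ (NoThree X v ∧
      (TypeTriv X v ∨ TypeScal X v ∨ TypeRefl X v ∨ TypeKlein X v))) : C.LocalAt v := by
  rcases h with h | ⟨hno, h | h | h | h⟩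
  · exact C.localAt_of_typeX h
  · exact C.localAt_of_triv hno h
  · exact C.localAt_of_scal_or_klein hv hno (Or.inl h)
  · exact C.localAt_of_refl hv hno h
  · exact C.localAt_of_scal_or_klein hv hno (Or.inr h)

/-- centralisers of points of weight at least two are local -/
theorem Cube.localAt_middle [Finite G] (C : Cube G allX) {v : V} (hw : 2 ≤ weight v) :
    C.LocalAt v := by
  have hv : v ≠ 0 := by
    rintro rfl
    exact absurd hw (by decide)
  rcases types_all v hv with h | ⟨hno, h | h | h | h | ⟨h1, -⟩⟩
  · exact C.localAt_of_typeX h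
  · exact C.localAt_of_triv hno h
  · exact C.localAt_of_scal_or_klein hv hno (Or.inl h)
  · exact C.localAt_of_refl hv hno h
  · exact C.localAt_of_scal_or_klein hv hno (Or.inr h)
  · omega

theorem weight_lt_two : ∀ v : V, v ≠ 0 → weight v < 2 → weight v = 1 := by decide +kernel

/-- For all monomial maps: local, or the configuration of `S₉`. -/
theorem Cube.local_or_sixCase_all [Finite G] (C : Cube G allX) : C.Local ∨ C.SixCase := by
  by_cases hl : C.Local
  · exact Or.inl hl
  refine Or.inr ⟨C.planesLocal, fun v hv => C.localAt_middle hv, fun i => ?_⟩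
  obtain ⟨v, hv, hvl⟩ : ∃ v : V, v ≠ 0 ∧ ¬ C.LocalAt v := by
    by_contra hc
    push Not at hc
    exact hl fun v hv => hc v hv
  have hw : weight v = 1 := weight_lt_two v hv (by
    by_contra h
    exact hvl (C.localAt_middle (by omega)))
  obtain ⟨m, hm⟩ := weight_one_cases v hw i
  set e : V := ![e0, e1, e2] i
  obtain ⟨hew, he⟩ := weight_basis i
  have hel : ¬ C.LocalAt e := fun h => by
    obtain ⟨k, hk⟩ := C.exists_lift m rfl
    refine hvl fun g hg => ?_
    have h1 := h (k⁻¹ * g * k) (by
      show k⁻¹ * g * k * C.pt e = C.pt e * (k⁻¹ * g * k)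
      have hve : C.pt e = k⁻¹ * C.pt v * k := by rw [← hm, ← hk e]; group
      rw [hve]
      calc k⁻¹ * g * k * (k⁻¹ * C.pt v * k) = k⁻¹ * (g * C.pt v) * k := by group
        _ = k⁻¹ * (C.pt v * g) * k := by rw [hg.eq]
        _ = _ := by group)
    rw [← C.mem_normalizer] at h1 ⊢
    have hkN : k ∈ C.N := C.mem_normalizer.2 hk.norms
    have := C.N.mul_mem (C.N.mul_mem hkN h1) (C.N.inv_mem hkN)
    simpa [mul_assoc] using this
  rcases types_all e he with h | ⟨hno, h | h | h | h | ⟨-, h8⟩⟩
  · exact absurd (C.localAt_of_typeX h) hel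
  · exact absurd (C.localAt_of_triv hno h) hel
  · exact absurd (C.localAt_of_scal_or_klein he hno (Or.inl h)) hel
  · exact absurd (C.localAt_of_refl he hno h) hel
  · exact absurd (C.localAt_of_scal_or_klein he hno (Or.inr h)) hel
  · exact (C.localAt_or_six he hno hew h8).resolve_left hel

/-- The dichotomy. -/
theorem Cube.local_or_six [Finite G] (C : Cube G X) (hX : IsStandard X) :
    C.Local ∨ ∃ C' : Cube G allX, C'.SixCase ∧ C'.pt = C.pt := by
  rcases hX with rfl | rfl | rfl | rfl
  · exact Or.inl fun v hv => C.localAt_of_types hv (types_six v hv)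
  · exact Or.inl fun v hv => C.localAt_of_types hv (types_twelve v hv)
  · exact Or.inl fun v hv => C.localAt_of_types hv (types_even v hv)
  · exact C.local_or_sixCase_all.imp_right fun h => ⟨C, h, rfl⟩

end CfsgLib.Recog.SymNine
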