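import Cfsg.Agent.Lib.Recog.SymNine.Classify
import Mathlib.GroupTheory.Perm.Basic

/-!
# The centraliser of three disjoint 3-cycles in `S₉`
-/

set_option autoImplicit false

namespace CfsgLib.Recog.SymNine

/-- the product of the three cycles -/
abbrev x9 : Equiv.Perm (Fin 9) :=
  Equiv.swap 0 1 * Equiv.swap 1 2 * Equiv.swap 3 4 * Equiv.swap 4 5 * Equiv.swap 6 7 *
    Equiv.swap 7 8

/-- the point `b` of the block `i` -/
def pnt (i : Fin 3) (b : ZMod 3) : Fin 9 :=
  ![![0, 1, 2], ![3, 4, 5], ![6, 7, 8]] i ⟨b.val, b.val_lt⟩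

/-- the block of a point -/
def blk : Fin 9 → Fin 3 := ![0, 0, 0, 1, 1, 1, 2, 2, 2]

/-- the position of a point in its block -/
def pos : Fin 9 → ZMod 3 := ![0, 1, 2, 0, 1, 2, 0, 1, 2]

/-- translate the blocks, then permute them -/
def embFun (v : V) (q : Fin 6) (p : Fin 9) : Fin 9 :=
  pnt (img q (blk p)) (pos p + get v (img q (blk p)))

theorem embFun_spec : ∀ (q : Fin 6) (v : V) (p : Fin 9),
    embFun (-act (permMon (pinv q)) v) (pinv q) (embFun v q p) = p := by decide +kernel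

theorem pinv_pinv : ∀ q : Fin 6, pinv (pinv q) = q := by decide +kernel

theorem act_pinv_neg (q : Fin 6) (v : V) :
    -act (permMon q) (-act (permMon (pinv q)) v) = v := by
  have : ∀ (q : Fin 6) (v : V), -act (permMon q) (-act (permMon (pinv q)) v) = v := by
    decide +kernel
  exact this q v

/-- the elements of the centraliser -/
def emb (v : V) (q : Fin 6) : Equiv.Perm (Fin 9) where
  toFun := embFun v q
  invFun := embFun (-act (permMon (pinv q)) v) (pinv q)
  left_inv := embFun_spec q v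
  right_inv p := by
    have h := embFun_spec (pinv q) (-act (permMon (pinv q)) v) p
    rwa [pinv_pinv, act_pinv_neg] at h

theorem emb_zero : emb 0 0 = 1 := by decide +kernel

theorem emb_x0 : emb x0 0 = x9 := by decide +kernel

theorem emb_add : ∀ v w : V, emb (v + w) 0 = emb v 0 * emb w 0 := by decide +kernel

theorem emb_split : ∀ (v : V) (q : Fin 6), emb v q = emb v 0 * emb 0 q := by decide +kernel

theorem emb_conj : ∀ (q : Fin 6) (w : V),
    emb 0 q * emb w 0 = emb (act (permMon q) w) 0 * emb 0 q := by decide +kernel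

theorem emb_inj : ∀ (v : V) (q : Fin 6), emb v q 0 = 0 → emb v q 3 = 3 → emb v q 6 = 6 →
    v = 0 ∧ q = 0 := by decide +kernel

theorem emb_mem : ∀ (v : V) (q : Fin 6), emb v q * x9 = x9 * emb v q := by decide +kernel

theorem emb_cube : ∀ (v : V) (q : Fin 6), emb v q * emb v q * emb v q = 1 → q.val < 3 := by
  decide +kernel

theorem emb_fixed : ∀ (q : Fin 6) (w : V), q.val < 3 → q ≠ 0 → act (permMon q) w = w →
    ∃ k : ZMod 3, w = (k, k, k) := by decide +kernel

theorem x9_pnt : ∀ p : Fin 9, x9 p = pnt (blk p) (pos p + 1) := by decide +kernel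

theorem blk_x9 : ∀ p : Fin 9, blk (x9 p) = blk p := by decide +kernel

/-- blocks of three points as a permutation index -/
def decodeQ (i j k : Fin 3) : Fin 6 :=
  ((List.finRange 6).find? fun q => img q 0 == i && img q 1 == j && img q 2 == k).getD 0

/-- positions of three points as a vector -/
def decodeV (a b c : Fin 9) : V :=
  let f : Fin 3 → ZMod 3 := fun i => if blk a = i then pos a else if blk b = i then pos b else pos c
  (f 0, f 1, f 2)

theorem decode_spec : ∀ a b c : Fin 9, blk a ≠ blk b → blk a ≠ blk c → blk b ≠ blk c →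
    emb (decodeV a b c) (decodeQ (blk a) (blk b) (blk c)) 0 = a ∧
      emb (decodeV a b c) (decodeQ (blk a) (blk b) (blk c)) 3 = b ∧
      emb (decodeV a b c) (decodeQ (blk a) (blk b) (blk c)) 6 = c := by decide +kernel

theorem gen_points : ∀ p : Fin 9, p = 0 ∨ p = 3 ∨ p = 6 ∨ p = x9 0 ∨ p = x9 3 ∨ p = x9 6 ∨
    p = x9 (x9 0) ∨ p = x9 (x9 3) ∨ p = x9 (x9 6) := by decide +kernel

theorem same_block : ∀ a b : Fin 9, blk a = blk b → b = a ∨ b = x9 a ∨ b = x9 (x9 a) := by
  decide +kernel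

theorem eq_of_agree {g e y : Equiv.Perm (Fin 9)} (hgx : ∀ p, g (y p) = y (g p))
    (hex : ∀ p, e (y p) = y (e p)) (h0 : e 0 = g 0) (h3 : e 3 = g 3) (h6 : e 6 = g 6)
    (gp : ∀ p : Fin 9, p = 0 ∨ p = 3 ∨ p = 6 ∨ p = y 0 ∨ p = y 3 ∨ p = y 6 ∨
      p = y (y 0) ∨ p = y (y 3) ∨ p = y (y 6)) : g = e := by
  apply Equiv.ext
  intro p
  rcases gp p with r | r | r | r | r | r | r | r | r <;> rw [r] <;>
    simp only [hgx, hex, h0, h3, h6]

theorem exists_of_commute (y : Equiv.Perm (Fin 9)) (f : V → Fin 6 → Equiv.Perm (Fin 9))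
    (hf : ∀ v q p, f v q (y p) = y (f v q p)) (hy : ∀ p, blk (y p) = blk p)
    (hs : ∀ a b : Fin 9, blk a = blk b → b = a ∨ b = y a ∨ b = y (y a))
    (hd : ∀ a b c : Fin 9, blk a ≠ blk b → blk a ≠ blk c → blk b ≠ blk c →
      f (decodeV a b c) (decodeQ (blk a) (blk b) (blk c)) 0 = a ∧
        f (decodeV a b c) (decodeQ (blk a) (blk b) (blk c)) 3 = b ∧
        f (decodeV a b c) (decodeQ (blk a) (blk b) (blk c)) 6 = c)
    (gp : ∀ p : Fin 9, p = 0 ∨ p = 3 ∨ p = 6 ∨ p = y 0 ∨ p = y 3 ∨ p = y 6 ∨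
      p = y (y 0) ∨ p = y (y 3) ∨ p = y (y 6))
    {g : Equiv.Perm (Fin 9)} (hg : g * y = y * g) : ∃ v q, g = f v q := by
  have hgx : ∀ p, g (y p) = y (g p) := fun p => Equiv.congr_fun hg p
  have hb : ∀ a b : Fin 9, blk a ≠ blk b → blk (g a) ≠ blk (g b) := by
    intro a b hab h
    rcases hs _ _ h with e | e | e
    · exact hab (by rw [g.injective e])
    · rw [← hgx] at e; exact hab (by rw [g.injective e, hy])
    · rw [← hgx, ← hgx] at e; exact hab (by rw [g.injective e, hy, hy])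
  obtain ⟨h0, h3, h6⟩ := hd _ _ _ (hb 0 3 (by decide)) (hb 0 6 (by decide))
    (hb 3 6 (by decide))
  exact ⟨_, _, eq_of_agree hgx (fun p => hf _ _ p) h0 h3 h6 gp⟩

theorem emb_x9 (v : V) (q : Fin 6) (p : Fin 9) : emb v q (x9 p) = x9 (emb v q p) := by
  rw [← Equiv.Perm.mul_apply, emb_mem, Equiv.Perm.mul_apply]

theorem exists_emb {g : Equiv.Perm (Fin 9)} (hg : g * x9 = x9 * g) : ∃ v q, g = emb v q :=
  exists_of_commute x9 emb emb_x9 blk_x9 same_block decode_spec gen_points hg

/-- the centraliser of the three cycles -/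
abbrev C9 : Subgroup (Equiv.Perm (Fin 9)) := Subgroup.centralizer ({x9} : Set (Equiv.Perm (Fin 9)))

/-- an element of the centraliser -/
def emb9 (v : V) (q : Fin 6) : C9 :=
  ⟨emb v q, Subgroup.mem_centralizer_singleton_iff.2 (emb_mem v q)⟩

theorem emb9_surjective : Function.Surjective fun p : V × Fin 6 => emb9 p.1 p.2 := by
  rintro ⟨g, hg⟩
  obtain ⟨v, q, rfl⟩ := exists_emb (Subgroup.mem_centralizer_singleton_iff.1 hg)
  exact ⟨(v, q), rfl⟩

theorem emb9_injective : Function.Injective fun p : V × Fin 6 => emb9 p.1 p.2 := by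
  rintro ⟨v, q⟩ ⟨w, r⟩ h
  have h' : emb v q = emb w r := congrArg Subtype.val h
  have key : ∀ p : Fin 9, blk (emb v q p) = img q (blk p) := fun p =>
    (by decide +kernel : ∀ i b, blk (pnt i b) = i) _ _
  have key' : ∀ p : Fin 9, blk (emb w r p) = img r (blk p) := fun p =>
    (by decide +kernel : ∀ i b, blk (pnt i b) = i) _ _
  have hq : q = r := (by decide +kernel : ∀ q r : Fin 6, img q 0 = img r 0 → img q 1 = img r 1 →
    img q 2 = img r 2 → q = r) q r ((key 0).symm.trans ((by rw [h'] : _ = _).trans (key' 0)))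
      ((key 3).symm.trans ((by rw [h'] : _ = _).trans (key' 3)))
      ((key 6).symm.trans ((by rw [h'] : _ = _).trans (key' 6)))
  subst hq
  rw [emb_split v, emb_split w] at h'
  have h1 := mul_right_cancel h'
  have h2 : emb (v + -w) 0 = 1 := by
    rw [emb_add, h1, ← emb_add, add_neg_cancel, emb_zero]
  have h3 := (emb_inj (v + -w) 0 (by rw [h2]; rfl) (by rw [h2]; rfl) (by rw [h2]; rfl)).1
  exact Prod.ext (add_neg_eq_zero.1 h3) rfl

end CfsgLib.Recog.SymNine
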