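import Cfsg.Agent.Lib.Recog.SymNine.Interface
import Cfsg.Agent.Lib.Recog.SymNine.Model

/-!
# A copy of `S₉` over a cube
-/

set_option autoImplicit false

namespace CfsgLib.Recog.SymNine

universe u

variable {G : Type u} [Group G]

/-- A copy of `S₉` in `G` containing the normaliser of the cube, the centralisers of the three
basis vectors and the centraliser of a pair of disjoint transpositions. -/
structure NineEmb (C : Cube G allX) where
  /-- the embedding -/
  hom : Equiv.Perm (Fin 9) →* G
  inj : Function.Injective hom
  hom_pt : ∀ v : V, hom (emb v 0) = C.pt v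
  norms_mem : ∀ g : G, Norms C.pt g → g ∈ hom.range
  centralizer_mem : ∀ (i : Fin 3) (g : G), Commute g (C.pt (![e0, e1, e2] i)) → g ∈ hom.range
  pair_mem : ∀ g : G, Commute g (hom (Equiv.swap 0 1)) → Commute g (hom (Equiv.swap 7 8)) →
    g ∈ hom.range

end CfsgLib.Recog.SymNine
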