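import Cfsg.Agent.Lib.Recog.SymNine.Interface

/-!
# The stabilisers of vectors in the four automizers
-/

set_option autoImplicit false

namespace CfsgLib.Recog.SymNine

/-- the line through `v` -/
def inLine (v u : V) : Bool := u == 0 || u == v || u == -v

/-- the maps fixing `v` -/
def stab (X : Mon → Bool) (v : V) : Finset Mon :=
  Finset.univ.filter fun m => X m = true ∧ act m v = v

theorem mem_stab {X : Mon → Bool} {v : V} {m : Mon} :
    m ∈ stab X v ↔ X m = true ∧ act m v = v := by simp [stab]

/-- the vector is conjugate to `±x0` -/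
def TypeX (X : Mon → Bool) (v : V) : Prop :=
  ∃ m : Mon, X m = true ∧ (act m v = x0 ∨ act m v = -x0)

/-- trivial stabiliser -/
def TypeTriv (X : Mon → Bool) (v : V) : Prop := stab X v = {monOne}

/-- stabiliser inverting the quotient by the line -/
def TypeScal (X : Mon → Bool) (v : V) : Prop :=
  (stab X v).card = 2 ∧ ∀ m ∈ stab X v, m ≠ monOne →
    inLine v (act m e0 + e0) = true ∧ inLine v (act m e1 + e1) = true ∧ inLine v (act m e2 + e2) = true

/-- stabiliser a reflection negating `b` -/
def TypeRefl (X : Mon → Bool) (v : V) : Prop :=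
  (stab X v).card = 2 ∧ ∃ m ∈ stab X v, ∃ b : V, b ≠ 0 ∧ b ≠ v ∧ b ≠ -v ∧ act m b = -b ∧
    inLine b (act m e0 - e0) = true ∧ inLine b (act m e1 - e1) = true ∧ inLine b (act m e2 - e2) = true

/-- stabiliser a four group -/
def TypeKlein (X : Mon → Bool) (v : V) : Prop :=
  (stab X v).card = 4 ∧ ∀ m ∈ stab X v, comp m m = monOne

instance (X : Mon → Bool) (v : V) : Decidable (TypeX X v) := by unfold TypeX; infer_instance
instance (X : Mon → Bool) (v : V) : Decidable (TypeTriv X v) := by unfold TypeTriv; infer_instance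
instance (X : Mon → Bool) (v : V) : Decidable (TypeScal X v) := by unfold TypeScal; infer_instance
instance (X : Mon → Bool) (v : V) : Decidable (TypeRefl X v) := by unfold TypeRefl; infer_instance
instance (X : Mon → Bool) (v : V) : Decidable (TypeKlein X v) := by unfold TypeKlein; infer_instance

/-- a 3-element fixing `v` is trivial unless `v` is conjugate to `±x0` -/
def NoThree (X : Mon → Bool) (v : V) : Prop :=
  ∀ m ∈ stab X v, comp m (comp m m) = monOne → m = monOne

instance (X : Mon → Bool) (v : V) : Decidable (NoThree X v) := by unfold NoThree; infer_instance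

set_option synthInstance.maxSize 4000

theorem types_six : ∀ v : V, v ≠ 0 → TypeX sixX v ∨ (NoThree sixX v ∧
    (TypeTriv sixX v ∨ TypeScal sixX v ∨ TypeRefl sixX v ∨ TypeKlein sixX v)) := by decide +kernel

theorem types_twelve : ∀ v : V, v ≠ 0 → TypeX twelveX v ∨ (NoThree twelveX v ∧
    (TypeTriv twelveX v ∨ TypeScal twelveX v ∨ TypeRefl twelveX v ∨ TypeKlein twelveX v)) := by
  decide +kernel

theorem types_even : ∀ v : V, v ≠ 0 → TypeX evenX v ∨ (NoThree evenX v ∧
    (TypeTriv evenX v ∨ TypeScal evenX v ∨ TypeRefl evenX v ∨ TypeKlein evenX v)) := by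
  decide +kernel

theorem types_all : ∀ v : V, v ≠ 0 → TypeX allX v ∨ (NoThree allX v ∧
    (TypeTriv allX v ∨ TypeScal allX v ∨ TypeRefl allX v ∨ TypeKlein allX v ∨
      (weight v = 1 ∧ (stab allX v).card = 8))) := by decide +kernel

theorem dihedral_gens : ∀ v : V, v ≠ 0 → weight v = 1 →
    ∃ f ∈ stab allX v, ∃ s ∈ stab allX v, comp f f ≠ monOne ∧
      comp (comp f f) (comp f f) = monOne ∧ s ≠ monOne ∧ comp s s = monOne ∧
      comp (comp (comp s f) s) f = monOne ∧
      ∀ m ∈ stab allX v, m = monOne ∨ m = f ∨ m = comp f f ∨ m = comp f (comp f f) ∨ m = s ∨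
        m = comp f s ∨ m = comp (comp f f) s ∨ m = comp (comp f (comp f f)) s := by
  decide +kernel

theorem quot_faithful : ∀ (m : Mon) (v : V), v ≠ 0 → act m v = v →
    inLine v (act m e0 - e0) = true → inLine v (act m e1 - e1) = true →
    inLine v (act m e2 - e2) = true → m = monOne := by decide +kernel

theorem mon_twelve : ∀ m : Mon,
    let m2 := comp m m; let m4 := comp m2 m2; comp (comp m4 m4) m4 = monOne := by decide +kernel

theorem weight_one_cases : ∀ v : V, weight v = 1 → ∀ i : Fin 3,
    ∃ m : Mon, act m (![e0, e1, e2] i) = v := by decide +kernel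

theorem weight_basis : ∀ i : Fin 3, weight (![e0, e1, e2] i) = 1 ∧ (![e0, e1, e2] i : V) ≠ 0 := by
  decide +kernel

end CfsgLib.Recog.SymNine
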