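import Cfsg.Agent.Lib.Recog.SymNine.Basic

/-!
# Certificate format for the classification of monomial automizers
-/

set_option autoImplicit false

namespace CfsgLib.Recog.SymNine

/-- a matrix by its columns -/
abbrev Mat := V × V × V

/-- the linear map with given columns -/
def lin (M : Mat) (v : V) : V :=
  (v.1 * M.1.1 + v.2.1 * M.2.1.1 + v.2.2 * M.2.2.1,
    v.1 * M.1.2.1 + v.2.1 * M.2.1.2.1 + v.2.2 * M.2.2.2.1,
    v.1 * M.1.2.2 + v.2.1 * M.2.1.2.2 + v.2.2 * M.2.2.2.2)

/-- the change of frame `v ↦ v + c·(sum v)·x0` -/
def frame (c : ZMod 3) (v : V) : V :=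
  let s := c * (v.1 + v.2.1 + v.2.2)
  (v.1 + s, v.2.1 + s, v.2.2 + s)

/-- a monomial map in the frame `c` -/
def framed (c : ZMod 3) (m : Mon) (v : V) : V := frame c (act m (frame (-c) v))

/-- one letter of a word: six permutations and two further maps -/
def letter (g h : Mat) (t : Fin 8) (v : V) : V :=
  if ht : (t : ℕ) < 6 then act (⟨t, ht⟩, false, false, false) v
  else if (t : ℕ) = 6 then lin g v else lin h v

/-- a word applied to a vector -/
def word (g h : Mat) : List (Fin 8) → V → V
  | [], v => v
  | t :: w, v => letter g h t (word g h w v)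

/-- the word fixes `x0` and is not a permutation -/
def badWord (g h : Mat) (w : List (Fin 8)) : Bool :=
  word g h w x0 == x0 &&
    (let a := word g h w e0; let b := word g h w e1
     let d := word g h w e2
     (List.finRange 6).all fun q => !(act (q, false, false, false) e0 == a &&
       act (q, false, false, false) e1 == b && act (q, false, false, false) e2 == d))

/-- certificates for a matrix -/
inductive Cert where
  | ker (v : V)
  | mon (c : ZMod 3) (m : Mon)
  | word (w : List (Fin 8))

/-- checking a certificate -/
def Cert.check (g : Mat) : Cert → Bool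
  | .ker v => !(v == 0) && lin g v == 0
  | .mon c m => lin g e0 == framed c m e0 && lin g e1 == framed c m e1 && lin g e2 == framed c m e2
  | .word w => badWord g g w

/-- the code of a vector -/
def code (v : V) : ℕ := 9 * v.1.val + 3 * v.2.1.val + v.2.2.val

/-- all vectors in the order of their codes -/
def allV : List V := (List.range 27).map fun n => ((n / 9 : ℕ), (n / 3 % 3 : ℕ), (n % 3 : ℕ))

/-- the orbit representatives of the permutations -/
def reps : List V :=
  [(0, 0, 1), (0, 0, 2), (0, 1, 1), (0, 1, 2), (0, 2, 2), (1, 1, 1), (1, 1, 2), (1, 2, 2),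
    (2, 2, 2)]

/-- sorted column triples with sum `y` -/
def leaves (y : V) : List Mat :=
  (allV.flatMap fun a => allV.map fun b => ((a, b, y - a - b) : Mat)).filter fun g =>
    decide (code g.1 < code g.2.1) && decide (code g.2.1 < code g.2.2)

end CfsgLib.Recog.SymNine
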