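import Cfsg.Agent.Lib.Recog.SymNine.Stab
import Cfsg.Agent.Lib.Recog.SymNine.Group

/-!
# Lines of the cube and lifts of monomial maps
-/

set_option autoImplicit false

namespace CfsgLib.Recog.SymNine

universe u

theorem add_self_eq_neg : ∀ b : V, b + b = -b := by decide +kernel

theorem inLine_iff {v u : V} : inLine v u = true ↔ u = 0 ∨ u = v ∨ u = -v := by
  simp [inLine, or_assoc]

theorem inLine_add {b x y : V} (hx : inLine b x = true) (hy : inLine b y = true) :
    inLine b (x + y) = true := by
  have h := add_self_eq_neg b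
  have h' := add_self_eq_neg (-b)
  rw [neg_neg] at h'
  rw [inLine_iff] at *
  rcases hx with rfl | rfl | rfl <;> rcases hy with rfl | rfl | rfl <;> simp_all

theorem act_neg (m : Mon) (v : V) : act m (-v) = -act m v :=
  (AddMonoidHom.mk' (act m) (act_add m)).map_neg v

theorem act_zero (m : Mon) : act m 0 = 0 := (AddMonoidHom.mk' (act m) (act_add m)).map_zero

theorem act_bijective (m : Mon) : Function.Bijective (act m) := by
  have h := mon_twelve m
  simp only at h
  refine (Finite.injective_iff_bijective).1 fun a b hab => ?_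
  have e := congrArg (fun k => act k a) h
  have e' := congrArg (fun k => act k b) h
  simp only [act_comp, act_one] at e e'
  rw [hab] at e
  exact e.symm.trans e'

theorem basis_sum : ∀ u : V, u = u.1.val • e0 + u.2.1.val • e1 + u.2.2.val • e2 := by
  decide +kernel

theorem inLine_span {b : V} (f : V →+ V) (h0 : inLine b (f e0) = true)
    (h1 : inLine b (f e1) = true) (h2 : inLine b (f e2) = true) (u : V) :
    inLine b (f u) = true := by
  have key : ∀ (w : V) (n : ℕ), inLine b (f w) = true → inLine b (f (n • w)) = true := by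
    intro w n hw
    induction n with
    | zero => simp [inLine]
    | succ n ih => rw [succ_nsmul, map_add]; exact inLine_add ih hw
  rw [basis_sum u, map_add, map_add]
  exact inLine_add (inLine_add (key _ _ h0) (key _ _ h1)) (key _ _ h2)

theorem inLine_sub {b : V} {m : Mon} (h0 : inLine b (act m e0 - e0) = true)
    (h1 : inLine b (act m e1 - e1) = true) (h2 : inLine b (act m e2 - e2) = true) (u : V) :
    inLine b (act m u - u) = true :=
  inLine_span (AddMonoidHom.mk' (act m) (act_add m) - AddMonoidHom.id V) h0 h1 h2 u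

theorem inLine_sum {b : V} {m : Mon} (h0 : inLine b (act m e0 + e0) = true)
    (h1 : inLine b (act m e1 + e1) = true) (h2 : inLine b (act m e2 + e2) = true) (u : V) :
    inLine b (act m u + u) = true :=
  inLine_span (AddMonoidHom.mk' (act m) (act_add m) + AddMonoidHom.id V) h0 h1 h2 u

theorem exists_eq_one {S : Finset Mon} (h1 : monOne ∈ S) (h2 : S.card = 2) {m : Mon}
    (hm : m ∈ S) (hne : m ≠ monOne) {n : Mon} (hn : n ∈ S) : n = monOne ∨ n = m := by
  obtain ⟨a, b, -, rfl⟩ := Finset.card_eq_two.1 h2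
  simp only [Finset.mem_insert, Finset.mem_singleton] at *
  rcases h1 with h1 | h1 <;> rcases hm with hm | hm <;> rcases hn with hn | hn <;>
    subst_vars <;> simp_all

variable {G : Type u} [Group G] {X : Mon → Bool} (C : Cube G X)

theorem Cube.mem_zpowers_pt {v : V} (hv : v ≠ 0) {g : G} :
    g ∈ Subgroup.zpowers (C.pt v) ↔ ∃ u, inLine v u = true ∧ g = C.pt u := by
  classical
  have : Fact (Nat.Prime 3) := ⟨Nat.prime_three⟩
  have hord : orderOf (C.pt v) = 3 := orderOf_eq_prime (C.pt_cube v) (C.pt_ne_one hv)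
  constructor
  · intro h
    have hfin : IsOfFinOrder (C.pt v) := orderOf_pos_iff.1 (by rw [hord]; norm_num)
    obtain ⟨k, hk, rfl⟩ := (hfin.mem_zpowers_iff_mem_range_orderOf.trans Finset.mem_image).1 h
    rw [hord, Finset.mem_range] at hk
    interval_cases k
    · exact ⟨0, by simp [inLine], by rw [pow_zero, C.pt_zero]⟩
    · exact ⟨v, by simp [inLine], pow_one _⟩
    · exact ⟨-v, by simp [inLine], by rw [pow_two, ← C.pt_add, add_self_eq_neg]⟩
  · rintro ⟨u, hu, rfl⟩
    rcases inLine_iff.1 hu with rfl | rfl | rfl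
    · rw [C.pt_zero]; exact one_mem _
    · exact Subgroup.mem_zpowers _
    · rw [C.pt_neg]; exact inv_mem (Subgroup.mem_zpowers _)

theorem Cube.inv_mul_mem_J {g h : G} {m : Mon} (hg : Acts C.pt g m) (hh : Acts C.pt h m) :
    h⁻¹ * g ∈ C.J := by
  refine C.cent _ fun u => mul_inv_eq_iff_eq_mul.1 ?_
  calc h⁻¹ * g * C.pt u * (h⁻¹ * g)⁻¹ = h⁻¹ * (g * C.pt u * g⁻¹) * h := by group
    _ = h⁻¹ * (h * C.pt u * h⁻¹) * h := by rw [hg, ← hh u]
    _ = C.pt u := by group

/-- centralisers of the point `v` lie in the normaliser -/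
def Cube.LocalAt (v : V) : Prop := ∀ g : G, Commute g (C.pt v) → Norms C.pt g

theorem Cube.localAt_conj [Finite G] {v w : V} {m : Mon} (hm : X m = true) (h : act m v = w)
    (hw : C.LocalAt w) : C.LocalAt v := by
  obtain ⟨k, hk⟩ := C.exists_lift m hm
  intro g hg
  have h1 := hw (k * g * k⁻¹) (by rw [← h, ← hk v]; exact (Commute.conj_iff k).2 hg)
  rw [← C.mem_normalizer] at h1 ⊢
  have hkN : k ∈ C.N := C.mem_normalizer.2 hk.norms
  have := C.N.mul_mem (C.N.mul_mem (C.N.inv_mem hkN) h1) hkN
  simpa [mul_assoc] using this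

theorem Cube.acts_fix {g : G} {m : Mon} {v : V} (hm : Acts C.pt g m)
    (hg : Commute g (C.pt v)) : act m v = v :=
  C.pt_inj (by rw [← hm v, hg.eq, mul_inv_cancel_right])

theorem Cube.commute_of_fix {g : G} {m : Mon} {v : V} (hm : Acts C.pt g m)
    (h : act m v = v) : Commute g (C.pt v) := by
  have := hm v
  rw [h] at this
  exact mul_inv_eq_iff_eq_mul.1 this

theorem Cube.exists_stab {g : G} {v : V} (hn : Norms C.pt g) (hg : Commute g (C.pt v)) :
    ∃ m ∈ stab X v, Acts C.pt g m := by
  obtain ⟨m, hX, hm⟩ := C.exists_acts g hn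
  exact ⟨m, mem_stab.2 ⟨hX, C.acts_fix hm hg⟩, hm⟩

theorem Cube.localAt_of_typeX [Finite G] {v : V} (h : TypeX X v) : C.LocalAt v := by
  obtain ⟨m, hm, he | he⟩ := h
  · exact C.localAt_conj hm he fun g hg => C.norms_of_commute_x g hg
  · refine C.localAt_conj hm he fun g hg => C.norms_of_commute_x g ?_
    rw [C.pt_neg] at hg
    simpa using hg.inv_right

end CfsgLib.Recog.SymNine
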