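import Mathlib

/-!
The certificate showing that no subgroup of `S₉` without double transpositions and without elements
of order three contains, for every double transposition, a suitable commuting involution.
-/

set_option autoImplicit false

namespace CfsgLib.Recog.SymNine.Nine

open Equiv (swap)

/-- the values of a permutation -/
def code (σ : Equiv.Perm (Fin 9)) : List ℕ := (List.finRange 9).map fun p => (σ p).val

/-- composition of codes -/
def mulC (a b : List ℕ) : List ℕ := b.map fun x => a.getD x 0

/-- the code of the identity -/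
def oneC : List ℕ := [0, 1, 2, 3, 4, 5, 6, 7, 8]

/-- the code of a transposition -/
def swapC (a b : ℕ) : List ℕ := oneC.map fun p => if p = a then b else if p = b then a else p

theorem code_getD (σ : Equiv.Perm (Fin 9)) (x : Fin 9) : (code σ).getD x.val 0 = (σ x).val := by
  fin_cases x <;> rfl

theorem code_injective : Function.Injective code := fun a b h => Equiv.ext fun x =>
  Fin.ext (by rw [← code_getD, ← code_getD, h])

theorem code_mul (a b : Equiv.Perm (Fin 9)) : code (a * b) = mulC (code a) (code b) := by
  unfold mulC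
  conv_rhs => arg 2; unfold code
  rw [List.map_map]
  refine List.map_congr_left fun x _ => ?_
  exact (code_getD a (b x)).symm

theorem code_one : code 1 = oneC := by decide +kernel

theorem code_swap : ∀ a b : Fin 9, code (swap a b) = swapC a b := by decide +kernel

/-- the codes of the involutions supported in a list, with fuel -/
def invs : ℕ → List ℕ → List (List ℕ)
  | _, [] => [oneC]
  | 0, _ :: _ => []
  | n + 1, a :: l => invs n l ++ l.flatMap fun b => (invs n (l.erase b)).map (mulC (swapC a b))

theorem mem_invs : ∀ (n : ℕ) (l : List (Fin 9)) (σ : Equiv.Perm (Fin 9)), l.length ≤ n →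
    σ * σ = 1 → (∀ p, σ p ≠ p → p ∈ l) → code σ ∈ invs n (l.map Fin.val) := by
  intro n
  induction n with
  | zero =>
    intro l σ hl _ hs
    obtain rfl := List.length_eq_zero_iff.mp (Nat.le_zero.mp hl)
    simp only [List.map_nil, invs, List.mem_singleton]
    rw [← code_one]
    refine congrArg code (Equiv.ext fun p => ?_)
    by_contra hp
    exact absurd (hs p hp) List.not_mem_nil
  | succ n ih =>
    intro l σ hl h2 hs
    cases l with
    | nil =>
      simp only [List.map_nil, invs, List.mem_singleton]
      rw [← code_one]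
      refine congrArg code (Equiv.ext fun p => ?_)
      by_contra hp
      exact absurd (hs p hp) List.not_mem_nil
    | cons a l =>
      have hl' : l.length ≤ n := by simpa using hl
      simp only [List.map_cons, invs, List.mem_append, List.mem_flatMap, List.mem_map]
      by_cases ha : σ a = a
      · left
        exact ih l σ hl' h2 fun p hp => (List.mem_cons.mp (hs p hp)).resolve_left
          (fun e => hp (e ▸ ha))
      · right
        have hinv : ∀ p, σ (σ p) = p := fun p => Equiv.congr_fun h2 p
        have hb : σ a ∈ l := (List.mem_cons.mp (hs (σ a) (fun e => ha (σ.injective e)))).resolve_left ha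
        refine ⟨(σ a).val, ⟨σ a, hb, rfl⟩, code (swap a (σ a) * σ), ?_, by
          rw [← code_swap, ← code_mul, Equiv.swap_mul_self_mul]⟩
        rw [← List.map_erase Fin.val_injective]
        refine ih _ _ ?_ ?_ ?_
        · exact le_trans (List.length_erase_le) hl'
        · refine Equiv.ext fun p => ?_
          simp only [Equiv.Perm.mul_apply, Equiv.Perm.one_apply]
          rw [show σ (swap a (σ a) (σ p)) = swap a (σ a) p by
            have e := Equiv.congr_fun (Equiv.mul_swap_eq_swap_mul σ a (σ a)) (σ p)
            simp only [Equiv.Perm.mul_apply, hinv] at e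
            rw [e, Equiv.swap_comm]]
          exact Equiv.swap_apply_self _ _ _
        · intro p hp
          simp only [Equiv.Perm.mul_apply] at hp
          have hpa : p ≠ a := fun e => hp (by rw [e, Equiv.swap_apply_right])
          have hpb : p ≠ σ a := fun e => hp (by rw [e, hinv, Equiv.swap_apply_left])
          have hsp : σ p ≠ p := fun e => hp (by rw [e, Equiv.swap_apply_of_ne_of_ne hpa hpb])
          refine (List.mem_erase_of_ne hpb).mpr ?_
          exact (List.mem_cons.mp (hs p hsp)).resolve_left hpa

/-- all involutions -/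
def allInvs : List (List ℕ) := invs 9 oneC

theorem mem_allInvs {σ : Equiv.Perm (Fin 9)} (h : σ * σ = 1) : code σ ∈ allInvs :=
  mem_invs 9 (List.finRange 9) σ (by simp) h fun p _ => List.mem_finRange p

/-- the number of moved points of a code -/
def movedC (a : List ℕ) : ℕ := (oneC.filter fun p => !(a.getD p 0 == p)).length

/-- the number of moved points -/
def moved (σ : Equiv.Perm (Fin 9)) : ℕ := movedC (code σ)

/-- a double transposition, or an element of order three -/
def badC (a : List ℕ) : Bool :=
  (movedC a == 4 && mulC a a == oneC) || (mulC (mulC a a) a == oneC && !(a == oneC))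

/-- a double transposition, or an element of order three -/
def Bad (σ : Equiv.Perm (Fin 9)) : Prop :=
  (moved σ = 4 ∧ σ * σ = 1) ∨ (σ * σ * σ = 1 ∧ σ ≠ 1)

theorem bad_of_badC {σ : Equiv.Perm (Fin 9)} (h : badC (code σ) = true) : Bad σ := by
  simp only [badC, Bool.or_eq_true, Bool.and_eq_true, beq_iff_eq, Bool.not_eq_true',
    beq_eq_false_iff_ne, ← code_mul, ← code_one] at h
  rcases h with ⟨h1, h2⟩ | ⟨h1, h2⟩
  · exact Or.inl ⟨h1, code_injective h2⟩
  · exact Or.inr ⟨code_injective h1, fun e => h2 (e ▸ rfl)⟩

/-- one of the first five powers is bad -/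
def badPowC (a : List ℕ) : Bool :=
  let a2 := mulC a a
  let a3 := mulC a2 a
  let a4 := mulC a3 a
  badC a || badC a2 || badC a3 || badC a4 || badC (mulC a4 a)

theorem bad_pow_of_badPowC {σ : Equiv.Perm (Fin 9)} (h : badPowC (code σ) = true) :
    ∃ n : ℕ, Bad (σ ^ n) := by
  simp only [badPowC, ← code_mul, Bool.or_eq_true] at h
  rcases h with (((h | h) | h) | h) | h
  · exact ⟨1, by rw [pow_one]; exact bad_of_badC h⟩
  · exact ⟨2, by rw [pow_two]; exact bad_of_badC h⟩
  · exact ⟨3, by rw [pow_succ, pow_two]; exact bad_of_badC h⟩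
  · exact ⟨4, by rw [pow_succ, pow_succ, pow_two]; exact bad_of_badC h⟩
  · exact ⟨5, by rw [pow_succ, pow_succ, pow_succ, pow_two]; exact bad_of_badC h⟩

/-- a candidate partner -/
def partnerC (i k : List ℕ) : Bool :=
  mulC k i == mulC i k && !(k == oneC) && (movedC (mulC k i) == 4 || movedC (mulC k i) == 8)

/-- a candidate partner of the double transposition `i` -/
def Partner (i k : Equiv.Perm (Fin 9)) : Prop :=
  k * i = i * k ∧ k ≠ 1 ∧ (moved (k * i) = 4 ∨ moved (k * i) = 8)

theorem partnerC_of {i k : Equiv.Perm (Fin 9)} (h : Partner i k) :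
    partnerC (code i) (code k) = true := by
  obtain ⟨h1, h2, h3⟩ := h
  simp only [partnerC, ← code_mul, ← code_one, Bool.and_eq_true, Bool.or_eq_true, beq_iff_eq,
    Bool.not_eq_true', beq_eq_false_iff_ne]
  exact ⟨⟨congrArg code h1, fun e => h2 (code_injective e)⟩, h3⟩

/-- the root involution -/
def kRoot : Equiv.Perm (Fin 9) := swap 0 1 * swap 2 3 * swap 4 5 * swap 6 7
/-- the first double transposition -/
def iRoot : Equiv.Perm (Fin 9) := swap 3 4 * swap 7 8
/-- the second double transpositions -/
def iNext : Fin 3 → Equiv.Perm (Fin 9) :=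
  ![swap 1 2 * swap 6 8, swap 1 2 * swap 7 8, swap 1 2 * swap 4 7]
/-- the six candidates -/
def kNext : Fin 6 → Equiv.Perm (Fin 9) :=
  ![swap 0 1 * swap 3 4 * swap 5 6 * swap 7 8, swap 0 1 * swap 3 7 * swap 4 8 * swap 5 6,
    swap 0 1 * swap 2 5 * swap 3 7 * swap 4 8, swap 0 1 * swap 2 5 * swap 3 8 * swap 4 7,
    swap 0 1 * swap 2 6 * swap 3 4 * swap 7 8, swap 0 1 * swap 2 6 * swap 3 8 * swap 4 7]
/-- which double transposition follows which candidate -/
def follow : Fin 6 → Fin 3 := ![0, 1, 2, 0, 2, 1]

/-- the check at the root -/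
def rootOk (k : List ℕ) : Bool :=
  !(partnerC (code iRoot) k) || movedC k == 4 ||
    (movedC k == 8 && (badPowC (mulC (code kRoot) k) ||
      (List.finRange 6).any fun m => k == code (kNext m)))

/-- the check below the six candidates -/
def nextOk (m : Fin 6) (k : List ℕ) : Bool :=
  !(partnerC (code (iNext (follow m))) k) || movedC k == 4 ||
    (movedC k == 8 && (badPowC (mulC (code kRoot) k) || badPowC (mulC (code (kNext m)) k)))

theorem root_check : allInvs.all rootOk = true := by decide +kernel

theorem next_check : ∀ m : Fin 6, allInvs.all (nextOk m) = true := by decide +kernel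

theorem root_cases {k : Equiv.Perm (Fin 9)} (h2 : k * k = 1) (h : Partner iRoot k) :
    moved k = 4 ∨ (moved k = 8 ∧ ((∃ n : ℕ, Bad ((kRoot * k) ^ n)) ∨ ∃ m, k = kNext m)) := by
  have h' := List.all_eq_true.mp root_check _ (mem_allInvs h2)
  simp only [rootOk, partnerC_of h, Bool.not_true, Bool.false_or, Bool.or_eq_true,
    Bool.and_eq_true, beq_iff_eq, List.any_eq_true, ← code_mul] at h'
  rcases h' with h' | ⟨h8, h' | ⟨m, -, hm⟩⟩
  · exact Or.inl h'
  · exact Or.inr ⟨h8, Or.inl (bad_pow_of_badPowC h')⟩
  · exact Or.inr ⟨h8, Or.inr ⟨m, code_injective hm⟩⟩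

theorem next_cases (m : Fin 6) {k : Equiv.Perm (Fin 9)} (h2 : k * k = 1)
    (h : Partner (iNext (follow m)) k) :
    moved k = 4 ∨ (moved k = 8 ∧ ((∃ n : ℕ, Bad ((kRoot * k) ^ n)) ∨
      ∃ n : ℕ, Bad ((kNext m * k) ^ n))) := by
  have h' := List.all_eq_true.mp (next_check m) _ (mem_allInvs h2)
  simp only [nextOk, partnerC_of h, Bool.not_true, Bool.false_or, Bool.or_eq_true,
    Bool.and_eq_true, beq_iff_eq, ← code_mul] at h'
  rcases h' with h' | ⟨h8, h' | h'⟩
  · exact Or.inl h'
  · exact Or.inr ⟨h8, Or.inl (bad_pow_of_badPowC h')⟩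
  · exact Or.inr ⟨h8, Or.inr (bad_pow_of_badPowC h')⟩

theorem iRoot_facts : iRoot * iRoot = 1 ∧ moved iRoot = 4 ∧
    ∀ m : Fin 3, iNext m * iNext m = 1 ∧ moved (iNext m) = 4 := by
  decide +kernel

theorem kRoot_facts : kRoot * kRoot = 1 ∧ moved kRoot = 8 := by decide +kernel

end CfsgLib.Recog.SymNine.Nine
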