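import Cfsg.Agent.Lib.Recog.SymNine.TopPair
import Cfsg.Agent.Lib.Recog.SymNine.TopCert
import Cfsg.Agent.Lib.Recog.SymNine.Local.Twist

/-!
The copy of `S₉` is the whole group.
-/

set_option autoImplicit false

namespace CfsgLib.Recog.SymNine

universe u

open Equiv (swap)
open Nine

theorem Nine.moved_eq (σ : Equiv.Perm (Fin 9)) : moved σ = σ.support.card := by
  have hnd : ((List.finRange 9).filter fun p => !((σ p).val == p.val)).Nodup :=
    (List.nodup_finRange 9).filter _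
  have e : σ.support = ((List.finRange 9).filter fun p => !((σ p).val == p.val)).toFinset := by
    ext p
    simp [Fin.val_inj]
  rw [e, List.toFinset_card_of_nodup hnd]
  show (oneC.filter fun p => !((code σ).getD p 0 == p)).length = _
  rw [show oneC = (List.finRange 9).map Fin.val by decide +kernel, List.filter_map, List.length_map]
  refine congrArg List.length (List.filter_congr fun p _ => ?_)
  simp only [Function.comp_apply, code_getD]

theorem Nine.moved_conj (p σ : Equiv.Perm (Fin 9)) : moved (p * σ * p⁻¹) = moved σ := by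
  rw [moved_eq, moved_eq, Equiv.Perm.card_support_conj]

theorem Nine.conj_of_moved {σ π : Equiv.Perm (Fin 9)} (hσ : σ * σ = 1) (hπ : π * π = 1)
    (hσ1 : σ ≠ 1) (hπ1 : π ≠ 1) (h : moved σ = moved π) : ∃ p, p * σ * p⁻¹ = π := by
  haveI : Fact (Nat.Prime 2) := ⟨Nat.prime_two⟩
  have key : ∀ {a : Equiv.Perm (Fin 9)}, a * a = 1 → a ≠ 1 →
      ∃ n, a.cycleType = Multiset.replicate n 2 ∧ moved a = n * 2 := by
    intro a ha ha1
    have hord : orderOf a = 2 := orderOf_eq_prime (by rw [pow_two, ha]) ha1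
    obtain ⟨n, hn⟩ := Equiv.Perm.cycleType_prime_order (σ := a) (by rw [hord]; exact Nat.prime_two)
    rw [hord] at hn
    refine ⟨n + 1, hn, ?_⟩
    rw [moved_eq, ← Equiv.Perm.sum_cycleType, hn, Multiset.sum_replicate, smul_eq_mul]
  obtain ⟨m, hm, hm'⟩ := key hσ hσ1
  obtain ⟨n, hn, hn'⟩ := key hπ hπ1
  obtain rfl : m = n := by omega
  exact isConj_iff.mp (Equiv.Perm.isConj_iff_cycleType_eq.mpr (hm.trans hn.symm))

theorem Nine.moved_one : moved 1 = 0 := by decide +kernel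

theorem Nine.tAB_facts : tAB * tAB = 1 ∧ tAB ≠ 1 ∧ moved tAB = 4 := by decide +kernel

/-- two conjugates of the root involution with a three-cycle as product -/
theorem Nine.root_product :
    let a := swap (0 : Fin 9) 1 * swap 3 4 * swap 5 6 * swap 7 8
    let b := swap (1 : Fin 9) 2 * swap 3 4 * swap 5 6 * swap 7 8
    a * a = 1 ∧ b * b = 1 ∧ moved a = 8 ∧ moved b = 8 ∧
      a * b * (a * b) * (a * b) = 1 ∧ a * b ≠ 1 := by decide +kernel

variable {G : Type u} [Group G] [Finite G] {C : Cube G allX}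

namespace NineEmb

variable (E : NineEmb C)

omit [Finite G] in
theorem ne_one {σ : Equiv.Perm (Fin 9)} {n : ℕ} (h : moved σ = n + 1) : σ ≠ 1 := fun e => by
  rw [e, moved_one] at h; omega

theorem double_cent (h : C.SixCase) {σ : Equiv.Perm (Fin 9)} (h2 : σ * σ = 1) (h4 : moved σ = 4)
    {g : G} (hg : g * E.hom σ = E.hom σ * g) : g ∈ E.hom.range := by
  obtain ⟨t1, t2, t3⟩ := tAB_facts
  obtain ⟨p, rfl⟩ := conj_of_moved t1 h2 t2 (ne_one (n := 3) h4) (t3.trans h4.symm)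
  have hm : (E.hom p)⁻¹ * g * E.hom p ∈ E.hom.range := by
    refine E.pair_cent h ?_
    rw [E.conj_hom] at hg
    calc (E.hom p)⁻¹ * g * E.hom p * E.hom tAB =
        (E.hom p)⁻¹ * (g * (E.hom p * E.hom tAB * (E.hom p)⁻¹)) * E.hom p := by group
      _ = (E.hom p)⁻¹ * (E.hom p * E.hom tAB * (E.hom p)⁻¹ * g) * E.hom p := by rw [hg]
      _ = _ := by group
  have := mul_mem (mul_mem (⟨p, rfl⟩ : E.hom p ∈ E.hom.range) hm)
    (inv_mem (⟨p, rfl⟩ : E.hom p ∈ E.hom.range))
  simpa [mul_assoc] using this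

theorem no_bad (h : C.SixCase) {j : G} (hj : j ∉ E.hom.range) {σ : Equiv.Perm (Fin 9)}
    (hc : Commute (E.hom σ) j) : ¬ Bad σ := by
  rintro (⟨h4, h2⟩ | ⟨h3, h1⟩)
  · exact hj (E.double_cent h h2 h4 hc.symm.eq)
  · exact hj (E.three_mem h ⟨σ, rfl⟩ (by rw [← map_mul, ← map_mul, h3, map_one])
      (fun e => h1 (E.inj (e.trans (map_one _).symm))) hc.symm.eq)

theorem exists_partner (h : C.SixCase) {g j : G} (hgj : g * E.hom kRoot * g⁻¹ = j)
    (hj : j ∉ E.hom.range) {i : Equiv.Perm (Fin 9)} (hi : i * i = 1) (h4 : moved i = 4) :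
    ∃ k, k * k = 1 ∧ Partner i k ∧ Commute (E.hom k) j := by
  have hi1 : i ≠ 1 := ne_one (n := 3) h4
  obtain ⟨r2, r8⟩ := kRoot_facts
  have hr1 : kRoot ≠ 1 := ne_one (n := 7) r8
  have hjj : j * j = 1 := by
    rw [← hgj, show g * E.hom kRoot * g⁻¹ * (g * E.hom kRoot * g⁻¹) =
      g * (E.hom kRoot * E.hom kRoot) * g⁻¹ by group, ← map_mul, r2, map_one]
    group
  have haa : E.hom i * E.hom i = 1 := by rw [← map_mul, hi, map_one]
  rcases Local.Twist.dihedral_cases haa hjj with ⟨k, hk⟩ | ⟨c, e, hc1, hcc, hca, hcb, -, hcase⟩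
  · exfalso
    obtain ⟨p, hp⟩ := E.fusion h r2 hr1 hi hi1 (g := k * g) (by rw [← hk, ← hgj]; group)
    rw [← hp, moved_conj, r8] at h4
    omega
  · obtain ⟨k, rfl⟩ : c ∈ E.hom.range := E.double_cent h hi h4 hca
    have hk2 : k * k = 1 := E.inj (by rw [map_mul, map_one]; exact hcc)
    have hki : k * i = i * k := E.commute_iff.mp hca
    have hk1 : k ≠ 1 := fun e' => hc1 (by rw [e', map_one])
    have hne : k * i ≠ 1 := fun e' => hj (E.double_cent h hi h4 (by
      rw [show i = k by rw [eq_inv_of_mul_eq_one_left e', inv_eq_of_mul_eq_one_right hi]]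
      exact hcb.symm))
    have hsq : k * i * (k * i) = 1 := by
      rw [show k * i * (k * i) = k * (i * k) * i by group, ← hki, ← mul_assoc, hk2, one_mul, hi]
    refine ⟨k, hk2, ⟨hki, hk1, ?_⟩, hcb⟩
    rcases hcase with ⟨b, hb⟩ | ⟨hee, hae, -⟩
    · obtain ⟨p, hp⟩ := E.fusion h r2 hr1 hsq hne (g := b * g) (by
        rw [map_mul, ← hb, ← hgj]; group)
      exact Or.inr (by rw [← hp, moved_conj, r8])
    · obtain ⟨p, hp⟩ := E.fusion h hi hi1 hsq hne (g := e) (by
        rw [map_mul, ← hee, ← hae]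
        calc e * E.hom i * (E.hom i * e * E.hom i) = e * (E.hom i * E.hom i) * (e * E.hom i) := by
              simp only [mul_assoc]
          _ = e * e * E.hom i := by rw [haa, mul_one]; simp only [mul_assoc])
      exact Or.inl (by rw [← hp, moved_conj, h4])

/-- every conjugate of the root involution lies in the copy -/
theorem root_conj_mem (h : C.SixCase) (g : G) : g * E.hom kRoot * g⁻¹ ∈ E.hom.range := by
  by_contra hj
  obtain ⟨i2, i4, inext⟩ := iRoot_facts
  obtain ⟨r2, r8⟩ := kRoot_facts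
  obtain ⟨k, hk2, hkP, hkc⟩ := E.exists_partner h rfl hj i2 i4
  have hk8 : moved k = 8 := by
    rcases root_cases hk2 hkP with e | ⟨e, -⟩
    · exact absurd (Or.inl ⟨e, hk2⟩) (E.no_bad h hj hkc)
    · exact e
  obtain ⟨p, hp⟩ := conj_of_moved hk2 r2 hkP.2.1 (ne_one (n := 7) r8) (hk8.trans r8.symm)
  obtain ⟨j, hjdef⟩ : ∃ j, E.hom p * g * E.hom kRoot * (E.hom p * g)⁻¹ = j := ⟨_, rfl⟩
  have hpj : E.hom p * (g * E.hom kRoot * g⁻¹) * (E.hom p)⁻¹ = j := by rw [← hjdef]; group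
  have hj' : j ∉ E.hom.range := fun hm => hj (by
    have := mul_mem (mul_mem (inv_mem (⟨p, rfl⟩ : E.hom p ∈ E.hom.range)) hm)
      (⟨p, rfl⟩ : E.hom p ∈ E.hom.range)
    rw [← hpj] at this
    simpa [mul_assoc] using this)
  have hroot : Commute (E.hom kRoot) j := by
    rw [← hp, E.conj_hom, ← hpj]
    show _ * _ = _ * _
    calc E.hom p * E.hom k * (E.hom p)⁻¹ * (E.hom p * (g * E.hom kRoot * g⁻¹) * (E.hom p)⁻¹) =
        E.hom p * (E.hom k * (g * E.hom kRoot * g⁻¹)) * (E.hom p)⁻¹ := by group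
      _ = E.hom p * (g * E.hom kRoot * g⁻¹ * E.hom k) * (E.hom p)⁻¹ := by rw [hkc.eq]
      _ = _ := by group
  have bad : ∀ {a b : Equiv.Perm (Fin 9)}, Commute (E.hom a) j → Commute (E.hom b) j →
      ¬ ∃ n : ℕ, Bad ((a * b) ^ n) := by
    rintro a b ha hb ⟨n, hn⟩
    refine E.no_bad h hj' ?_ hn
    rw [map_pow, map_mul]
    exact (ha.mul_left hb).pow_left n
  obtain ⟨k', hk'2, hk'P, hk'c⟩ := E.exists_partner h hjdef hj' i2 i4
  rcases root_cases hk'2 hk'P with e | ⟨-, hb | ⟨m, rfl⟩⟩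
  · exact E.no_bad h hj' hk'c (Or.inl ⟨e, hk'2⟩)
  · exact bad hroot hk'c hb
  obtain ⟨n2, n4⟩ := inext (follow m)
  obtain ⟨k'', hk''2, hk''P, hk''c⟩ := E.exists_partner h hjdef hj' n2 n4
  rcases next_cases m hk''2 hk''P with e | ⟨-, hb | hb⟩
  · exact E.no_bad h hj' hk''c (Or.inl ⟨e, hk''2⟩)
  · exact bad hroot hk''c hb
  · exact bad hk'c hk''c hb

/-- The copy is the whole group. -/
theorem range_eq_top (h : C.SixCase) : E.hom.range = ⊤ := by
  obtain ⟨a2, b2, a8, b8, c3, c1⟩ := root_product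
  obtain ⟨r2, r8⟩ := kRoot_facts
  obtain ⟨p, hp⟩ := conj_of_moved r2 a2 (ne_one (n := 7) r8) (ne_one (n := 7) a8) (r8.trans a8.symm)
  obtain ⟨q, hq⟩ := conj_of_moved r2 b2 (ne_one (n := 7) r8) (ne_one (n := 7) b8) (r8.trans b8.symm)
  refine (Subgroup.eq_top_iff' _).mpr fun g => E.three_strong h
    (t := E.hom (p * kRoot * p⁻¹ * (q * kRoot * q⁻¹))) ⟨_, rfl⟩
    (by rw [← map_mul, ← map_mul, hp, hq, c3, map_one])
    (fun e => c1 (by rw [← hp, ← hq]; exact E.inj (e.trans (map_one _).symm))) ?_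
  rw [map_mul, E.conj_hom, E.conj_hom]
  have h1 := E.root_conj_mem h (g * E.hom p)
  have h2 := E.root_conj_mem h (g * E.hom q)
  have := mul_mem h1 h2
  convert this using 1
  group

end NineEmb

end CfsgLib.Recog.SymNine
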