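import Cfsg.Agent.Lib.Recog.SymNine.TopStrong
import Cfsg.Agent.Lib.Invol.BrauerSuzuki

/-!
The centraliser of a product of two disjoint transpositions lies in the copy of `S₉`.
-/

set_option autoImplicit false

namespace CfsgLib.Recog.SymNine

universe u

open Equiv (swap)

namespace Nine

/-- a transposition -/
def rA : Equiv.Perm (Fin 9) := swap 0 1
/-- a second transposition -/
def rB : Equiv.Perm (Fin 9) := swap 7 8
/-- their product -/
def tAB : Equiv.Perm (Fin 9) := swap 0 1 * swap 7 8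
/-- exchanges the two transpositions -/
def hAB : Equiv.Perm (Fin 9) := swap 0 7 * swap 1 8

theorem pair_facts : rA * rA = 1 ∧ rA ≠ 1 ∧ rA ≠ tAB ∧ rA * tAB = rB ∧ tAB * tAB = 1 ∧
    tAB ≠ 1 ∧ hAB * rA * hAB⁻¹ = rB ∧ hAB * tAB * hAB⁻¹ = tAB ∧ rA * tAB = tAB * rA ∧
    rB * tAB = tAB * rB := by decide +kernel

theorem invol_three : ∀ n : Fin 4, ∃ σ ρ : Equiv.Perm (Fin 9),
    σ.cycleType = Multiset.replicate (n.val + 1) 2 ∧ ρ * σ = σ * ρ ∧ ρ * ρ * ρ = 1 ∧ ρ ≠ 1 := by
  intro n
  fin_cases n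
  · exact ⟨swap 0 1, swap 2 3 * swap 3 4, by decide +kernel⟩
  · exact ⟨swap 0 1 * swap 2 3, swap 4 5 * swap 5 6, by decide +kernel⟩
  · exact ⟨swap 0 1 * swap 2 3 * swap 4 5, swap 6 7 * swap 7 8, by decide +kernel⟩
  · exact ⟨swap 0 1 * swap 2 3 * swap 4 5 * swap 6 7,
      swap 0 2 * swap 2 4 * (swap 1 3 * swap 3 5), by decide +kernel⟩

/-- every involution commutes with an element of order three -/
theorem exists_three {σ : Equiv.Perm (Fin 9)} (h2 : σ * σ = 1) (h1 : σ ≠ 1) :
    ∃ ρ : Equiv.Perm (Fin 9), ρ * σ = σ * ρ ∧ ρ * ρ * ρ = 1 ∧ ρ ≠ 1 := by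
  have hord : orderOf σ = 2 := by
    haveI : Fact (Nat.Prime 2) := ⟨Nat.prime_two⟩
    exact orderOf_eq_prime (by rw [pow_two, h2]) h1
  obtain ⟨n, hn⟩ := Equiv.Perm.cycleType_prime_order (σ := σ) (by rw [hord]; exact Nat.prime_two)
  rw [hord] at hn
  have hsum : σ.cycleType.sum ≤ 9 := by
    rw [Equiv.Perm.sum_cycleType]
    exact (Finset.card_le_univ _).trans_eq (Fintype.card_fin 9)
  rw [hn, Multiset.sum_replicate, smul_eq_mul] at hsum
  obtain ⟨π, ρ, hπ, hc, h3, hne⟩ := invol_three ⟨n, by omega⟩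
  obtain ⟨p, hp⟩ := isConj_iff.mp (Equiv.Perm.isConj_iff_cycleType_eq.mpr (hπ.trans hn.symm))
  refine ⟨p * ρ * p⁻¹, ?_, ?_, fun e => hne (conj_eq_one_iff.mp e)⟩
  · rw [← hp, show p * ρ * p⁻¹ * (p * π * p⁻¹) = p * (ρ * π) * p⁻¹ by group, hc]
    group
  · rw [show p * ρ * p⁻¹ * (p * ρ * p⁻¹) * (p * ρ * p⁻¹) = p * (ρ * ρ * ρ) * p⁻¹ by group, h3]
    group

/-- the five points off the pair -/
def five : Fin 5 → Fin 9 := ![2, 3, 4, 5, 6]

theorem swap_pair : ∀ a b : Fin 9, a ≠ b → swap a b * tAB = tAB * swap a b →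
    swap a b = rA ∨ swap a b = rB ∨ ∀ c d : Fin 9, swap a b * tAB ≠ swap c d := by
  decide +kernel

theorem five_comm : ∀ a b a' b' : Fin 5, a ≠ b → a' ≠ b' →
    swap (five a') (five b') * swap (five a) (five b) ≠ 1 →
    let c := swap (five a') (five b') * swap (five a) (five b)
    (c * c = 1 ∧ c ≠ tAB) ∨ ∃ u v : Fin 5,
      let c' := c * (swap (five u) (five v) * c * swap (five u) (five v))
      c' * c' = 1 ∧ c' ≠ 1 ∧ c' ≠ tAB := by
  decide +kernel

theorem five_swap_comm : ∀ a b : Fin 5, swap (five a) (five b) * tAB = tAB * swap (five a) (five b) := by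
  decide +kernel

theorem fixed_five : ∀ p : Fin 9, tAB p = p → ∃ a, five a = p := by decide +kernel

theorem five_fixed : ∀ a, tAB (five a) = five a := by decide +kernel

theorem five_pick : ∀ a : Fin 5, ∃ b d : Fin 5, a ≠ b ∧ a ≠ d ∧ b ≠ d := by decide +kernel

theorem five_inj : ∀ a b : Fin 5, five a = five b → a = b := by decide +kernel

/-- the four remaining points -/
def outer : Fin 4 → Fin 9 := ![0, 1, 7, 8]

theorem outer_cover : ∀ p : Fin 9, (∃ a, five a = p) ∨ ∃ i, outer i = p := by decide +kernel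

theorem outer_iter : ∀ f : Fin 4 → Fin 4, (∀ i j, f i = f j → i = j) →
    (∀ i, tAB (outer (f i)) = outer (f (![1, 0, 3, 2] i))) → ∀ i, f (f (f (f i))) = i := by
  decide +kernel

theorem outer_t : ∀ i, tAB (outer i) = outer (![1, 0, 3, 2] i) := by decide +kernel

theorem five_ne_outer : ∀ a i, five a ≠ outer i := by decide +kernel

theorem outer_inj : ∀ i j, outer i = outer j → i = j := by decide +kernel

theorem pow_four {σ : Equiv.Perm (Fin 9)} (hσ : σ * tAB = tAB * σ) (hfix : ∀ a, σ (five a) = five a) :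
    σ * σ * (σ * σ) = 1 := by
  have key : ∀ i, ∃ j, σ (outer i) = outer j := fun i => by
    rcases outer_cover (σ (outer i)) with ⟨a, ha⟩ | ⟨j, hj⟩
    · exact absurd (σ.injective ((hfix a).trans ha)) (five_ne_outer a i)
    · exact ⟨j, hj.symm⟩
  choose f hf using key
  have hinj : ∀ i j, f i = f j → i = j := fun i j e =>
    outer_inj i j (σ.injective (by rw [hf, hf, e]))
  have hcomm : ∀ i, tAB (outer (f i)) = outer (f (![1, 0, 3, 2] i)) := fun i => by
    rw [← hf, ← hf, ← outer_t]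
    exact (Equiv.congr_fun hσ (outer i)).symm
  refine Equiv.ext fun p => ?_
  rcases outer_cover p with ⟨a, rfl⟩ | ⟨i, rfl⟩
  · simp [hfix]
  · simp only [Equiv.Perm.mul_apply, hf, Equiv.Perm.one_apply, outer_iter f hinj hcomm i]

/-- the data for the alternating group argument -/
theorem klein_facts : ∀ e : Fin 2,
    let a := swap (2 : Fin 9) 3 * swap 4 (![5, 6] e)
    let b := swap (2 : Fin 9) 4 * swap 3 (![5, 6] e)
    let c := swap (3 : Fin 9) 4 * swap 4 (![5, 6] e)
    a * tAB = tAB * a ∧ b * tAB = tAB * b ∧ c * tAB = tAB * c ∧ a * a = 1 ∧ a * b = b * a ∧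
    c * c * c = 1 ∧ c ≠ 1 ∧
    (a * c) * (a * c) * (a * c) = 1 ∧ a * c ≠ 1 ∧ (b * c) * (b * c) * (b * c) = 1 ∧ b * c ≠ 1 ∧
    (a * b * c) * (a * b * c) * (a * b * c) = 1 ∧ a * b * c ≠ 1 ∧
    a * c * (a * c) = a * b * (c * c) ∧ b * c * (b * c) = a * (c * c) ∧
    a * b * c * (a * b * c) = b * (c * c) := by
  decide +kernel

theorem klein_prod :
    let c := swap (2 : Fin 9) 3 * swap 4 5 * (swap 2 3 * swap 4 6)
    c * c * c = 1 ∧ c ≠ 1 ∧ c * tAB = tAB * c := by
  decide +kernel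

theorem A4_trick {A : Type*} [CommGroup A] (a b ab c : A →* A)
    (hc : ∀ x, x * c x * c (c x) = 1) (h1 : ∀ x, x * a (c x) * ab (c (c x)) = 1)
    (h2 : ∀ x, x * b (c x) * a (c (c x)) = 1) (h3 : ∀ x, x * ab (c x) * b (c (c x)) = 1) (x : A) :
    x ^ 4 = x * a x * b x * ab x := by
  have ha : ∀ y, a (c y) * a (c (c y)) = (a y)⁻¹ := fun y =>
    eq_inv_of_mul_eq_one_right (by rw [← map_mul, ← map_mul, ← mul_assoc, hc, map_one])
  have hb : ∀ y, b (c y) * b (c (c y)) = (b y)⁻¹ := fun y =>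
    eq_inv_of_mul_eq_one_right (by rw [← map_mul, ← map_mul, ← mul_assoc, hc, map_one])
  have hab : ∀ y, ab (c y) * ab (c (c y)) = (ab y)⁻¹ := fun y =>
    eq_inv_of_mul_eq_one_right (by rw [← map_mul, ← map_mul, ← mul_assoc, hc, map_one])
  have h0 : c x * c (c x) = x⁻¹ := eq_inv_of_mul_eq_one_right (by rw [← mul_assoc, hc])
  have e : (x * c x * c (c x)) * (x * a (c x) * ab (c (c x))) * (x * b (c x) * a (c (c x))) *
      (x * ab (c x) * b (c (c x))) = 1 := by rw [hc, h1, h2, h3, one_mul, one_mul, one_mul]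
  have e' : x ^ 4 * ((c x * c (c x)) * (a (c x) * a (c (c x))) * (b (c x) * b (c (c x))) *
      (ab (c x) * ab (c (c x)))) = 1 := by
    rw [← e]
    simp only [pow_succ, pow_zero, one_mul]
    ac_rfl
  rw [h0, ha, hb, hab, ← mul_inv, ← mul_inv, ← mul_inv, mul_inv_eq_one] at e'
  exact e'

end Nine

open Nine

variable {G : Type u} [Group G] [Finite G] {C : Cube G allX}

namespace NineEmb

variable (E : NineEmb C)

/-- involutions of the copy are fused only within it -/
theorem fusion (h : C.SixCase) {σ π : Equiv.Perm (Fin 9)} (hσ : σ * σ = 1) (hσ1 : σ ≠ 1)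
    (hπ : π * π = 1) (hπ1 : π ≠ 1) {g : G} (hg : g * E.hom σ * g⁻¹ = E.hom π) :
    ∃ p : Equiv.Perm (Fin 9), p * σ * p⁻¹ = π := by
  obtain ⟨ρ, a1, a2, a3⟩ := exists_three hσ hσ1
  obtain ⟨η, b1, b2, b3⟩ := exists_three hπ hπ1
  exact E.fusion_of_three h a1 a2 a3 b1 b2 b3 hg

omit [Finite G] in
theorem conj_hom (p σ : Equiv.Perm (Fin 9)) : E.hom (p * σ * p⁻¹) = E.hom p * E.hom σ * (E.hom p)⁻¹ := by
  rw [map_mul, map_mul, map_inv]

theorem mem_of_pair_conj {g : G} (hgt : g * E.hom tAB = E.hom tAB * g)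
    (hg : g * E.hom rA * g⁻¹ = E.hom rA ∨ g * E.hom rA * g⁻¹ = E.hom rB) :
    g ∈ E.hom.range := by
  have base : ∀ k : G, k * E.hom tAB = E.hom tAB * k → k * E.hom rA * k⁻¹ = E.hom rA →
      k ∈ E.hom.range := fun k h1 h2 => by
    have h2' : Commute k (E.hom rA) := mul_inv_eq_iff_eq_mul.mp h2
    refine E.pair_mem k (show Commute k (E.hom (swap 0 1)) from h2') ?_
    rw [show swap (7 : Fin 9) 8 = rA * tAB from pair_facts.2.2.2.1.symm, map_mul]
    exact h2'.mul_right h1
  rcases hg with e | e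
  · exact base g hgt e
  · have hh : E.hom hAB ∈ E.hom.range := ⟨_, rfl⟩
    have hA : E.hom hAB * E.hom rA * (E.hom hAB)⁻¹ = E.hom rB := by
      rw [← E.conj_hom, pair_facts.2.2.2.2.2.2.1]
    have hT : E.hom hAB * E.hom tAB * (E.hom hAB)⁻¹ = E.hom tAB := by
      rw [← E.conj_hom, pair_facts.2.2.2.2.2.2.2.1]
    have := base ((E.hom hAB)⁻¹ * g)
      ((show Commute (E.hom hAB) (E.hom tAB) from mul_inv_eq_iff_eq_mul.mp hT).inv_left.mul_left hgt)
      (by rw [show (E.hom hAB)⁻¹ * g * E.hom rA * ((E.hom hAB)⁻¹ * g)⁻¹ =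
            (E.hom hAB)⁻¹ * (g * E.hom rA * g⁻¹) * E.hom hAB by group, e, ← hA]; group)
    simpa using mul_mem hh this

/-- isolation of the transposition modulo the pair -/
theorem pair_isolated (h : C.SixCase) {g : G} (hgt : g * E.hom tAB = E.hom tAB * g)
    (hc : g * E.hom rA * g⁻¹ * E.hom rA * (g * E.hom rA * g⁻¹) = E.hom rA ∨
      g * E.hom rA * g⁻¹ * E.hom rA * (g * E.hom rA * g⁻¹) = E.hom rB) :
    g * E.hom rA * g⁻¹ = E.hom rA ∨ g * E.hom rA * g⁻¹ = E.hom rB := by
  obtain ⟨s, hs⟩ : ∃ s, g * E.hom rA * g⁻¹ = s := ⟨_, rfl⟩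
  rw [hs] at hc ⊢
  have hst : s * E.hom tAB = E.hom tAB * s := by
    rw [← hs]
    have h1 : Commute g (E.hom tAB) := hgt
    exact ((h1.mul_left (E.commute_iff.mpr pair_facts.2.2.2.2.2.2.2.2.1)).mul_left h1.inv_left).eq
  have hss : s * s = 1 := by
    rw [← hs, show g * E.hom rA * g⁻¹ * (g * E.hom rA * g⁻¹) = g * (E.hom rA * E.hom rA) * g⁻¹ by
      group, ← map_mul, pair_facts.1, map_one]
    group
  have hsinv : s⁻¹ = s := inv_eq_of_mul_eq_one_right hss
  have hsH : s ∈ E.hom.range := E.mem_of_pair_conj hst (by rwa [hsinv])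
  obtain ⟨σ, hσ⟩ := hsH
  have hσ2 : σ * σ = 1 := E.inj (by rw [map_mul, map_one, hσ, hss])
  have hσ1 : σ ≠ 1 := fun e => pair_facts.2.1 (E.inj (by
    rw [e, map_one] at hσ
    rw [map_one]
    exact conj_eq_one_iff.mp (hs.trans hσ.symm)))
  obtain ⟨p, hp⟩ := E.fusion h pair_facts.1 pair_facts.2.1 hσ2 hσ1 (g := g) (by rw [hσ, hs])
  obtain ⟨a, b, hab, rfl⟩ : ∃ a b, a ≠ b ∧ σ = swap a b :=
    ⟨p 0, p 1, fun e => absurd (p.injective e) (by decide),
      by rw [← hp, Equiv.swap_apply_apply]; rfl⟩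
  have hcomm : swap a b * tAB = tAB * swap a b := E.commute_iff.mp (show Commute (E.hom _) _ from
    hσ ▸ hst)
  rcases swap_pair a b hab hcomm with e | e | e
  · exact Or.inl (by rw [← hσ, e])
  · exact Or.inr (by rw [← hσ, e])
  · exfalso
    have hne : swap a b * tAB ≠ 1 := fun e' => e 0 0 (by rw [e', Equiv.swap_self]; rfl)
    have hsq : swap a b * tAB * (swap a b * tAB) = 1 := by
      rw [show swap a b * tAB * (swap a b * tAB) = swap a b * (tAB * swap a b) * tAB by group,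
        ← hcomm, ← mul_assoc, Equiv.swap_mul_self, one_mul, pair_facts.2.2.2.2.1]
    have hB : rB * rB = 1 ∧ rB ≠ 1 := by decide +kernel
    obtain ⟨p', hp'⟩ := E.fusion h hB.1 hB.2 hsq hne (g := g) (by
      rw [show rB = rA * tAB from pair_facts.2.2.2.1.symm, map_mul, map_mul, hσ, ← hs]
      rw [show g * (E.hom rA * E.hom tAB) * g⁻¹ = g * E.hom rA * g⁻¹ * (g * E.hom tAB * g⁻¹) by
        group, hgt, mul_inv_cancel_right])
    exact e (p' 7) (p' 8) (by rw [← hp', Equiv.swap_apply_apply]; rfl)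

/-- the centraliser of the pair lies in the copy -/
theorem pair_cent (h : C.SixCase) {g : G} (hg : g * E.hom tAB = E.hom tAB * g) :
    g ∈ E.hom.range := by
  classical
  let M : Subgroup G := Subgroup.centralizer {E.hom tAB}
  let t : M := ⟨E.hom tAB, Subgroup.mem_centralizer_singleton_iff.mpr rfl⟩
  let Z : Subgroup M := Subgroup.zpowers t
  have ht2 : t * t = 1 := Subtype.ext (by
    show E.hom tAB * E.hom tAB = 1
    rw [← map_mul, pair_facts.2.2.2.2.1, map_one])
  have hZ : ∀ z : M, z ∈ Z → z = 1 ∨ z = t := by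
    intro z hz
    obtain ⟨i, rfl⟩ := Subgroup.mem_zpowers_iff.mp hz
    rcases Int.even_or_odd' i with ⟨n, rfl | rfl⟩
    · left; rw [zpow_mul, zpow_two, ht2, one_zpow]
    · right; rw [zpow_add, zpow_mul, zpow_two, ht2, one_zpow, one_mul, zpow_one]
  have hcen : ∀ m : M, m * t = t * m := fun m =>
    Subtype.ext (Subgroup.mem_centralizer_singleton_iff.mp m.2)
  haveI : Z.Normal := ⟨fun z hz m => by
    rcases hZ z hz with rfl | rfl
    · simp
    · rw [hcen, mul_inv_cancel_right]; exact hz⟩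
  have hmk : ∀ a b : M, (a : M ⧸ Z) = b ↔ b = a ∨ b = a * t := by
    intro a b
    refine ⟨fun e => ?_, ?_⟩
    · rcases hZ _ (QuotientGroup.eq.mp e) with h1 | h1
      · exact Or.inl (inv_mul_eq_one.mp h1).symm
      · exact Or.inr (inv_mul_eq_iff_eq_mul.mp h1)
    · rintro (rfl | rfl)
      · rfl
      · exact QuotientGroup.eq.mpr (by rw [inv_mul_cancel_left]; exact Subgroup.mem_zpowers t)
  let el : ∀ p : Equiv.Perm (Fin 9), p * tAB = tAB * p → M := fun p hp =>
    ⟨E.hom p, Subgroup.mem_centralizer_singleton_iff.mpr (E.commute_iff.mpr hp).eq⟩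
  let r : M := el rA pair_facts.2.2.2.2.2.2.2.2.1
  have hrt : ((r * t : M) : G) = E.hom rB := by
    show E.hom rA * E.hom tAB = _
    rw [← map_mul, pair_facts.2.2.2.1]
  have key : ∀ m : M, ((m * r * m⁻¹ : M) : M ⧸ Z) = r → (m : G) ∈ E.hom.range := by
    intro m e
    refine E.mem_of_pair_conj (congrArg Subtype.val (hcen m)) ?_
    rcases (hmk _ _).mp e.symm with h1 | h1
    · exact Or.inl (congrArg Subtype.val h1)
    · exact Or.inr ((congrArg Subtype.val h1).trans hrt)
  -- isolation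
  have hr1 : ((r : M) : M ⧸ Z) ≠ 1 := fun e => by
    rcases hZ r ((QuotientGroup.eq_one_iff r).mp e) with h1 | h1
    · exact pair_facts.2.1 (E.inj ((congrArg Subtype.val h1).trans (map_one _).symm))
    · exact pair_facts.2.2.1 (E.inj (congrArg Subtype.val h1))
  have hr2 : r * r = 1 := Subtype.ext (by
    show E.hom rA * E.hom rA = 1
    rw [← map_mul, pair_facts.1, map_one])
  have hiso : Cfsg.IsIsolatedInvolution ((r : M) : M ⧸ Z) := by
    refine ⟨orderOf_eq_prime (by rw [pow_two, ← QuotientGroup.mk_mul, hr2, QuotientGroup.mk_one]) hr1,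
      fun q hq => ?_⟩
    obtain ⟨m, rfl⟩ := QuotientGroup.mk_surjective q
    have hss : (m * r * m⁻¹) * (m * r * m⁻¹) = 1 := by
      rw [show m * r * m⁻¹ * (m * r * m⁻¹) = m * (r * r) * m⁻¹ by group, hr2]; group
    have e : ((r : M) : M ⧸ Z) = ((m * r * m⁻¹ * r * (m * r * m⁻¹) : M) : M ⧸ Z) := by
      symm
      rw [QuotientGroup.mk_mul (N := Z) (m * r * m⁻¹ * r), QuotientGroup.mk_mul (N := Z) (m * r * m⁻¹),
        ← show ((r : M) : M ⧸ Z) * ((m * r * m⁻¹ : M) : M ⧸ Z) = ((m * r * m⁻¹ : M) : M ⧸ Z) * r from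
          hq.eq, mul_assoc, ← QuotientGroup.mk_mul, hss, QuotientGroup.mk_one, mul_one]
    have hcond : ((m * r * m⁻¹ * r * (m * r * m⁻¹) : M) : G) = E.hom rA ∨
        ((m * r * m⁻¹ * r * (m * r * m⁻¹) : M) : G) = E.hom rB := by
      rcases (hmk _ _).mp e with h1 | h1
      · exact Or.inl (congrArg Subtype.val h1)
      · exact Or.inr ((congrArg Subtype.val h1).trans hrt)
    rw [← QuotientGroup.mk_inv, ← QuotientGroup.mk_mul, ← QuotientGroup.mk_mul]
    refine (hmk _ _).mpr ?_ |> Eq.symm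
    rcases E.pair_isolated h (g := (m : G)) (congrArg Subtype.val (hcen m)) hcond with h1 | h1
    · exact Or.inl (Subtype.ext h1)
    · exact Or.inr (Subtype.ext (h1.trans hrt.symm))
  -- the odd core is trivial
  obtain ⟨O, hO⟩ : ∃ O, Cfsg.oddCore (M ⧸ Z) = O := ⟨_, rfl⟩
  haveI hOn : O.Normal := by
    have := CfsgLib.Solvable.pPrimeCore_characteristic 2 (M ⧸ Z)
    rw [← hO]
    infer_instance
  have hodd : Odd (Nat.card O) := hO ▸ CfsgLib.Invol.odd_card_oddCore (M ⧸ Z)
  have hOpow : ∀ x ∈ O, x ^ Nat.card O = 1 := fun x hx =>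
    congrArg Subtype.val (pow_card_eq_one' (x := (⟨x, hx⟩ : O)))
  have hOH : ∀ m : M, (m : G) ∈ E.hom.range → (m : M ⧸ Z) ∈ O → (m : M ⧸ Z) = 1 := by
    rintro m ⟨σ, hσ⟩ hm
    obtain ⟨N, hN⟩ : ∃ N, N = Nat.card O := ⟨_, rfl⟩
    obtain ⟨k, hk⟩ := hodd
    rw [← hN] at hk
    have hσc : σ * tAB = tAB * σ := E.commute_iff.mp (show Commute (E.hom σ) _ from
      hσ ▸ congrArg Subtype.val (hcen m))
    have pow_one_or : ∀ (p : Equiv.Perm (Fin 9)) (hp : p * tAB = tAB * p),
        ((el p hp : M) : M ⧸ Z) ∈ O → p ^ N = 1 ∨ p ^ N = tAB := by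
      intro p hp hpO
      have e := hOpow _ hpO
      rw [← hN, ← QuotientGroup.mk_pow, QuotientGroup.eq_one_iff] at e
      rcases hZ _ e with h1 | h1
      · exact Or.inl (E.inj (by rw [map_pow, map_one]; exact congrArg Subtype.val h1))
      · exact Or.inr (E.inj (by rw [map_pow]; exact congrArg Subtype.val h1))
    have no_invol : ∀ (p : Equiv.Perm (Fin 9)) (hp : p * tAB = tAB * p),
        ((el p hp : M) : M ⧸ Z) ∈ O → p * p = 1 → p ≠ 1 → p ≠ tAB → False := by
      intro p hp hpO h2 h1 h3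
      have e : p ^ N = p := by rw [hk, pow_succ, pow_mul, pow_two, h2, one_pow, one_mul]
      rcases pow_one_or p hp hpO with h4 | h4
      · exact h1 (e ▸ h4)
      · exact h3 (e ▸ h4)
    have el_mul : ∀ p q hp hq hpq, el (p * q) hpq = el p hp * el q hq := fun p q hp hq hpq =>
      Subtype.ext (map_mul E.hom p q)
    have hfive : ∀ a, ∃ a', σ (five a) = five a' := fun a => by
      obtain ⟨b, hb⟩ := fixed_five (σ (five a)) (by
        have := Equiv.congr_fun hσc (five a)
        simp only [Equiv.Perm.mul_apply, five_fixed] at this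
        exact this.symm)
      exact ⟨b, hb.symm⟩
    choose f hf using hfive
    have hswap : ∀ a b : Fin 5, a ≠ b → swap (five (f a)) (five (f b)) = swap (five a) (five b) := by
      intro a b hab
      have hab' : f a ≠ f b := fun e => hab (five_inj a b (σ.injective (by rw [hf, hf, e])))
      by_contra hne
      obtain ⟨c, hcdef⟩ : ∃ c, c = swap (five (f a)) (five (f b)) * swap (five a) (five b) :=
        ⟨_, rfl⟩
      have hc1 : c ≠ 1 := fun e => hne (by
        rw [hcdef, mul_eq_one_iff_eq_inv, Equiv.swap_inv] at e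
        exact e)
      have hcc : c * tAB = tAB * c := by
        rw [hcdef, mul_assoc, five_swap_comm, ← mul_assoc, five_swap_comm, mul_assoc]
      have hcO : ((el c hcc : M) : M ⧸ Z) ∈ O := by
        have hsw : c = σ * swap (five a) (five b) * σ⁻¹ * swap (five a) (five b) := by
          rw [hcdef, ← hf, ← hf, Equiv.swap_apply_apply]
        have e : el c hcc = m * el _ (five_swap_comm a b) * m⁻¹ * el _ (five_swap_comm a b) :=
          Subtype.ext (by
            show E.hom c = (m : G) * E.hom (swap (five a) (five b)) * (m : G)⁻¹ *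
              E.hom (swap (five a) (five b))
            rw [hsw, map_mul, E.conj_hom, hσ])
        rw [e, mul_assoc, mul_assoc, ← mul_assoc (el _ (five_swap_comm a b)), QuotientGroup.mk_mul]
        refine O.mul_mem hm ?_
        have hinv : el _ (five_swap_comm a b) * el _ (five_swap_comm a b) = 1 := Subtype.ext (by
          show E.hom _ * E.hom _ = 1
          rw [← map_mul, Equiv.swap_mul_self, map_one])
        have := hOn.conj_mem _ (O.inv_mem hm) ((el _ (five_swap_comm a b) : M) : M ⧸ Z)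
        rwa [← QuotientGroup.mk_inv, ← QuotientGroup.mk_inv, ← QuotientGroup.mk_mul,
          ← QuotientGroup.mk_mul, inv_eq_of_mul_eq_one_right hinv] at this
      rcases five_comm a b (f a) (f b) hab hab' (hcdef ▸ hc1) with ⟨h2, h3⟩ | ⟨u, v, h2, h3, h4⟩
      · exact no_invol c hcc hcO (hcdef ▸ h2) hc1 (hcdef ▸ h3)
      · rw [← hcdef] at h2 h3 h4
        have hcc' : swap (five u) (five v) * c * swap (five u) (five v) * tAB =
            tAB * (swap (five u) (five v) * c * swap (five u) (five v)) := by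
          rw [mul_assoc _ (swap (five u) (five v)) tAB, five_swap_comm, ← mul_assoc,
            mul_assoc (swap (five u) (five v)) c tAB, hcc, ← mul_assoc, five_swap_comm]
          group
        refine no_invol _ (Commute.mul_left hcc hcc') ?_ h2 h3 h4
        rw [el_mul _ _ hcc hcc' (Commute.mul_left hcc hcc'), QuotientGroup.mk_mul]
        refine O.mul_mem hcO ?_
        have := hOn.conj_mem _ hcO ((el _ (five_swap_comm u v) : M) : M ⧸ Z)
        rw [← QuotientGroup.mk_inv, ← QuotientGroup.mk_mul, ← QuotientGroup.mk_mul] at this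
        convert this using 2
        exact Subtype.ext (by
          show E.hom _ = E.hom _ * E.hom c * (E.hom _)⁻¹
          rw [map_mul, map_mul, ← map_inv, Equiv.swap_inv])
    have hfix : ∀ a, σ (five a) = five a := by
      intro a
      obtain ⟨b, d, hab, had, hbd⟩ := five_pick a
      have h1 := Equiv.congr_fun (hswap a b hab) (five a)
      have h2 := Equiv.congr_fun (hswap a d had) (five a)
      rw [Equiv.swap_apply_left] at h1 h2
      rw [hf]
      by_contra hne
      have e1 : five (f a) = five b := by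
        by_contra hne'
        rw [Equiv.swap_apply_def] at h1
        split_ifs at h1 with i1 i2
        · exact hne i1.symm
        · exact hne' h1
        · exact hab (five_inj _ _ h1)
      have e2 : five (f a) = five d := by
        by_contra hne'
        rw [Equiv.swap_apply_def] at h2
        split_ifs at h2 with i1 i2
        · exact hne i1.symm
        · exact hne' h2
        · exact had (five_inj _ _ h2)
      exact hbd (five_inj _ _ (e1.symm.trans e2))
    have h4 : m * m * (m * m) = 1 := Subtype.ext (by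
      show (m : G) * m * ((m : G) * m) = 1
      rw [← hσ, ← map_mul, ← map_mul, pow_four hσc hfix, map_one])
    have hq4 : (m : M ⧸ Z) ^ 4 = 1 := by
      rw [← QuotientGroup.mk_pow, show m ^ 4 = m * m * (m * m) by
        simp only [pow_succ, pow_zero, one_mul, mul_assoc], h4, QuotientGroup.mk_one]
    have hqN := hOpow _ hm
    have hcop : Nat.Coprime (Nat.card O) (2 ^ 2) := by
      refine Nat.Coprime.pow_right 2 (Nat.coprime_two_right.mpr ⟨k, ?_⟩)
      omega
    exact orderOf_eq_one_iff.mp (Nat.eq_one_of_dvd_coprimes hcop (orderOf_dvd_of_pow_eq_one hqN)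
      (orderOf_dvd_of_pow_eq_one hq4))
  have hcentR : ∀ x ∈ O, (r : M ⧸ Z) * x = x * r → x = 1 := by
    intro x hx e
    obtain ⟨m, rfl⟩ := QuotientGroup.mk_surjective x
    refine hOH m (key m ?_) hx
    rw [QuotientGroup.mk_mul, QuotientGroup.mk_mul, QuotientGroup.mk_inv, ← e, mul_inv_cancel_right]
  have hcent3 : ∀ (p : Equiv.Perm (Fin 9)) (hp : p * tAB = tAB * p), p * p * p = 1 → p ≠ 1 →
      ∀ x ∈ O, ((el p hp : M) : M ⧸ Z) * x = x * el p hp → x = 1 := by
    intro p hp h3 h1 x hx e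
    obtain ⟨m, rfl⟩ := QuotientGroup.mk_surjective x
    refine hOH m ?_ hx
    rw [← QuotientGroup.mk_mul, ← QuotientGroup.mk_mul] at e
    have hp3 : el p hp * el p hp * el p hp = 1 := Subtype.ext (by
      show E.hom p * E.hom p * E.hom p = 1
      rw [← map_mul, ← map_mul, h3, map_one])
    refine E.three_mem h ⟨p, rfl⟩ (congrArg Subtype.val hp3)
      (fun e' => h1 (E.inj (e'.trans (map_one _).symm))) (congrArg Subtype.val (?_ : m * el p hp = el p hp * m))
    rcases (hmk _ _).mp e with h5 | h5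
    · exact h5
    · exfalso
      have h6 : m * el p hp * m⁻¹ = el p hp * t := by
        rw [h5, mul_assoc (el p hp) m t, hcen, ← mul_assoc (el p hp) t m, mul_inv_cancel_right]
      have h7 : el p hp * t * (el p hp * t) * (el p hp * t) = 1 := by
        rw [← h6, show m * el p hp * m⁻¹ * (m * el p hp * m⁻¹) * (m * el p hp * m⁻¹) =
          m * (el p hp * el p hp * el p hp) * m⁻¹ by group, hp3]
        group
      have h8 : el p hp * t * (el p hp * t) * (el p hp * t) =
          el p hp * el p hp * el p hp * (t * (t * t)) := by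
        have h9 := Commute.mul_pow (show Commute (el p hp) t from hcen _) 3
        simp only [pow_succ, pow_zero, one_mul] at h9
        rw [h9, mul_assoc t t t]
      rw [h8, hp3, one_mul, ht2, mul_one] at h7
      exact pair_facts.2.2.2.2.2.1 (E.inj ((congrArg Subtype.val h7).trans (map_one _).symm))
  -- `r` inverts `O`
  have hrr : (r : M ⧸ Z) * r = 1 := by rw [← QuotientGroup.mk_mul, hr2, QuotientGroup.mk_one]
  have hrinv : (r : M ⧸ Z)⁻¹ = r := inv_eq_of_mul_eq_one_right hrr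
  have hcomm_mem : ∀ x ∈ O, (r : M ⧸ Z) * x * r * x⁻¹ ∈ O := fun x hx => by
    have := hOn.conj_mem x hx (r : M ⧸ Z)
    rw [hrinv] at this
    exact O.mul_mem this (O.inv_mem hx)
  have hinv : ∀ y ∈ O, (r : M ⧸ Z) * y * r = y⁻¹ := by
    let Φ : O → O := fun x => ⟨_, hcomm_mem x x.2⟩
    have hΦ : Function.Injective Φ := by
      intro x y e
      have e' : (r : M ⧸ Z) * x * r * (x : M ⧸ Z)⁻¹ = (r : M ⧸ Z) * y * r * (y : M ⧸ Z)⁻¹ :=
        congrArg Subtype.val e
      have h9 := hcentR ((x : M ⧸ Z)⁻¹ * y) (O.mul_mem (O.inv_mem x.2) y.2) ?_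
      · exact Subtype.ext (inv_mul_eq_one.mp h9)
      · have e2 : (x : M ⧸ Z) * r * (x : M ⧸ Z)⁻¹ = (y : M ⧸ Z) * r * (y : M ⧸ Z)⁻¹ :=
          mul_left_cancel (a := (r : M ⧸ Z)) (by simpa only [mul_assoc] using e')
        calc (r : M ⧸ Z) * ((x : M ⧸ Z)⁻¹ * y) =
            (x : M ⧸ Z)⁻¹ * ((x : M ⧸ Z) * r * (x : M ⧸ Z)⁻¹) * y := by group
          _ = (x : M ⧸ Z)⁻¹ * y * r := by rw [e2]; group
    intro y hy
    obtain ⟨x, hx⟩ := Finite.injective_iff_surjective.mp hΦ ⟨y, hy⟩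
    rw [show y = (r : M ⧸ Z) * x * r * (x : M ⧸ Z)⁻¹ from (congrArg Subtype.val hx).symm,
      mul_inv_rev, mul_inv_rev, mul_inv_rev, hrinv, inv_inv]
    calc (r : M ⧸ Z) * ((r : M ⧸ Z) * x * r * (x : M ⧸ Z)⁻¹) * r =
        (r : M ⧸ Z) * r * ((x : M ⧸ Z) * r * (x : M ⧸ Z)⁻¹ * r) := by simp only [mul_assoc]
      _ = _ := by rw [hrr, one_mul]; simp only [mul_assoc]
  have hab : ∀ x ∈ O, ∀ y ∈ O, x * y = y * x := by
    intro x hx y hy
    have e := hinv (x * y) (O.mul_mem hx hy)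
    rw [show (r : M ⧸ Z) * (x * y) * r = (r : M ⧸ Z) * x * r * ((r : M ⧸ Z) * y * r) by
      rw [show (r : M ⧸ Z) * x * r * ((r : M ⧸ Z) * y * r) =
        (r : M ⧸ Z) * x * ((r : M ⧸ Z) * r) * y * r by simp only [mul_assoc], hrr, mul_one]
      simp only [mul_assoc], hinv x hx, hinv y hy] at e
    have e2 := congrArg (·⁻¹) e
    simp only [mul_inv_rev, inv_inv] at e2
    exact e2.symm
  letI : CommGroup O :=
    { (inferInstance : Group O) with mul_comm := fun a b => Subtype.ext (hab a a.2 b b.2) }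
  -- elements of the copy acting on `O`
  let φ : M → (O →* O) := fun m =>
    { toFun := fun x => ⟨(m : M ⧸ Z) * x * (m : M ⧸ Z)⁻¹, hOn.conj_mem _ x.2 _⟩
      map_one' := Subtype.ext (by simp)
      map_mul' := fun x y => Subtype.ext (by
        show (m : M ⧸ Z) * ((x : M ⧸ Z) * y) * (m : M ⧸ Z)⁻¹ =
          (m : M ⧸ Z) * x * (m : M ⧸ Z)⁻¹ * ((m : M ⧸ Z) * y * (m : M ⧸ Z)⁻¹)
        group) }
  have φmul : ∀ (m n : M) (x : O), φ (m * n) x = φ m (φ n x) := fun m n x => Subtype.ext (by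
    show ((m * n : M) : M ⧸ Z) * x * ((m * n : M) : M ⧸ Z)⁻¹ =
      (m : M ⧸ Z) * ((n : M ⧸ Z) * x * (n : M ⧸ Z)⁻¹) * (m : M ⧸ Z)⁻¹
    rw [QuotientGroup.mk_mul]; group)
  have φone : ∀ x : O, φ 1 x = x := fun x => Subtype.ext (by
    show ((1 : M) : M ⧸ Z) * x * ((1 : M) : M ⧸ Z)⁻¹ = x
    rw [QuotientGroup.mk_one]; group)
  have el_mul : ∀ p q hp hq hpq, el (p * q) hpq = el p hp * el q hq := fun p q hp hq hpq =>
    Subtype.ext (map_mul E.hom p q)
  have el_one : ∀ p hp, p = 1 → el p hp = 1 := fun p hp e => Subtype.ext (by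
    show E.hom p = 1
    rw [e, map_one])
  have hfpf : ∀ (p : Equiv.Perm (Fin 9)) (hp : p * tAB = tAB * p), p * p * p = 1 → p ≠ 1 →
      ∀ x : O, x * φ (el p hp) x * φ (el p hp) (φ (el p hp) x) = 1 := by
    intro p hp h3 h1 x
    have hfix : φ (el p hp) (x * φ (el p hp) x * φ (el p hp) (φ (el p hp) x)) =
        x * φ (el p hp) x * φ (el p hp) (φ (el p hp) x) := by
      have h33 : el p hp * (el p hp * el p hp) = 1 := Subtype.ext (by
        show E.hom p * (E.hom p * E.hom p) = 1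
        rw [← map_mul, ← map_mul, ← mul_assoc, h3, map_one])
      rw [map_mul, map_mul, ← φmul (el p hp) (el p hp), ← φmul (el p hp) (el p hp * el p hp), h33,
        φone]
      rw [φmul, mul_comm, ← mul_assoc]
    refine Subtype.ext (hcent3 p hp h3 h1 _ (SetLike.coe_mem _) ?_)
    exact mul_inv_eq_iff_eq_mul.mp (congrArg Subtype.val hfix)
  -- the double transpositions centralise `O`
  have hklein : ∀ (e : Fin 2) (ha : swap (2 : Fin 9) 3 * swap 4 (![5, 6] e) * tAB =
      tAB * (swap (2 : Fin 9) 3 * swap 4 (![5, 6] e))) (x : O),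
      φ (el _ ha) x = x := by
    intro e ha x
    obtain ⟨-, hb, hc, ha2, hcom, hc3, hc1, hac3, hac1, hbc3, hbc1, habc3, habc1, s1, s2, s3⟩ :=
      klein_facts e
    obtain ⟨a, hadef⟩ : ∃ a, a = swap (2 : Fin 9) 3 * swap 4 (![5, 6] e) := ⟨_, rfl⟩
    obtain ⟨b, hbdef⟩ : ∃ b, b = swap (2 : Fin 9) 4 * swap 3 (![5, 6] e) := ⟨_, rfl⟩
    obtain ⟨c, hcdef⟩ : ∃ c, c = swap (3 : Fin 9) 4 * swap 4 (![5, 6] e) := ⟨_, rfl⟩
    simp only [← hadef, ← hbdef, ← hcdef] at ha hb hc ha2 hcom hc3 hc1 hac3 hac1 hbc3 hbc1 habc3 habc1 s1 s2 s3 ⊢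
    have mulc : ∀ {p q : Equiv.Perm (Fin 9)}, p * tAB = tAB * p → q * tAB = tAB * q →
        p * q * tAB = tAB * (p * q) := fun {p q} hp hq => by
      rw [mul_assoc, hq, ← mul_assoc, hp, mul_assoc]
    have habm := mulc ha hb
    have key : ∀ (v v' : Equiv.Perm (Fin 9)) (hv : v * tAB = tAB * v) (hv' : v' * tAB = tAB * v'),
        (v * c) * (v * c) * (v * c) = 1 → v * c ≠ 1 → v * c * (v * c) = v' * (c * c) → ∀ y : O,
        y * φ (el v hv) (φ (el c hc) y) * φ (el v' hv') (φ (el c hc) (φ (el c hc) y)) = 1 := by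
      intro v v' hv hv' h3 h1 hs y
      have := hfpf (v * c) (mulc hv hc) h3 h1 y
      rw [← φmul, show el (v * c) (mulc hv hc) * el (v * c) (mulc hv hc) =
          el v' hv' * (el c hc * el c hc) from Subtype.ext (by
            show E.hom (v * c) * E.hom (v * c) = E.hom v' * (E.hom c * E.hom c)
            rw [← map_mul, ← map_mul, ← map_mul, hs]),
        el_mul v c hv hc (mulc hv hc), φmul, φmul, φmul] at this
      exact this
    have h4 := A4_trick (φ (el a ha)) (φ (el b hb)) (φ (el (a * b) habm)) (φ (el c hc))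
      (hfpf c hc hc3 hc1) (key a (a * b) ha habm hac3 hac1 s1) (key b a hb ha hbc3 hbc1 s2)
      (key (a * b) b habm hb habc3 habc1 s3)
    have haa : el a ha * el a ha = 1 := Subtype.ext (by
      show E.hom a * E.hom a = 1
      rw [← map_mul, ha2, map_one])
    have hfix4 : ∀ y : O, φ (el a ha) (y ^ 4) = y ^ 4 := by
      intro y
      rw [h4, map_mul, map_mul, map_mul, ← φmul (el a ha) (el a ha), haa, φone,
        ← φmul (el a ha) (el b hb), ← el_mul a b ha hb habm, el_mul a b ha hb habm,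
        ← φmul (el a ha) (el a ha * el b hb), ← mul_assoc (el a ha) (el a ha), haa, one_mul]
      ac_rfl
    have hcop : Nat.Coprime (Nat.card O) 4 := by
      rw [show (4 : ℕ) = 2 ^ 2 from rfl]
      exact Nat.Coprime.pow_right 2 (Nat.coprime_two_right.mpr hodd)
    obtain ⟨y, hy⟩ := (powCoprime hcop).surjective x
    rw [powCoprime_apply] at hy
    rw [← hy]
    exact hfix4 y
  have hbot : ∀ x ∈ O, x = 1 := by
    intro x hx
    obtain ⟨h3, h1, hpc⟩ := klein_prod
    refine hcent3 _ hpc h3 h1 x hx ?_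
    have h5 := hklein 0 (klein_facts 0).1 ⟨x, hx⟩
    have h6 := hklein 1 (klein_facts 1).1 ⟨x, hx⟩
    have h7 : φ (el _ hpc) ⟨x, hx⟩ = ⟨x, hx⟩ := by
      refine (congrArg (fun m => φ m ⟨x, hx⟩) ?_).trans ((φmul _ _ _).trans
        ((congrArg (φ _) h6).trans h5))
      exact el_mul _ _ (klein_facts 0).1 (klein_facts 1).1 hpc
    exact mul_inv_eq_iff_eq_mul.mp (congrArg Subtype.val h7)
  -- conclusion
  let m₀ : M := ⟨g, Subgroup.mem_centralizer_singleton_iff.mpr hg⟩
  refine key m₀ ?_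
  have hz := hbot _ (hO ▸ CfsgLib.Invol.zstar (M ⧸ Z) hiso (m₀ : M ⧸ Z))
  rw [QuotientGroup.mk_mul, QuotientGroup.mk_mul, QuotientGroup.mk_inv]
  rw [mul_inv_eq_one, mul_inv_eq_iff_eq_mul] at hz
  rw [← hz, mul_inv_cancel_right]

end NineEmb

end CfsgLib.Recog.SymNine
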