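import Cfsg.Agent.Lib.Recog.SymNine.Group
import Cfsg.Agent.Lib.Recog.SymNine.NineEmb

/-!
A copy of `S₉` containing the centralisers of the points of the cube is strongly 3-embedded, and
controls the fusion of its involutions.
-/

set_option autoImplicit false

namespace CfsgLib.Recog.SymNine

universe u

open Equiv (swap)

variable {G : Type u} [Group G] [Finite G] {C : Cube G allX}

theorem weight_one : ∀ v : V, v ≠ 0 → weight v < 2 →
    ∃ i : Fin 3, v = ![e0, e1, e2] i ∨ v = -(![e0, e1, e2] i) := by decide +kernel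

theorem cycleType_reps : Equiv.Perm.cycleType (emb e0 0) = {3} ∧
    Equiv.Perm.cycleType (emb (1, 1, 0) 0) = {3, 3} ∧
    Equiv.Perm.cycleType (emb x0 0) = {3, 3, 3} := by decide +kernel

/-- every element of order three of `S₉` is conjugate to a translation -/
theorem exists_conj_point {σ : Equiv.Perm (Fin 9)} (h3 : σ * σ * σ = 1) (h1 : σ ≠ 1) :
    ∃ v : V, v ≠ 0 ∧ ∃ p : Equiv.Perm (Fin 9), p * σ * p⁻¹ = emb v 0 := by
  have hord : orderOf σ = 3 := by
    haveI : Fact (Nat.Prime 3) := ⟨Nat.prime_three⟩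
    exact orderOf_eq_prime (by rw [pow_succ, pow_two, h3]) h1
  obtain ⟨n, hn⟩ := Equiv.Perm.cycleType_prime_order (σ := σ) (by rw [hord]; exact Nat.prime_three)
  rw [hord] at hn
  have hsum : σ.cycleType.sum ≤ 9 := by
    rw [Equiv.Perm.sum_cycleType]
    exact (Finset.card_le_univ _).trans_eq (Fintype.card_fin 9)
  rw [hn, Multiset.sum_replicate, smul_eq_mul] at hsum
  obtain ⟨r1, r2, r3⟩ := cycleType_reps
  obtain rfl | rfl | rfl : n = 0 ∨ n = 1 ∨ n = 2 := by omega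
  · obtain ⟨p, hp⟩ := isConj_iff.mp
      (Equiv.Perm.isConj_iff_cycleType_eq.mpr (hn.trans r1.symm))
    exact ⟨e0, by decide, p, hp⟩
  · obtain ⟨p, hp⟩ := isConj_iff.mp
      (Equiv.Perm.isConj_iff_cycleType_eq.mpr (hn.trans r2.symm))
    exact ⟨(1, 1, 0), by decide, p, hp⟩
  · obtain ⟨p, hp⟩ := isConj_iff.mp
      (Equiv.Perm.isConj_iff_cycleType_eq.mpr (hn.trans r3.symm))
    exact ⟨x0, by decide, p, hp⟩

namespace NineEmb

variable (E : NineEmb C)

theorem commute_iff {σ π : Equiv.Perm (Fin 9)} :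
    Commute (E.hom σ) (E.hom π) ↔ σ * π = π * σ := by
  show E.hom σ * E.hom π = E.hom π * E.hom σ ↔ _
  rw [← map_mul, ← map_mul]
  exact E.inj.eq_iff

theorem point_mem (h : C.SixCase) {v : V} (hv : v ≠ 0) {g : G} (hg : Commute g (C.pt v)) :
    g ∈ E.hom.range := by
  rcases Nat.lt_or_ge (weight v) 2 with hw | hw
  · obtain ⟨i, rfl | rfl⟩ := weight_one v hv hw
    · exact E.centralizer_mem i g hg
    · rw [C.pt_neg] at hg
      exact E.centralizer_mem i g (Commute.inv_right_iff.mp hg)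
  · exact E.norms_mem g (h.middle v hw g hg)

theorem point_strong (h : C.SixCase) {v w : V} (hw : w ≠ 0) {g : G}
    (hg : g * C.pt v * g⁻¹ = C.pt w) : g ∈ E.hom.range := by
  obtain ⟨k, hk, hkg⟩ := C.fusion' hg
  have := mul_mem (inv_mem (E.point_mem h hw hk)) (E.norms_mem _ hkg)
  rwa [inv_mul_cancel_left] at this

theorem cube_hom {σ : Equiv.Perm (Fin 9)} (h3 : σ * σ * σ = 1) (h1 : σ ≠ 1) :
    ∃ v : V, v ≠ 0 ∧ ∃ a ∈ E.hom.range, a * E.hom σ * a⁻¹ = C.pt v := by
  obtain ⟨v, hv, p, hp⟩ := exists_conj_point h3 h1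
  exact ⟨v, hv, E.hom p, ⟨p, rfl⟩, by rw [← E.hom_pt, ← hp, map_mul, map_mul, map_inv]⟩

theorem three_cube {t : G} (ht : t ∈ E.hom.range) (h3 : t * t * t = 1) (h1 : t ≠ 1) :
    ∃ v : V, v ≠ 0 ∧ ∃ a ∈ E.hom.range, a * t * a⁻¹ = C.pt v := by
  obtain ⟨σ, rfl⟩ := ht
  refine E.cube_hom (E.inj ?_) (fun e => h1 (by rw [e, map_one]))
  rw [map_mul, map_mul, map_one, h3]

/-- the centraliser of an element of order three of the copy lies in it -/
theorem three_mem (h : C.SixCase) {t : G} (ht : t ∈ E.hom.range) (h3 : t * t * t = 1) (h1 : t ≠ 1)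
    {g : G} (hg : g * t = t * g) : g ∈ E.hom.range := by
  obtain ⟨v, hv, a, ha, he⟩ := E.three_cube ht h3 h1
  have hc : Commute (a * g * a⁻¹) (C.pt v) := by
    rw [← he]
    show a * g * a⁻¹ * (a * t * a⁻¹) = a * t * a⁻¹ * (a * g * a⁻¹)
    calc a * g * a⁻¹ * (a * t * a⁻¹) = a * (g * t) * a⁻¹ := by group
      _ = a * (t * g) * a⁻¹ := by rw [hg]
      _ = _ := by group
  have := mul_mem (mul_mem (inv_mem ha) (E.point_mem h hv hc)) ha
  simpa [mul_assoc] using this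

/-- elements of order three of the copy are conjugate in it only by its own elements -/
theorem three_strong (h : C.SixCase) {t : G} (ht : t ∈ E.hom.range) (h3 : t * t * t = 1)
    (h1 : t ≠ 1) {g : G} (hg : g * t * g⁻¹ ∈ E.hom.range) : g ∈ E.hom.range := by
  obtain ⟨v, -, a, ha, he⟩ := E.three_cube ht h3 h1
  obtain ⟨w, hw, b, hb, he'⟩ := E.three_cube hg
    (by rw [show g * t * g⁻¹ * (g * t * g⁻¹) * (g * t * g⁻¹) = g * (t * t * t) * g⁻¹ by group, h3];
        group)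
    (fun e => h1 (conj_eq_one_iff.mp e))
  have := E.point_strong h hw (g := b * g * a⁻¹) (v := v) (by rw [← he, ← he']; group)
  have := mul_mem (mul_mem (inv_mem hb) this) ha
  simpa [mul_assoc] using this

/-- fusion of elements with a centralising element of order three -/
theorem fusion_of_three (h : C.SixCase) {σ π ρ η : Equiv.Perm (Fin 9)}
    (hρ : ρ * σ = σ * ρ) (hρ3 : ρ * ρ * ρ = 1) (hρ1 : ρ ≠ 1)
    (hη : η * π = π * η) (hη3 : η * η * η = 1) (hη1 : η ≠ 1)
    {g : G} (hg : g * E.hom σ * g⁻¹ = E.hom π) :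
    ∃ p : Equiv.Perm (Fin 9), p * σ * p⁻¹ = π := by
  haveI : Fact (Nat.Prime 3) := ⟨Nat.prime_three⟩
  let M : Subgroup G := Subgroup.centralizer {E.hom π}
  have hηM : E.hom η ∈ M := Subgroup.mem_centralizer_singleton_iff.mpr (E.commute_iff.mpr hη).eq
  have hcube : ∀ {a : Equiv.Perm (Fin 9)}, a * a * a = 1 → E.hom a * E.hom a * E.hom a = 1 :=
    fun {a} ha => by rw [← map_mul, ← map_mul, ha, map_one]
  have hne : ∀ {a : Equiv.Perm (Fin 9)}, a ≠ 1 → E.hom a ≠ 1 :=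
    fun {a} ha e => ha (E.inj (by rw [e, map_one]))
  have hz : IsPGroup 3 (Subgroup.zpowers (⟨E.hom η, hηM⟩ : M)) := by
    refine IsPGroup.of_card (n := 1) ?_
    rw [Nat.card_zpowers, pow_one]
    exact orderOf_eq_prime (Subtype.ext (by
      show E.hom η ^ 3 = 1
      rw [pow_succ, pow_two, hcube hη3])) (fun e => hne hη1 (congrArg Subtype.val e))
  obtain ⟨Q, hQ⟩ := hz.exists_le_sylow
  have hηQ : (⟨E.hom η, hηM⟩ : M) ∈ Q := hQ (Subgroup.mem_zpowers _)
  -- the whole Sylow subgroup lies in the copy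
  have hQH : ∀ q ∈ Q, (q : G) ∈ E.hom.range := by
    haveI : Nontrivial Q := ⟨⟨_, hηQ⟩, 1, fun e => hne hη1
      (congrArg (fun q : Q => ((q : M) : G)) e)⟩
    haveI := Q.isPGroup'.center_nontrivial
    obtain ⟨⟨z, hz'⟩, hz1⟩ := exists_ne (1 : Subgroup.center Q)
    obtain ⟨k, hk⟩ := Q.isPGroup' z
    have hzo : orderOf z ∣ 3 ^ k := orderOf_dvd_of_pow_eq_one hk
    obtain ⟨i, -, hi⟩ := (Nat.dvd_prime_pow Nat.prime_three).mp hzo
    have hi0 : i ≠ 0 := by
      rintro rfl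
      exact hz1 (Subtype.ext (orderOf_eq_one_iff.mp (by simpa using hi)))
    obtain ⟨y, hyc, hyo⟩ : ∃ y ∈ Subgroup.center Q, orderOf y = 3 := by
      refine ⟨z ^ (3 ^ (i - 1)), pow_mem hz' _, ?_⟩
      rw [orderOf_pow' z (pow_ne_zero _ (by norm_num)), hi,
        Nat.gcd_eq_right (pow_dvd_pow 3 (Nat.sub_le i 1)),
        Nat.pow_div (Nat.sub_le i 1) (by norm_num), show i - (i - 1) = 1 by omega, pow_one]
    have hy3 : ((y : M) : G) * (y : M) * (y : M) = 1 := by
      have e := pow_orderOf_eq_one y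
      rw [hyo, pow_succ, pow_two] at e
      exact congrArg (fun q : Q => ((q : M) : G)) e
    have hy1 : ((y : M) : G) ≠ 1 := fun e => by
      rw [show y = 1 from Subtype.ext (Subtype.ext e), orderOf_one] at hyo
      exact absurd hyo (by norm_num)
    have hcy : ∀ q : Q, ((q : M) : G) * (y : M) = (y : M) * (q : M) := fun q =>
      congrArg (fun q : Q => ((q : M) : G)) (Subgroup.mem_center_iff.mp hyc q)
    have hyH : ((y : M) : G) ∈ E.hom.range :=
      E.three_mem h ⟨η, rfl⟩ (hcube hη3) (hne hη1) (hcy ⟨_, hηQ⟩).symm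
    exact fun q hq => E.three_mem h hyH hy3 hy1 (hcy ⟨q, hq⟩)
  -- move the conjugated element of order three into it
  have hgρ : g * E.hom ρ * g⁻¹ ∈ M := Subgroup.mem_centralizer_singleton_iff.mpr (by
    rw [← hg]
    calc g * E.hom ρ * g⁻¹ * (g * E.hom σ * g⁻¹) = g * (E.hom ρ * E.hom σ) * g⁻¹ := by group
      _ = g * (E.hom σ * E.hom ρ) * g⁻¹ := by rw [(E.commute_iff.mpr hρ).eq]
      _ = _ := by group)
  have hz2 : IsPGroup 3 (Subgroup.zpowers (⟨_, hgρ⟩ : M)) := by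
    refine IsPGroup.of_card (n := 1) ?_
    rw [Nat.card_zpowers, pow_one]
    exact orderOf_eq_prime (Subtype.ext (by
      show (g * E.hom ρ * g⁻¹) ^ 3 = 1
      rw [conj_pow, pow_succ, pow_two, hcube hρ3]; group))
      (fun e => hne hρ1 (conj_eq_one_iff.mp (congrArg Subtype.val e)))
  obtain ⟨R, hR⟩ := hz2.exists_le_sylow
  obtain ⟨m, hm⟩ := MulAction.exists_smul_eq M R Q
  have hmem : m * ⟨_, hgρ⟩ * m⁻¹ ∈ Q := by
    rw [← hm]
    exact ⟨_, hR (Subgroup.mem_zpowers _), rfl⟩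
  have hmg : (m : G) * g ∈ E.hom.range := by
    refine E.three_strong h ⟨ρ, rfl⟩ (hcube hρ3) (hne hρ1) ?_
    have := hQH _ hmem
    rwa [show ((m : G) * g) * E.hom ρ * ((m : G) * g)⁻¹ =
      (m : G) * (g * E.hom ρ * g⁻¹) * (m : G)⁻¹ by group]
  obtain ⟨p, hp⟩ := hmg
  refine ⟨p, E.inj ?_⟩
  rw [map_mul, map_mul, map_inv, hp]
  calc (m : G) * g * E.hom σ * ((m : G) * g)⁻¹ = (m : G) * (g * E.hom σ * g⁻¹) * (m : G)⁻¹ := by
        group
    _ = E.hom π := by
        rw [hg, Subgroup.mem_centralizer_singleton_iff.mp m.2, mul_inv_cancel_right]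

end NineEmb

end CfsgLib.Recog.SymNine
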